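import Mathlib

/-!
# Local rings of fibres (helper9)

* `exists_lift_fiber` : the canonical morphism `Spec (O_{X,x}/m_{f x} O_{X,x}) ⟶ X_s`, `s = f x`.
* `maximalIdeal_stalk_Spec_field` : the stalks of the spectrum of a field are fields.
* `stalkMap_fiberι_surjective_and_ker_eq` : `O_{X,x} → O_{X_s,y}` is surjective with kernel
  `m_s O_{X,x}` (`x` the image of `y`).
* `fiberStalkEquiv` : `O_{X,x} ⧸ m_s O_{X,x} ≃+* O_{X_s,y}`.
-/

set_option autoImplicit false
set_option linter.style.haveILetI false
universe u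
open IsLocalRing CategoryTheory AlgebraicGeometry Limits

namespace Groth.Agent.H9

/-- The canonical morphism `Spec (O_{X,x}/m_{f x} O_{X,x}) ⟶ X_s` (`s = f x`). -/
theorem exists_lift_fiber {X S : Scheme.{u}} (f : X ⟶ S) (s : S) (x : X) (hs : f x = s) :
    ∃ g : Spec (CommRingCat.of (X.presheaf.stalk x ⧸
        (maximalIdeal (S.presheaf.stalk (f x))).map (f.stalkMap x).hom)) ⟶ f.fiber s,
      g ≫ f.fiberι s = Spec.map (CommRingCat.ofHom (Ideal.Quotient.mk
        ((maximalIdeal (S.presheaf.stalk (f x))).map (f.stalkMap x).hom))) ≫ X.fromSpecStalk x := by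
  subst hs
  let φ : S.presheaf.stalk (f x) ⟶ X.presheaf.stalk x := f.stalkMap x
  let I : Ideal (X.presheaf.stalk x) := (maximalIdeal (S.presheaf.stalk (f x))).map φ.hom
  let C : CommRingCat := CommRingCat.of (X.presheaf.stalk x ⧸ I)
  let q : X.presheaf.stalk x ⟶ C := CommRingCat.ofHom (Ideal.Quotient.mk I)
  let ψ : S.residueField (f x) ⟶ C := CommRingCat.ofHom
    (Ideal.Quotient.lift (maximalIdeal (S.presheaf.stalk (f x))) (q.hom.comp φ.hom) (by
      intro a ha
      exact Ideal.Quotient.eq_zero_iff_mem.mpr (Ideal.mem_map_of_mem _ ha)))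
  have hψ : S.residue (f x) ≫ ψ = φ ≫ q := by
    ext a
    rfl
  have hcompat : (Spec.map q ≫ X.fromSpecStalk x) ≫ f =
      Spec.map ψ ≫ S.fromSpecResidueField (f x) := by
    have h1 : Spec.map ψ ≫ S.fromSpecResidueField (f x) =
        Spec.map (S.residue (f x) ≫ ψ) ≫ S.fromSpecStalk (f x) := by
      rw [Scheme.fromSpecResidueField, Spec.map_comp_assoc]
    have h2 : (Spec.map q ≫ X.fromSpecStalk x) ≫ f =
        Spec.map (f.stalkMap x ≫ q) ≫ S.fromSpecStalk (f x) := by
      rw [Category.assoc, ← Scheme.SpecMap_stalkMap_fromSpecStalk, Spec.map_comp_assoc]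
    rw [h1, h2, hψ]
  exact ⟨pullback.lift (Spec.map q ≫ X.fromSpecStalk x) (Spec.map ψ) hcompat,
    pullback.lift_fst _ _ _⟩

/-- The stalk of the spectrum of a field is a field. -/
theorem maximalIdeal_stalk_Spec_field (K : CommRingCat.{u}) (hK : IsField K) (pt : Spec K) :
    maximalIdeal ((Spec K).presheaf.stalk pt) = ⊥ := by
  letI := hK.toField
  haveI : IsLocalRing K := inferInstance
  have hpt : pt = (closedPoint K : Spec K) := by
    haveI : Subsingleton (PrimeSpectrum K) := inferInstance
    exact Subsingleton.elim (α := PrimeSpectrum K) _ _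
  let e : (Spec K).presheaf.stalk pt ≅ K :=
    (Spec K).presheaf.stalkCongr (.of_eq hpt) ≪≫ stalkClosedPointIso K
  rw [← IsLocalRing.isField_iff_maximalIdeal_eq]
  exact e.commRingCatIsoToRingEquiv.toMulEquiv.isField hK

/-- The local ring of the fibre: `O_{X,x} → O_{X_s,y}` is surjective with kernel `m_s O_{X,x}`. -/
theorem stalkMap_fiberι_surjective_and_ker_eq
    {X S : Scheme.{u}} (f : X ⟶ S) (s : S) (y : ↥(f.fiber s)) :
    Function.Surjective ((f.fiberι s).stalkMap y).hom ∧
      RingHom.ker ((f.fiberι s).stalkMap y).hom =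
        Ideal.map (f.stalkMap ((f.fiberι s).base y)).hom
          (IsLocalRing.maximalIdeal (S.presheaf.stalk (f.base ((f.fiberι s).base y)))) := by
  refine ⟨(f.fiberι s).stalkMap_surjective y, le_antisymm ?_ ?_⟩
  · intro b hb
    rw [RingHom.mem_ker] at hb
    have hs : f ((f.fiberι s) y) = s := by
      have : (f.fiberι s) y ∈ Set.range (f.fiberι s) := ⟨y, rfl⟩
      rw [Scheme.Hom.range_fiberι] at this
      exact this
    obtain ⟨g, hg⟩ := exists_lift_fiber f s ((f.fiberι s) y) hs
    have hIne : (maximalIdeal (S.presheaf.stalk (f ((f.fiberι s) y)))).map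
        (f.stalkMap ((f.fiberι s) y)).hom ≠ ⊤ :=
      (IsLocalRing.map_maximalIdeal_lt_top (f.stalkMap ((f.fiberι s) y)).hom).ne
    generalize hI : (maximalIdeal (S.presheaf.stalk (f ((f.fiberι s) y)))).map
        (f.stalkMap ((f.fiberι s) y)).hom = I at g hg hIne
    let C : CommRingCat := CommRingCat.of (X.presheaf.stalk ((f.fiberι s) y) ⧸ I)
    haveI : Nontrivial C := Ideal.Quotient.nontrivial_iff.mpr hIne
    haveI : IsLocalRing C :=
      IsLocalRing.of_surjective' (Ideal.Quotient.mk I) Ideal.Quotient.mk_surjective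
    let q : X.presheaf.stalk ((f.fiberι s) y) ⟶ C := CommRingCat.ofHom (Ideal.Quotient.mk I)
    haveI : IsLocalHom q.hom := IsLocalHom.of_surjective _ Ideal.Quotient.mk_surjective
    have hgc : g (closedPoint C) = y := by
      apply (f.fiberι s).isEmbedding.injective
      change (g ≫ f.fiberι s) (closedPoint C) = _
      rw [hg]
      change X.fromSpecStalk _ (Spec.map q (closedPoint C)) = _
      rw [Spec_closedPoint, Scheme.fromSpecStalk_closedPoint]
    obtain ⟨h₁, h₂⟩ : ∃ h₁ : (g ≫ f.fiberι s) (closedPoint C) = (f.fiberι s) y,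
        Scheme.stalkClosedPointTo (g ≫ f.fiberι s) =
          (X.presheaf.stalkCongr (.of_eq h₁)).hom ≫ q := by
      have key : ∀ h : Spec C ⟶ X, h = Spec.map q ≫ X.fromSpecStalk ((f.fiberι s) y) →
          ∃ h₁ : h (closedPoint C) = (f.fiberι s) y, Scheme.stalkClosedPointTo h =
            (X.presheaf.stalkCongr (.of_eq h₁)).hom ≫ q := by
        rintro _ rfl
        have h := (SpecToEquivOfLocalRing X C).right_inv ⟨(f.fiberι s) y, q, inferInstance⟩
        exact SpecToEquivOfLocalRing_eq_iff.mp h
      exact key _ hg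
    rw [Scheme.stalkClosedPointTo_comp] at h₂
    have hpt := (f.fiberι s).stalkMap_congr_point (g (closedPoint C)) y hgc
    set b' := (X.presheaf.stalkCongr (.of_eq h₁)).inv.hom b with hb'
    have hbb' : (X.presheaf.stalkCongr (.of_eq h₁)).hom.hom b' = b := by
      rw [hb']
      exact congr($((X.presheaf.stalkCongr (.of_eq h₁)).inv_hom_id) b)
    have h7 : ((f.fiberι s).stalkMap (g (closedPoint C))).hom b' = 0 := by
      have inj := (ConcreteCategory.bijective_of_isIso
        ((f.fiber s).presheaf.stalkCongr (.of_eq hgc)).hom).1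
      apply inj
      rw [map_zero]
      have := congr($hpt b')
      refine this.trans ?_
      change ((f.fiberι s).stalkMap y).hom ((X.presheaf.stalkCongr _).hom.hom b') = 0
      rw [hbb', hb]
    have h8 : q.hom b = 0 := by
      rw [← hbb']
      have := congr($h₂ b')
      refine this.symm.trans ?_
      change (Scheme.stalkClosedPointTo g).hom
        (((f.fiberι s).stalkMap (g (closedPoint C))).hom b') = 0
      rw [h7, map_zero]
    exact Ideal.Quotient.eq_zero_iff_mem.mp h8
  · rw [Ideal.map_le_iff_le_comap]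
    intro a ha
    rw [Ideal.mem_comap, RingHom.mem_ker]
    have hfac : f.fiberι s ≫ f = f.fiberToSpecResidueField s ≫ S.fromSpecResidueField s :=
      f.fiber_fac s
    have h4 := Scheme.Hom.stalkMap_congr_hom _ _ hfac y
    rw [Scheme.Hom.stalkMap_comp, Scheme.Hom.stalkMap_comp] at h4
    have h5 : ((f.fiberι s).stalkMap y).hom ((f.stalkMap ((f.fiberι s) y)).hom a) =
        (f.stalkMap ((f.fiberι s) y) ≫ (f.fiberι s).stalkMap y).hom a := rfl
    refine h5.trans ?_
    rw [h4]
    set e := (S.presheaf.stalkCongr (Inseparable.of_eq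
      (hfac ▸ rfl : (f.fiberι s ≫ f) y =
        (f.fiberToSpecResidueField s ≫ S.fromSpecResidueField s) y))).hom with he
    haveI : IsLocalHom e.hom := by rw [he]; exact isLocalHom_of_isIso _
    have ha' : e.hom a ∈ maximalIdeal _ := _root_.map_nonunit e.hom a ha
    have h6 := _root_.map_nonunit
      ((S.fromSpecResidueField s).stalkMap (f.fiberToSpecResidueField s y)).hom _ ha'
    rw [maximalIdeal_stalk_Spec_field _ (Field.toIsField _)] at h6
    change ((f.fiberToSpecResidueField s).stalkMap y).hom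
      (((S.fromSpecResidueField s).stalkMap (f.fiberToSpecResidueField s y)).hom (e.hom a)) = 0
    rw [(Ideal.mem_bot).mp h6, map_zero]

/-- `O_{X,x} ⧸ m_s O_{X,x} ≃+* O_{X_s,y}`. -/
noncomputable def fiberStalkEquiv {X S : Scheme.{u}} (f : X ⟶ S) (s : S) (y : ↥(f.fiber s)) :
    (X.presheaf.stalk ((f.fiberι s).base y) ⧸
      Ideal.map (f.stalkMap ((f.fiberι s).base y)).hom
        (IsLocalRing.maximalIdeal (S.presheaf.stalk (f.base ((f.fiberι s).base y))))) ≃+*
      (f.fiber s).presheaf.stalk y :=
  (Ideal.quotEquivOfEq (stalkMap_fiberι_surjective_and_ker_eq f s y).2.symm).trans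
    (RingHom.quotientKerEquivOfSurjective (stalkMap_fiberι_surjective_and_ker_eq f s y).1)

end Groth.Agent.H9
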