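import Mathlib
import Groth.Agent.H54.IntegralDim
import Groth.Agent.H29.TopDim

/-!
# Dimension and extension of the base field

* `ringKrullDim_tensor_field`: `dim (K ⊗[k] A) = dim A` for `A` of finite type over a field `k`.
* `topologicalKrullDim_le_iSup_of_cover`, `topologicalKrullDim_eq_of_cover`: dimension and open covers.
* `topologicalKrullDim_eq_of_isPullback_field`: for `Z` locally of finite type over a field `K₀` and a
  field extension `K₀ → K₁`, the base change of `Z` to `K₁` has the same dimension as `Z`.
-/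

set_option autoImplicit false
set_option linter.style.haveILetI false
universe u
open TensorProduct

namespace Groth.Agent.H9.DimBaseField

/-- The base change of an integral map is integral. -/
theorem isIntegral_map {k K P A : Type u} [Field k] [Field K] [Algebra k K] [CommRing P]
    [Algebra k P] [CommRing A] [Algebra k A] (g : P →ₐ[k] A) (hg : g.toRingHom.IsIntegral) :
    (Algebra.TensorProduct.map (AlgHom.id K K) g).toRingHom.IsIntegral := by
  set G := Algebra.TensorProduct.map (AlgHom.id K K) g with hG
  intro x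
  induction x using TensorProduct.induction_on with
  | zero => exact G.toRingHom.isIntegralElem_zero
  | add x y hx hy => exact RingHom.IsIntegralElem.add _ hx hy
  | tmul c a =>
    have h1 : c ⊗ₜ[k] a = (c ⊗ₜ[k] (1 : A)) * ((1 : K) ⊗ₜ[k] a) := by
      rw [Algebra.TensorProduct.tmul_mul_tmul, mul_one, one_mul]
    rw [h1]
    apply RingHom.IsIntegralElem.mul
    · have : c ⊗ₜ[k] (1 : A) = G.toRingHom (c ⊗ₜ[k] (1 : P)) := by
        simp [hG]
      rw [this]
      exact G.toRingHom.isIntegralElem_map
    · obtain ⟨p, hp, hpa⟩ := hg a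
      refine ⟨p.map (Algebra.TensorProduct.includeRight : P →ₐ[k] K ⊗[k] P).toRingHom,
        hp.map _, ?_⟩
      rw [Polynomial.eval₂_map]
      have hcomp : G.toRingHom.comp
          (Algebra.TensorProduct.includeRight : P →ₐ[k] K ⊗[k] P).toRingHom =
          (Algebra.TensorProduct.includeRight : A →ₐ[k] K ⊗[k] A).toRingHom.comp g.toRingHom := by
        ext r
        simp [hG]
      rw [hcomp]
      have h2 : ((1 : K) ⊗ₜ[k] a) =
          (Algebra.TensorProduct.includeRight : A →ₐ[k] K ⊗[k] A).toRingHom a := rfl
      rw [h2, ← Polynomial.hom_eval₂, hpa, map_zero]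

theorem injective_map {k K P A : Type u} [Field k] [Field K] [Algebra k K] [CommRing P]
    [Algebra k P] [CommRing A] [Algebra k A] (g : P →ₐ[k] A) (hg : Function.Injective g) :
    Function.Injective (Algebra.TensorProduct.map (AlgHom.id K K) g) := by
  have h := Module.Flat.lTensor_preserves_injective_linearMap (M := K) g.toLinearMap hg
  have : (⇑(Algebra.TensorProduct.map (AlgHom.id K K) g) : K ⊗[k] P → K ⊗[k] A) =
      ⇑(g.toLinearMap.lTensor K) := by
    ext x
    induction x using TensorProduct.induction_on with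
    | zero => simp
    | tmul c a => simp
    | add x y hx hy => rw [map_add, map_add, hx, hy]
  rw [this]
  exact h

/-- Extending the base field does not change the dimension of a finite type algebra. -/
theorem ringKrullDim_tensor_field (k A K : Type u) [Field k] [CommRing A] [Algebra k A]
    [Algebra.FiniteType k A] [Field K] [Algebra k K] :
    ringKrullDim (K ⊗[k] A) = ringKrullDim A := by
  by_cases hA : Nontrivial A
  · obtain ⟨s, g, hinj, hfin⟩ := exists_finite_inj_algHom_of_fg k A
    have h1 : ringKrullDim A = ringKrullDim (MvPolynomial (Fin s) k) :=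
      Groth.Agent.H54.ringKrullDim_eq_of_ringHom_isIntegral_of_injective g.toRingHom
        hfin.to_isIntegral hinj
    have h2 : ringKrullDim (K ⊗[k] A) = ringKrullDim (K ⊗[k] MvPolynomial (Fin s) k) :=
      Groth.Agent.H54.ringKrullDim_eq_of_ringHom_isIntegral_of_injective
        (Algebra.TensorProduct.map (AlgHom.id K K) g).toRingHom
        (isIntegral_map g hfin.to_isIntegral) (injective_map g hinj)
    have h3 : ringKrullDim (K ⊗[k] MvPolynomial (Fin s) k) =
        ringKrullDim (MvPolynomial (Fin s) K) :=
      ringKrullDim_eq_of_ringEquiv (MvPolynomial.algebraTensorAlgEquiv k K).toRingEquiv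
    rw [h1, h2, h3, Groth.Agent.H54.ringKrullDim_mvPolynomial_field,
      Groth.Agent.H54.ringKrullDim_mvPolynomial_field]
  · rw [not_nontrivial_iff_subsingleton] at hA
    haveI : Subsingleton (K ⊗[k] A) := by
      refine ⟨fun x y => ?_⟩
      have : ∀ z : K ⊗[k] A, z = 0 := by
        intro z
        induction z using TensorProduct.induction_on with
        | zero => rfl
        | tmul c a => rw [Subsingleton.elim a 0, TensorProduct.tmul_zero]
        | add x y hx hy => rw [hx, hy, add_zero]
      rw [this x, this y]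
    rw [ringKrullDim_eq_bot_of_subsingleton, ringKrullDim_eq_bot_of_subsingleton]

theorem ringKrullDim_tensor_field' (k A K : Type u) [Field k] [CommRing A] [Algebra k A]
    [Algebra.FiniteType k A] [Field K] [Algebra k K] :
    ringKrullDim (A ⊗[k] K) = ringKrullDim A := by
  rw [← ringKrullDim_tensor_field k A K]
  exact ringKrullDim_eq_of_ringEquiv (Algebra.TensorProduct.comm k A K).toRingEquiv

section Top

theorem topologicalKrullDim_le_iSup_of_cover {T : Type u} [TopologicalSpace T] {ι : Type*}
    (U : ι → Set T) (hU : ∀ i, IsOpen (U i)) (hcov : ∀ x, ∃ i, x ∈ U i) :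
    topologicalKrullDim T ≤ ⨆ i, topologicalKrullDim (U i) := by
  unfold topologicalKrullDim
  rw [Order.krullDim]
  refine iSup_le fun p => ?_
  obtain ⟨x, hx⟩ := (p.head).isIrreducible.nonempty
  obtain ⟨i, hi⟩ := hcov x
  exact (Groth.Agent.H29.length_le_dim_open p x hx (U i) (hU i) hi).trans
    (le_iSup (fun i => topologicalKrullDim (U i)) i)

theorem topologicalKrullDim_eq_iSup_of_cover {T : Type u} [TopologicalSpace T] {ι : Type*}
    (U : ι → Set T) (hU : ∀ i, IsOpen (U i)) (hcov : ∀ x, ∃ i, x ∈ U i) :
    topologicalKrullDim T = ⨆ i, topologicalKrullDim (U i) :=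
  le_antisymm (topologicalKrullDim_le_iSup_of_cover U hU hcov)
    (iSup_le fun i => topologicalKrullDim_subspace_le T (U i))

theorem topologicalKrullDim_eq_of_cover {W T : Type u} [TopologicalSpace W] [TopologicalSpace T]
    (π : W → T) (hπ : Continuous π) {ι : Type*} (U : ι → Set T) (hU : ∀ i, IsOpen (U i))
    (hcov : ∀ x, ∃ i, x ∈ U i)
    (h : ∀ i, topologicalKrullDim (π ⁻¹' U i) = topologicalKrullDim (U i)) :
    topologicalKrullDim W = topologicalKrullDim T := by
  rw [topologicalKrullDim_eq_iSup_of_cover U hU hcov,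
    topologicalKrullDim_eq_iSup_of_cover (fun i => π ⁻¹' U i) (fun i => (hU i).preimage hπ)
      (fun x => hcov (π x))]
  exact iSup_congr h

end Top

section Scheme

open CategoryTheory CategoryTheory.Limits AlgebraicGeometry

theorem topologicalKrullDim_eq_of_iso {W W' : Scheme.{u}} (e : W ≅ W') :
    topologicalKrullDim W = topologicalKrullDim W' :=
  IsHomeomorph.topologicalKrullDim_eq _ (Scheme.homeoOfIso e).isHomeomorph

/-- Affine case: a pullback of `Spec A → Spec k` along a field extension `Spec K → Spec k` has the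
dimension of `A`. -/
theorem topologicalKrullDim_eq_of_isPullback_Spec {W : Scheme.{u}} {k K : Type u}
    [Field k] [Field K] {A : CommRingCat.{u}} (ψ : CommRingCat.of k ⟶ A) (hψ : ψ.hom.FiniteType)
    (φ : CommRingCat.of k ⟶ CommRingCat.of K)
    (a : W ⟶ Spec A) (b : W ⟶ Spec (CommRingCat.of K))
    (sq : IsPullback a b (Spec.map ψ) (Spec.map φ)) :
    topologicalKrullDim W = ringKrullDim A := by
  letI : Algebra k A := ψ.hom.toAlgebra
  letI : Algebra k K := φ.hom.toAlgebra
  haveI : Algebra.FiniteType k A := hψ
  have e1 : W ≅ pullback (Spec.map ψ) (Spec.map φ) := sq.isoPullback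
  have e2 : pullback (Spec.map ψ) (Spec.map φ) ≅ Spec (.of (A ⊗[k] K)) :=
    pullbackSpecIso k A K
  rw [topologicalKrullDim_eq_of_iso (e1 ≪≫ e2)]
  show topologicalKrullDim (PrimeSpectrum (A ⊗[k] K)) = _
  rw [PrimeSpectrum.topologicalKrullDim_eq_ringKrullDim]
  exact ringKrullDim_tensor_field' k A K

/-- For `Z` locally of finite type over a field `k` and a field extension `k → K`, the base
change of `Z` to `K` has the same dimension as `Z`. -/
theorem topologicalKrullDim_eq_of_isPullback_field {Z P : Scheme.{u}} {k K : Type u}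
    [Field k] [Field K] (p : Z ⟶ Spec (CommRingCat.of k)) [LocallyOfFiniteType p]
    (φ : CommRingCat.of k ⟶ CommRingCat.of K)
    (h : P ⟶ Z) (q : P ⟶ Spec (CommRingCat.of K)) (sq : IsPullback h q p (Spec.map φ)) :
    topologicalKrullDim P = topologicalKrullDim Z := by
  refine topologicalKrullDim_eq_of_cover h.base h.continuous
    (fun U : Z.affineOpens => ((U.1 : Z.Opens) : Set Z)) (fun U => U.1.isOpen) ?_ ?_
  · intro x
    obtain ⟨U, hU, hxU, -⟩ := exists_isAffineOpen_mem_and_subset (x := x) (U := (⊤ : Z.Opens)) trivial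
    exact ⟨⟨U, hU⟩, hxU⟩
  · rintro ⟨U, hU⟩
    -- the pullback of `h` along `U`
    have sqW : IsPullback (pullback.fst h U.ι) (pullback.snd h U.ι) h U.ι :=
      IsPullback.of_hasPullback h U.ι
    have sq2 : IsPullback (pullback.snd h U.ι) (pullback.fst h U.ι ≫ q) (U.ι ≫ p) (Spec.map φ) :=
      (sqW.paste_horiz sq.flip).flip
    let e : (U : Scheme.{u}) ≅ Spec Γ(Z, U) := hU.isoSpec
    let ψ : CommRingCat.of k ⟶ Γ(Z, U) := Spec.preimage (e.inv ≫ U.ι ≫ p)
    have hψmap : Spec.map ψ = e.inv ≫ U.ι ≫ p := Spec.map_preimage _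
    have sq3 : IsPullback (pullback.snd h U.ι ≫ e.hom) (pullback.fst h U.ι ≫ q) (Spec.map ψ)
        (Spec.map φ) := by
      refine sq2.of_iso (Iso.refl _) e (Iso.refl _) (Iso.refl _) ?_ ?_ ?_ ?_
      · simp
      · simp
      · rw [hψmap]; simp
      · simp
    have hft : ψ.hom.FiniteType := by
      have : LocallyOfFiniteType (Spec.map ψ) := by
        rw [hψmap]
        infer_instance
      exact (HasRingHomProperty.Spec_iff (P := @LocallyOfFiniteType)).mp this
    have h1 := topologicalKrullDim_eq_of_isPullback_Spec ψ hft φ _ _ sq3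
    have h2 : topologicalKrullDim ↥(pullback h U.ι : Scheme.{u}) =
        topologicalKrullDim ↥(h ⁻¹ᵁ U) :=
      topologicalKrullDim_eq_of_iso (pullbackRestrictIsoRestrict h U)
    have h3 : topologicalKrullDim ↥U = ringKrullDim Γ(Z, U) :=
      (topologicalKrullDim_eq_of_iso e).trans (PrimeSpectrum.topologicalKrullDim_eq_ringKrullDim _)
    show topologicalKrullDim ↥(h ⁻¹ᵁ U) = topologicalKrullDim ↥U
    rw [← h2, h1, h3]

end Scheme

end Groth.Agent.H9.DimBaseField
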