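import Groth.Agent.H9.FibDimTop
import Groth.Agent.S5792

/-!
# Fibre dimension on the target

* `localDim_fiber`: local dimension of `f.fiber y` at `x'` is `fibreDimAt f (fiberι x')`.
* `dim_fiber_eq_iSup`, `dim_fiber_le_iff`, `natCast_le_dim_fiber_iff`: the dimension of a fibre in terms of
  `fibreDimAt`.
* `isClosed_setOf_natCast_le_fibreDimAt`: closed form of Chevalley's theorem.
* `isClosed_setOf_natCast_le_dim_fiber`, `isOpen_setOf_dim_fiber_le`: upper semicontinuity on the target for
  closed maps locally of finite type.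
-/

set_option autoImplicit false
set_option linter.style.haveILetI false
universe u

open TopologicalSpace Topology AlgebraicGeometry TensorProduct CategoryTheory

namespace Groth.Agent.H9.FibDim

/-- local dimension of the fibre at a point, in terms of `fibreDimAt`. -/
theorem localDim_fiber {X Y : Scheme.{u}} (f : X ⟶ Y) (y : Y) (x' : f.fiber y) :
    FlatMor.localDim (f.fiber y) x' = FlatMor.fibreDimAt f ((f.fiberι y).base x') := by
  have hy : f.base ((f.fiberι y).base x') = y := by
    have := (f.fiberHomeo y x').2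
    rw [Scheme.Hom.fiberHomeo_apply] at this
    exact this
  rw [fibreDimAt_eq_tfd, tfd_eq_of_eq f.base _ y hy,
    localDim_of_isOpenEmbedding (f.fiberHomeo y).isOpenEmbedding x']
  congr 1

theorem dim_fiber_eq_iSup {X Y : Scheme.{u}} (f : X ⟶ Y) (y : Y) :
    topologicalKrullDim (f.fiber y) = ⨆ x' : f.fiber y, FlatMor.fibreDimAt f ((f.fiberι y).base x') := by
  rw [Groth.Agent.S5792.result]
  exact iSup_congr fun x' => localDim_fiber f y x'

theorem exists_fiber_point {X Y : Scheme.{u}} (f : X ⟶ Y) (x : X) :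
    ∃ x' : f.fiber (f.base x), (f.fiberι (f.base x)).base x' = x :=
  ⟨f.asFiber x, f.fiberι_asFiber x⟩

theorem dim_fiber_le_iff {X Y : Scheme.{u}} (f : X ⟶ Y) (y : Y) (c : WithBot ℕ∞) :
    topologicalKrullDim (f.fiber y) ≤ c ↔ ∀ x : X, f.base x = y → FlatMor.fibreDimAt f x ≤ c := by
  rw [dim_fiber_eq_iSup, iSup_le_iff]
  constructor
  · rintro h x rfl
    have := h (f.asFiber x)
    rwa [f.fiberι_asFiber x] at this
  · intro h x'
    apply h
    have := (f.fiberHomeo y x').2
    rw [Scheme.Hom.fiberHomeo_apply] at this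
    exact this

theorem natCast_le_iff_not_le (d : WithBot ℕ∞) (k : ℕ) :
    ((k + 1 : ℕ) : WithBot ℕ∞) ≤ d ↔ ¬ d ≤ (k : WithBot ℕ∞) := by
  rw [not_le]
  induction d using WithBot.recBotCoe with
  | bot => simp
  | coe d =>
    induction d using ENat.recTopCoe with
    | top => 
      simp only [WithBot.coe_top, le_top, true_iff]
      exact WithBot.coe_lt_coe.mpr (ENat.natCast_lt_top k)
    | coe m =>
      have h1 : ((k + 1 : ℕ) : WithBot ℕ∞) ≤ ((m : ℕ∞) : WithBot ℕ∞) ↔ k + 1 ≤ m := by
        exact_mod_cast Iff.rfl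
      have h2 : (k : WithBot ℕ∞) < ((m : ℕ∞) : WithBot ℕ∞) ↔ k < m := by
        exact_mod_cast Iff.rfl
      rw [h1, h2]
      omega

theorem natCast_le_dim_fiber_iff {X Y : Scheme.{u}} (f : X ⟶ Y) (y : Y) (n : ℕ) :
    (n : WithBot ℕ∞) ≤ topologicalKrullDim (f.fiber y) ↔
      ∃ x : X, f.base x = y ∧ (n : WithBot ℕ∞) ≤ FlatMor.fibreDimAt f x := by
  cases n with
  | zero =>
    constructor
    · intro h
      have hne : Nonempty (f.fiber y) := by
        by_contra hemp
        rw [not_nonempty_iff] at hemp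
        haveI : IsEmpty (IrreducibleCloseds ↥(f.fiber y)) :=
          ⟨fun Z => hemp.elim Z.isIrreducible.nonempty.some⟩
        have : topologicalKrullDim (f.fiber y) = ⊥ := Order.krullDim_eq_bot
        rw [this] at h
        simp at h
      obtain ⟨x'⟩ := hne
      refine ⟨(f.fiberι y).base x', ?_, ?_⟩
      · have := (f.fiberHomeo y x').2
        rw [Scheme.Hom.fiberHomeo_apply] at this
        exact this
      · rw [← localDim_fiber]
        have := localDim_ne_bot (f.fiber y) x'
        rcases h1 : FlatMor.localDim (f.fiber y) x' with _ | d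
        · exact absurd h1 this
        · exact WithBot.coe_le_coe.mpr zero_le
    · rintro ⟨x, rfl, hx⟩
      refine hx.trans ?_
      rw [dim_fiber_eq_iSup]
      have := le_iSup (fun x' : f.fiber (f.base x) => FlatMor.fibreDimAt f ((f.fiberι _).base x')) (f.asFiber x)
      rwa [f.fiberι_asFiber x] at this
  | succ k =>
    rw [natCast_le_iff_not_le, dim_fiber_le_iff]
    push Not
    constructor
    · rintro ⟨x, hx, h⟩
      exact ⟨x, hx, (natCast_le_iff_not_le _ k).mpr (not_le.mpr h)⟩
    · rintro ⟨x, hx, h⟩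
      exact ⟨x, hx, not_le.mp ((natCast_le_iff_not_le _ k).mp h)⟩

theorem isClosed_setOf_natCast_le_fibreDimAt {X Y : Scheme.{u}} (f : X ⟶ Y) [LocallyOfFiniteType f]
    (n : ℕ) : IsClosed {x : X | (n : WithBot ℕ∞) ≤ FlatMor.fibreDimAt f x} := by
  cases n with
  | zero =>
    convert isClosed_univ
    ext x
    simp only [Set.mem_ofPred_eq, Set.mem_univ, iff_true]
    have := (natCast_le_dim_fiber_iff f (f.base x) 0).mpr
    rw [fibreDimAt_eq_tfd]
    have h0 := localDim_ne_bot ↥(f.base ⁻¹' {f.base x}) ⟨x, rfl⟩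
    unfold tfd
    rcases h1 : FlatMor.localDim ↥(f.base ⁻¹' {f.base x}) ⟨x, rfl⟩ with _ | d
    · exact absurd h1 h0
    · exact WithBot.coe_le_coe.mpr zero_le
  | succ k =>
    have : {x : X | ((k + 1 : ℕ) : WithBot ℕ∞) ≤ FlatMor.fibreDimAt f x} =
        {x : X | FlatMor.fibreDimAt f x ≤ (k : WithBot ℕ∞)}ᶜ := by
      ext x
      simp only [Set.mem_ofPred_eq, Set.mem_compl_iff]
      exact natCast_le_iff_not_le _ k
    rw [this]
    exact (isOpen_setOf_fibreDimAt_le f k).isClosed_compl

/-- EGA IV 13.1.5: upper semicontinuity on the target for closed maps. -/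
theorem isClosed_setOf_natCast_le_dim_fiber {X Y : Scheme.{u}} (f : X ⟶ Y) [LocallyOfFiniteType f]
    (hf : IsClosedMap f.base) (n : ℕ) :
    IsClosed {y : Y | (n : WithBot ℕ∞) ≤ topologicalKrullDim ↥(f.fiber y)} := by
  have : {y : Y | (n : WithBot ℕ∞) ≤ topologicalKrullDim ↥(f.fiber y)} =
      f.base '' {x : X | (n : WithBot ℕ∞) ≤ FlatMor.fibreDimAt f x} := by
    ext y
    simp only [Set.mem_ofPred_eq, Set.mem_image]
    rw [natCast_le_dim_fiber_iff]
    constructor
    · rintro ⟨x, hx, h⟩; exact ⟨x, h, hx⟩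
    · rintro ⟨x, h, hx⟩; exact ⟨x, hx, h⟩
  rw [this]
  exact hf _ (isClosed_setOf_natCast_le_fibreDimAt f n)


theorem le_bot_iff_not_zero_le (d : WithBot ℕ∞) : d ≤ ⊥ ↔ ¬ ((0 : ℕ) : WithBot ℕ∞) ≤ d := by
  induction d using WithBot.recBotCoe with
  | bot => simp
  | coe d =>
    simp only [le_bot_iff, WithBot.coe_ne_bot, false_iff, not_not]
    exact WithBot.coe_le_coe.mpr zero_le

theorem isOpen_setOf_dim_fiber_le {X Y : Scheme.{u}} (f : X ⟶ Y) [LocallyOfFiniteType f]
    (hf : IsClosedMap f.base) (c : WithBot ℕ∞) :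
    IsOpen {s : Y | topologicalKrullDim (f.fiber s) ≤ c} := by
  induction c using WithBot.recBotCoe with
  | bot =>
    have : {s : Y | topologicalKrullDim (f.fiber s) ≤ ⊥} =
        {y : Y | ((0 : ℕ) : WithBot ℕ∞) ≤ topologicalKrullDim ↥(f.fiber y)}ᶜ := by
      ext y
      simp only [Set.mem_ofPred_eq, Set.mem_compl_iff]
      exact le_bot_iff_not_zero_le _
    rw [this]
    exact (isClosed_setOf_natCast_le_dim_fiber f hf 0).isOpen_compl
  | coe c =>
    induction c using ENat.recTopCoe with
    | top =>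
      convert isOpen_univ
      ext y
      simp
    | coe k =>
      have : {s : Y | topologicalKrullDim (f.fiber s) ≤ ((k : ℕ∞) : WithBot ℕ∞)} =
          {y : Y | ((k + 1 : ℕ) : WithBot ℕ∞) ≤ topologicalKrullDim ↥(f.fiber y)}ᶜ := by
        ext y
        simp only [Set.mem_ofPred_eq, Set.mem_compl_iff]
        rw [natCast_le_iff_not_le, not_not]
        rfl
      rw [this]
      exact (isClosed_setOf_natCast_le_dim_fiber f hf (k + 1)).isOpen_compl

end Groth.Agent.H9.FibDim
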