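import Groth.Prelude.Def_Flat
import Groth.Agent.H54.IntegralDim
import Mathlib

/-!
# Relative dimension: ring-level tools (towards Chevalley's semicontinuity theorem)

* `exists_open_dim_eq_localDim`: the infimum defining `FlatMor.localDim` is attained.
* `exists_basicOpen_dim_eq`: at a prime `Q` some basic open `D(h) ∋ Q` has dimension `localDim Q`.
* `finite_fiber_of_finite`, `quasiFiniteAt_of_finite`: if `κ(p)[t] → κ(p) ⊗ S'` is finite then
  `R[t] → S'` is quasi-finite at all primes over `p`.
* `exists_quasiFinite_away`: openness of the quasi-finite locus (ring form, from Mathlib's ZMT).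
* `exists_algHom_finite_fiber`: Noether normalization of the fibre ring with coordinates lifted to `S'`.
-/

set_option autoImplicit false
set_option linter.style.haveILetI false
universe u

open TopologicalSpace TensorProduct MvPolynomial

namespace Groth.Agent.H9.FibDim

/-- The infimum defining the local dimension is attained. -/
theorem exists_open_dim_eq_localDim (X : Type*) [TopologicalSpace X] (x : X) :
    ∃ U : Opens X, x ∈ U ∧ topologicalKrullDim (U : Set X) = FlatMor.localDim X x := by
  haveI : Nonempty {U : Opens X // x ∈ U} := ⟨⟨⊤, trivial⟩⟩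
  obtain ⟨U, hU⟩ := ciInf_mem (fun U : {U : Opens X // x ∈ U} => topologicalKrullDim (U.1 : Set X))
  exact ⟨U.1, U.2, hU⟩

theorem localDim_le_of_mem (X : Type*) [TopologicalSpace X] (x : X) (U : Opens X) (hx : x ∈ U) :
    FlatMor.localDim X x ≤ topologicalKrullDim (U : Set X) :=
  iInf_le (fun U : {U : Opens X // x ∈ U} => topologicalKrullDim (U.1 : Set X)) ⟨U, hx⟩

theorem dim_mono_subset {X : Type*} [TopologicalSpace X] {A B : Set X} (h : A ⊆ B) :
    topologicalKrullDim A ≤ topologicalKrullDim B :=
  (Topology.IsInducing.topologicalKrullDim_le (f := Set.inclusion h)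
    (Topology.IsEmbedding.inclusion h).isInducing)

theorem dim_basicOpen_eq (T : Type u) [CommRing T] (h : T) :
    topologicalKrullDim ((PrimeSpectrum.basicOpen h : Opens _) : Set (PrimeSpectrum T)) =
      ringKrullDim (Localization.Away h) := by
  have hemb := PrimeSpectrum.localization_away_isOpenEmbedding (Localization.Away h) h
  have hr := PrimeSpectrum.localization_away_comap_range (Localization.Away h) h
  have h2 := (hemb.toHomeomorph).isHomeomorph.topologicalKrullDim_eq
  rw [← PrimeSpectrum.topologicalKrullDim_eq_ringKrullDim, h2, hr]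

/-- At a prime `Q` some basic open neighbourhood has dimension exactly the local dimension. -/
theorem exists_basicOpen_dim_eq (T : Type u) [CommRing T] (Q : PrimeSpectrum T) :
    ∃ h : T, h ∉ Q.asIdeal ∧
      topologicalKrullDim ((PrimeSpectrum.basicOpen h : Opens _) : Set (PrimeSpectrum T)) =
        FlatMor.localDim (PrimeSpectrum T) Q := by
  obtain ⟨U, hQU, hU⟩ := exists_open_dim_eq_localDim (PrimeSpectrum T) Q
  obtain ⟨_, ⟨h, rfl⟩, hQh, hhU⟩ :=
    PrimeSpectrum.isTopologicalBasis_basic_opens.exists_subset_of_mem_open hQU U.2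
  refine ⟨h, hQh, le_antisymm ?_ (localDim_le_of_mem _ _ _ hQh)⟩
  rw [← hU]; exact dim_mono_subset hhU

section core

variable {R : Type u} [CommRing R] (p : Ideal R) [p.IsPrime] (n : ℕ)
  (S' : Type u) [CommRing S'] [Algebra R S']
  [Algebra (MvPolynomial (Fin n) R) S'] [IsScalarTower R (MvPolynomial (Fin n) R) S']

/-- Finite fibre: if `κ(p)[t] → κ(p) ⊗ S'` (compatible with `R[t] → S'`) is finite, then every fibre of
`R[t] → S'` over a prime `P'` above `p` is finite. -/
theorem finite_fiber_of_finite
    (ψ : MvPolynomial (Fin n) p.ResidueField →ₐ[p.ResidueField] p.Fiber S')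
    (hψ : ψ.toRingHom.Finite)
    (hψφ : ∀ i, ψ (X i) = 1 ⊗ₜ[R] (algebraMap (MvPolynomial (Fin n) R) S' (X i)))
    (P' : Ideal (MvPolynomial (Fin n) R)) [P'.IsPrime] [P'.LiesOver p] :
    Module.Finite P'.ResidueField (P'.Fiber S') := by
  set B := MvPolynomial (Fin n) R
  set k := p.ResidueField
  set κ := P'.ResidueField
  set T := P'.Fiber S'
  have hunder : P'.under R = p := (Ideal.LiesOver.over (p := p) (P := P')).symm
  -- the map k → κ
  have h1 : p ≤ RingHom.ker (Algebra.ofId R κ : R →ₐ[R] κ) := by
    intro a ha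
    rw [RingHom.mem_ker]
    show algebraMap R κ a = 0
    rw [IsScalarTower.algebraMap_apply R B κ, Ideal.algebraMap_residueField_eq_zero]
    rw [← hunder] at ha
    exact ha
  have h2 : p.primeCompl ≤ (IsUnit.submonoid κ).comap (Algebra.ofId R κ : R →ₐ[R] κ) := by
    intro a ha
    show IsUnit (algebraMap R κ a)
    rw [isUnit_iff_ne_zero, IsScalarTower.algebraMap_apply R B κ, Ne,
      Ideal.algebraMap_residueField_eq_zero]
    intro h
    apply ha
    rw [← hunder]
    exact h
  let χ₀ : k →ₐ[R] κ := Ideal.ResidueField.liftₐ p (Algebra.ofId R κ) h1 h2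
  let lam : p.Fiber S' →ₐ[R] T :=
    Algebra.TensorProduct.lift ((IsScalarTower.toAlgHom R κ T).comp χ₀)
      ((Algebra.TensorProduct.includeRight (R := B) (A := κ) (B := S')).restrictScalars R)
      (fun _ _ => Commute.all _ _)
  let χ : MvPolynomial (Fin n) k →+* κ :=
    MvPolynomial.eval₂Hom χ₀.toRingHom (fun i => algebraMap B κ (X i))
  have key : lam.toRingHom.comp ψ.toRingHom = (algebraMap κ T).comp χ := by
    apply MvPolynomial.ringHom_ext
    · intro c
      show lam (ψ (C c)) = algebraMap κ T (χ (C c))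
      have : ψ (C c) = c ⊗ₜ[R] (1 : S') := by
        have := ψ.commutes c
        rw [MvPolynomial.algebraMap_eq] at this
        rw [this, Algebra.TensorProduct.algebraMap_apply]
        rfl
      rw [this]
      simp only [lam, χ, Algebra.TensorProduct.lift_tmul, map_one, mul_one, eval₂Hom_C]
      rfl
    · intro i
      show lam (ψ (X i)) = algebraMap κ T (χ (X i))
      rw [hψφ]
      simp only [lam, χ, Algebra.TensorProduct.lift_tmul, map_one, one_mul, eval₂Hom_X']
      show (1 : κ) ⊗ₜ[B] (algebraMap B S' (X i)) = _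
      rw [Algebra.TensorProduct.algebraMap_apply]
      calc (1 : κ) ⊗ₜ[B] (algebraMap B S' (X i)) = (1 : κ) ⊗ₜ[B] ((X i : B) • (1 : S')) := by
            rw [Algebra.algebraMap_eq_smul_one]
        _ = ((X i : B) • (1 : κ)) ⊗ₜ[B] (1 : S') := (TensorProduct.smul_tmul _ _ _).symm
        _ = _ := by rw [← Algebra.algebraMap_eq_smul_one]; rfl
  have key' : ∀ f, lam (ψ f) = algebraMap κ T (χ f) := fun f => congrArg (fun g => g f) key
  letI algψ : Algebra (MvPolynomial (Fin n) k) (p.Fiber S') := ψ.toRingHom.toAlgebra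
  have hfin : Module.Finite (MvPolynomial (Fin n) k) (p.Fiber S') := hψ
  obtain ⟨s, hs⟩ := hfin.fg_top
  classical
  have hmem : ∀ a : p.Fiber S', lam a ∈ Submodule.span κ ((s.image lam : Finset T) : Set T) := by
    intro a
    have ha : a ∈ Submodule.span (MvPolynomial (Fin n) k) (s : Set (p.Fiber S')) := by
      rw [hs]; trivial
    induction ha using Submodule.span_induction with
    | mem x hx =>
      apply Submodule.subset_span
      simp only [Finset.coe_image]
      exact ⟨x, hx, rfl⟩
    | zero => rw [map_zero]; exact Submodule.zero_mem _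
    | add x y _ _ hx hy => rw [map_add]; exact Submodule.add_mem _ hx hy
    | smul f x _ hx =>
      have : f • x = ψ f * x := by
        rw [Algebra.smul_def]; rfl
      rw [this, map_mul, key', ← Algebra.smul_def]
      exact Submodule.smul_mem _ _ hx
  refine ⟨⟨s.image lam, eq_top_iff.mpr ?_⟩⟩
  rintro x -
  induction x using TensorProduct.induction_on with
  | zero => exact Submodule.zero_mem _
  | tmul c t =>
    have : c ⊗ₜ[B] t = c • lam ((1 : k) ⊗ₜ[R] t) := by
      simp only [lam, Algebra.TensorProduct.lift_tmul, map_one, one_mul]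
      show c ⊗ₜ[B] t = c • ((1 : κ) ⊗ₜ[B] t)
      rw [TensorProduct.smul_tmul', smul_eq_mul, mul_one]
    rw [this]
    exact Submodule.smul_mem _ _ (hmem _)
  | add x y hx hy => exact Submodule.add_mem _ hx hy

end core

/-- existence of the point of the fibre over a prime. -/
theorem exists_fiber_prime {B S' : Type u} [CommRing B] [CommRing S'] [Algebra B S']
    (P' : Ideal B) [P'.IsPrime] (q' : Ideal S') [q'.IsPrime] [q'.LiesOver P'] :
    ∃ Q : PrimeSpectrum (P'.Fiber S'),
      Q.asIdeal.comap Algebra.TensorProduct.includeRight.toRingHom = q' := by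
  let e := PrimeSpectrum.preimageHomeomorphFiber B S' ⟨P', inferInstance⟩
  have hmem : (⟨q', inferInstance⟩ : PrimeSpectrum S') ∈
      PrimeSpectrum.comap (algebraMap B S') ⁻¹' {⟨P', inferInstance⟩} := by
    simp only [Set.mem_preimage, Set.mem_singleton_iff]
    ext1
    exact (Ideal.LiesOver.over (p := P') (P := q')).symm
  refine ⟨e ⟨_, hmem⟩, ?_⟩
  exact congr($(e.symm_apply_apply ⟨_, hmem⟩).1.asIdeal)

/-- If `κ(p)[t] → κ(p) ⊗ S'` is finite then `R[t] → S'` is quasi-finite at every prime over `p`. -/
theorem quasiFiniteAt_of_finite {R : Type u} [CommRing R] (p : Ideal R) [p.IsPrime] (n : ℕ)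
    (S' : Type u) [CommRing S'] [Algebra R S']
    [Algebra (MvPolynomial (Fin n) R) S'] [IsScalarTower R (MvPolynomial (Fin n) R) S']
    [Algebra.FiniteType (MvPolynomial (Fin n) R) S']
    (ψ : MvPolynomial (Fin n) p.ResidueField →ₐ[p.ResidueField] p.Fiber S')
    (hψ : ψ.toRingHom.Finite)
    (hψφ : ∀ i, ψ (X i) = 1 ⊗ₜ[R] (algebraMap (MvPolynomial (Fin n) R) S' (X i)))
    (q' : Ideal S') [q'.IsPrime] (hq' : q'.under R = p) :
    Algebra.QuasiFiniteAt (MvPolynomial (Fin n) R) q' := by
  set B := MvPolynomial (Fin n) R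
  let P' : Ideal B := q'.under B
  haveI : P'.LiesOver p := ⟨by rw [← hq']; exact (Ideal.under_under (B := B) q').symm⟩
  haveI : Module.Finite P'.ResidueField (P'.Fiber S') := finite_fiber_of_finite p n S' ψ hψ hψφ P'
  obtain ⟨Q, hQ⟩ := exists_fiber_prime P' q'
  exact Algebra.QuasiFiniteAt.of_quasiFiniteAt_residueField P' q' Q.asIdeal hQ

/-- Openness of the quasi-finite locus (ring form, from Mathlib's ZMT). -/
theorem exists_quasiFinite_away {B S' : Type u} [CommRing B] [CommRing S'] [Algebra B S']
    [Algebra.FiniteType B S'] (q' : Ideal S') [q'.IsPrime] [Algebra.QuasiFiniteAt B q'] :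
    ∃ r : S', r ∉ q' ∧ Algebra.QuasiFinite B (Localization.Away r) := by
  obtain ⟨S₀, hS₀, r, hrp, H⟩ :=
    Algebra.QuasiFiniteAt.exists_fg_and_exists_notMem_and_awayMap_bijective (R := B) q'
  have : Module.Finite B S₀ := ⟨(Submodule.fg_top _).mpr hS₀⟩
  have : Algebra.QuasiFinite B (Localization.Away r) := .trans _ S₀ _
  exact ⟨r.1, hrp, .of_surjective_algHom (Localization.awayMapₐ S₀.val r) H.2⟩

/-- Noether normalization of the fibre ring, with coordinates lifted to `S'`. -/
theorem exists_algHom_finite_fiber {R : Type u} [CommRing R] (p : Ideal R) [p.IsPrime]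
    (S' : Type u) [CommRing S'] [Algebra R S'] [Algebra.FiniteType R S'] (n : ℕ)
    (hdim : ringKrullDim (p.Fiber S') = (n : WithBot ℕ∞)) :
    ∃ φ : MvPolynomial (Fin n) R →ₐ[R] S',
      ∃ ψ : MvPolynomial (Fin n) p.ResidueField →ₐ[p.ResidueField] p.Fiber S',
        ψ.toRingHom.Finite ∧ ∀ i, ψ (X i) = 1 ⊗ₜ[R] φ (X i) := by
  set k := p.ResidueField
  set A := p.Fiber S'
  have hnt : Nontrivial A := by
    by_contra h
    rw [not_nontrivial_iff_subsingleton] at h
    have : ringKrullDim A = ⊥ := ringKrullDim_eq_bot_of_subsingleton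
    rw [this] at hdim
    exact WithBot.bot_ne_coe.elim hdim
  obtain ⟨s, g, hinj, hfin⟩ := exists_finite_inj_algHom_of_fg k A
  have hs : s = n := by
    have h1 := Groth.Agent.H54.ringKrullDim_eq_of_ringHom_isIntegral_of_injective g.toRingHom
      (RingHom.Finite.to_isIntegral hfin) hinj
    rw [Groth.Agent.H54.ringKrullDim_mvPolynomial_field, hdim] at h1
    exact_mod_cast h1.symm
  subst hs
  choose r hr σ hσ using fun i => Ideal.Fiber.exists_smul_eq_one_tmul p (g (X i))
  have hrne : ∀ i, algebraMap R k (r i) ≠ 0 := fun i h =>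
    hr i (Ideal.algebraMap_residueField_eq_zero.mp h)
  refine ⟨MvPolynomial.aeval σ, MvPolynomial.aeval (fun i => (1 : k) ⊗ₜ[R] σ i), ?_, ?_⟩
  · let θ : MvPolynomial (Fin s) k →ₐ[k] MvPolynomial (Fin s) k :=
      MvPolynomial.aeval (fun i => C ((algebraMap R k (r i))⁻¹) * X i)
    have hcomp : g = (MvPolynomial.aeval (fun i => (1 : k) ⊗ₜ[R] σ i) :
        MvPolynomial (Fin s) k →ₐ[k] A).comp θ := by
      apply MvPolynomial.algHom_ext
      intro i
      simp only [θ, AlgHom.comp_apply, aeval_X, map_mul, aeval_C]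
      rw [← hσ i, ← Algebra.smul_def, ← algebraMap_smul k (r i) (g (X i)), smul_smul,
        inv_mul_cancel₀ (hrne i), one_smul]
    have : g.toRingHom = (MvPolynomial.aeval (fun i => (1 : k) ⊗ₜ[R] σ i) :
        MvPolynomial (Fin s) k →ₐ[k] A).toRingHom.comp θ.toRingHom := by
      rw [hcomp]; rfl
    have hfin' : g.toRingHom.Finite := hfin
    rw [this] at hfin'
    exact RingHom.Finite.of_comp_finite hfin'
  · intro i
    simp

end Groth.Agent.H9.FibDim
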