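import Groth.Agent.H9.FibDimRing
import Groth.Agent.S9175
import Groth.Agent.H54.AffineDim2

/-!
# Fibre dimension: topological layer and Chevalley's upper semicontinuity theorem

* `localDim_of_isOpenEmbedding`: `FlatMor.localDim` is invariant under open embeddings.
* `tfd g a`: topological fibre dimension of a map `g` at `a` (local dimension of `g ⁻¹' {g a}` at `a`).
* `tfd_eq_of_square`: invariance in commutative squares (open embedding on source, injective on target).
* `fibreDimAt_eq_tfd`: `FlatMor.fibreDimAt f x = tfd f.base x`.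
* `localDim_fiber_eq_tfd`: local dimension of `Spec (κ(p) ⊗ S)` at `Q` is `tfd (comap (algebraMap R S)) q`.
* `ringKrullDim_fiber_le_of_quasiFinite`, `tfd_le_of_quasiFinite`: quasi-finite over `R[t₁..t_m]` ⟹ fibres
  have dimension `≤ m`.
* `isOpen_setOf_tfd_le`: Chevalley, ring form (finite type).
* `fibreDimAt_fromSpec`: fibre dimension computed in affine charts.
* `isOpen_setOf_fibreDimAt_le`: Chevalley's upper semicontinuity theorem for schemes.
-/

set_option autoImplicit false
set_option linter.style.haveILetI false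
universe u

open TopologicalSpace Topology AlgebraicGeometry TensorProduct CategoryTheory

namespace Groth.Agent.H9.FibDim

/-- local dimension is invariant under open embeddings. -/
theorem localDim_of_isOpenEmbedding {X Y : Type*} [TopologicalSpace X] [TopologicalSpace Y]
    {j : X → Y} (hj : IsOpenEmbedding j) (x : X) :
    FlatMor.localDim X x = FlatMor.localDim Y (j x) := by
  apply le_antisymm
  · refine le_iInf fun V => ?_
    let W : Opens X := ⟨j ⁻¹' (V.1 : Set Y), V.1.2.preimage hj.continuous⟩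
    have hxW : x ∈ W := V.2
    refine (localDim_le_of_mem X x W hxW).trans ?_
    -- dim (j⁻¹ V) ≤ dim V
    let r : ↥(W : Set X) → ↥(V.1 : Set Y) := fun a => ⟨j a.1, a.2⟩
    have hr : IsInducing r := by
      have h1 : IsInducing ((Subtype.val : ↥(V.1 : Set Y) → Y) ∘ r) :=
        hj.isInducing.comp IsInducing.subtypeVal
      exact (IsInducing.of_comp_iff IsInducing.subtypeVal).mp h1
    exact hr.topologicalKrullDim_le
  · refine le_iInf fun W => ?_
    let V : Opens Y := ⟨j '' (W.1 : Set X), hj.isOpenMap _ W.1.2⟩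
    have hxV : j x ∈ V := ⟨x, W.2, rfl⟩
    refine (localDim_le_of_mem Y (j x) V hxV).trans ?_
    let r : ↥(W.1 : Set X) → ↥(V : Set Y) := fun a => ⟨j a.1, a.1, a.2, rfl⟩
    have hinj : Function.Injective r := fun a b hab => Subtype.ext (hj.injective (congrArg Subtype.val hab))
    have hsurj : Function.Surjective r := by
      rintro ⟨_, a, ha, rfl⟩
      exact ⟨⟨a, ha⟩, rfl⟩
    have hind : IsInducing r := by
      have h1 : IsInducing ((Subtype.val : ↥(V : Set Y) → Y) ∘ r) :=
        hj.isInducing.comp IsInducing.subtypeVal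
      exact (IsInducing.of_comp_iff IsInducing.subtypeVal).mp h1
    have hr : IsHomeomorph r :=
      ((IsEmbedding.mk hind hinj).toHomeomorphOfSurjective hsurj).isHomeomorph
    exact (hr.topologicalKrullDim_eq r).ge

/-- Topological fibre dimension of a map at a point. -/
noncomputable def tfd {A B : Type*} [TopologicalSpace A] (g : A → B) (a : A) : WithBot ℕ∞ :=
  FlatMor.localDim ↥(g ⁻¹' {g a}) ⟨a, rfl⟩

theorem tfd_eq_of_eq {A B : Type*} [TopologicalSpace A] (g : A → B) (a : A) (b : B) (h : g a = b) :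
    tfd g a = FlatMor.localDim ↥(g ⁻¹' {b}) ⟨a, h⟩ := by
  subst h; rfl

/-- A commutative square with an open embedding on the source and an injective map on the target
preserves the fibre dimension. -/
theorem tfd_eq_of_square {A A' B B' : Type*} [TopologicalSpace A] [TopologicalSpace A']
    (g : A → B) (g' : A' → B') (j : A' → A) (i : B' → B) (hj : IsOpenEmbedding j)
    (hi : Function.Injective i) (hsq : ∀ a', g (j a') = i (g' a')) (a' : A') :
    tfd g' a' = tfd g (j a') := by
  unfold tfd
  let r : ↥(g' ⁻¹' {g' a'}) → ↥(g ⁻¹' {g (j a')}) := fun x => ⟨j x.1, by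
    have hx : g' x.1 = g' a' := x.2
    simp only [Set.mem_preimage, Set.mem_singleton_iff]
    rw [hsq, hsq, hx]⟩
  have hr : IsOpenEmbedding r := by
    have hind : IsInducing r := by
      have h1 : IsInducing ((Subtype.val : ↥(g ⁻¹' {g (j a')}) → A) ∘ r) :=
        hj.isInducing.comp IsInducing.subtypeVal
      exact (IsInducing.of_comp_iff IsInducing.subtypeVal).mp h1
    have hinj : Function.Injective r := fun x y hxy =>
      Subtype.ext (hj.injective (congrArg Subtype.val hxy))
    refine ⟨⟨hind, hinj⟩, ?_⟩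
    have hrange : Set.range r = (Subtype.val : ↥(g ⁻¹' {g (j a')}) → A) ⁻¹' (Set.range j) := by
      ext ⟨y, hy⟩
      constructor
      · rintro ⟨x, hx⟩
        exact ⟨x.1, congrArg Subtype.val hx⟩
      · rintro ⟨x, hx⟩
        have hx' : j x = y := hx
        refine ⟨⟨x, ?_⟩, Subtype.ext hx'⟩
        simp only [Set.mem_preimage, Set.mem_singleton_iff] at hy ⊢
        apply hi
        rw [← hsq, ← hsq, hx', hy]
    rw [hrange]
    exact hj.isOpen_range.preimage continuous_subtype_val
  exact localDim_of_isOpenEmbedding hr ⟨a', rfl⟩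

theorem fibreDimAt_eq_tfd {X Y : Scheme.{u}} (f : X ⟶ Y) (x : X) :
    FlatMor.fibreDimAt f x = tfd f.base x := by
  unfold FlatMor.fibreDimAt tfd
  rw [localDim_of_isOpenEmbedding (f.fiberHomeo (f.base x)).isOpenEmbedding (f.asFiber x)]
  congr 1
  apply Subtype.ext
  rw [Scheme.Hom.fiberHomeo_apply]
  exact f.fiberι_asFiber x

theorem localDim_fiber_eq_tfd {R S : Type u} [CommRing R] [CommRing S] [Algebra R S]
    (p : Ideal R) [p.IsPrime] (q : PrimeSpectrum S) (hp : q.asIdeal.under R = p)
    (Q : PrimeSpectrum (p.Fiber S))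
    (hQ : Q.asIdeal.comap Algebra.TensorProduct.includeRight.toRingHom = q.asIdeal) :
    FlatMor.localDim (PrimeSpectrum (p.Fiber S)) Q = tfd (PrimeSpectrum.comap (algebraMap R S)) q := by
  have h : PrimeSpectrum.comap (algebraMap R S) q = ⟨p, inferInstance⟩ := PrimeSpectrum.ext hp
  rw [tfd_eq_of_eq _ q ⟨p, inferInstance⟩ h]
  let e := PrimeSpectrum.preimageHomeomorphFiber R S ⟨p, inferInstance⟩
  rw [localDim_of_isOpenEmbedding e.isOpenEmbedding ⟨q, h⟩]
  congr 1
  apply e.symm.injective
  rw [e.symm_apply_apply]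
  apply Subtype.ext
  apply PrimeSpectrum.ext
  exact hQ

theorem localDim_le_dim (X : Type*) [TopologicalSpace X] (x : X) :
    FlatMor.localDim X x ≤ topologicalKrullDim X := by
  refine (localDim_le_of_mem X x ⊤ trivial).trans ?_
  exact topologicalKrullDim_subspace_le X _

/-- A ring with a quasi-finite map from a polynomial ring in `m` variables has all fibre rings of
dimension at most `m`. -/
theorem ringKrullDim_fiber_le_of_quasiFinite {R S' : Type u} [CommRing R] [CommRing S'] [Algebra R S']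
    (m : ℕ) (φ : MvPolynomial (Fin m) R →ₐ[R] S') (hφ : φ.toRingHom.QuasiFinite)
    (p : Ideal R) [p.IsPrime] : ringKrullDim (p.Fiber S') ≤ (m : WithBot ℕ∞) := by
  set κ := p.ResidueField
  set B := MvPolynomial (Fin m) R
  let θ : κ ⊗[R] B →ₐ[κ] κ ⊗[R] S' := Algebra.TensorProduct.map (AlgHom.id κ κ) φ
  have hBκ : ringKrullDim (κ ⊗[R] B) = (m : WithBot ℕ∞) := by
    rw [ringKrullDim_eq_of_ringEquiv (MvPolynomial.algebraTensorAlgEquiv R κ).toRingEquiv,
      Groth.Agent.H54.ringKrullDim_mvPolynomial_field]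
  rw [← hBκ]
  letI algB : Algebra B S' := φ.toRingHom.toAlgebra
  haveI hqf : Algebra.QuasiFinite B S' := hφ
  refine Order.krullDim_le_of_strictMono (PrimeSpectrum.comap θ.toRingHom) ?_
  intro Q₁ Q₂ hlt
  have hle0 : PrimeSpectrum.comap θ.toRingHom Q₁ ≤ PrimeSpectrum.comap θ.toRingHom Q₂ := by
    show (PrimeSpectrum.comap θ.toRingHom Q₁).asIdeal ≤ (PrimeSpectrum.comap θ.toRingHom Q₂).asIdeal
    exact Ideal.comap_mono hlt.le
  refine lt_of_le_of_ne hle0 ?_
  intro heq
  apply hlt.ne
  let q₁ : Ideal S' := Q₁.asIdeal.comap Algebra.TensorProduct.includeRight.toRingHom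
  let q₂ : Ideal S' := Q₂.asIdeal.comap Algebra.TensorProduct.includeRight.toRingHom
  have hle : q₁ ≤ q₂ := Ideal.comap_mono hlt.le
  have hsq : ∀ (Q : PrimeSpectrum (κ ⊗[R] S')),
      (Q.asIdeal.comap Algebra.TensorProduct.includeRight.toRingHom).under B =
      ((PrimeSpectrum.comap θ.toRingHom Q).asIdeal).comap
        (Algebra.TensorProduct.includeRight : B →ₐ[R] κ ⊗[R] B).toRingHom := by
    intro Q
    ext b
    simp only [Ideal.under, Ideal.mem_comap, PrimeSpectrum.comap_asIdeal]
    have : θ.toRingHom ((Algebra.TensorProduct.includeRight : B →ₐ[R] κ ⊗[R] B).toRingHom b) =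
        (Algebra.TensorProduct.includeRight : S' →ₐ[R] κ ⊗[R] S').toRingHom (algebraMap B S' b) := by
      simp [θ]
      rfl
    rw [this]
  have hunder : q₁.under B = q₂.under B := by
    rw [hsq Q₁, hsq Q₂, heq]
  have hq : q₁ = q₂ := Algebra.QuasiFinite.eq_of_le_of_under_eq (R := B) q₁ q₂ hle hunder
  have hinj := (PrimeSpectrum.preimageEquivFiber R S' ⟨p, inferInstance⟩).symm.injective
  apply hinj
  apply Subtype.ext
  apply PrimeSpectrum.ext
  exact hq

theorem localDim_ne_bot (X : Type*) [TopologicalSpace X] (x : X) : FlatMor.localDim X x ≠ ⊥ := by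
  have h0 : (0 : WithBot ℕ∞) ≤ FlatMor.localDim X x := by
    refine le_iInf fun U => ?_
    haveI : Nonempty (IrreducibleCloseds ↥(U.1 : Set X)) :=
      ⟨⟨closure {⟨x, U.2⟩}, isIrreducible_singleton.closure, isClosed_closure⟩⟩
    exact Order.krullDim_nonneg
  intro h
  rw [h] at h0
  exact absurd h0 (by simp)

theorem tfd_le_of_quasiFinite {R S' : Type u} [CommRing R] [CommRing S'] [Algebra R S']
    (m : ℕ) (φ : MvPolynomial (Fin m) R →ₐ[R] S') (hφ : φ.toRingHom.QuasiFinite)
    (q' : PrimeSpectrum S') : tfd (PrimeSpectrum.comap (algebraMap R S')) q' ≤ (m : WithBot ℕ∞) := by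
  obtain ⟨Q, hQ⟩ := exists_fiber_prime (q'.asIdeal.under R) q'.asIdeal
  rw [← localDim_fiber_eq_tfd (q'.asIdeal.under R) q' rfl Q hQ]
  refine (localDim_le_dim _ Q).trans ?_
  rw [PrimeSpectrum.topologicalKrullDim_eq_ringKrullDim]
  exact ringKrullDim_fiber_le_of_quasiFinite m φ hφ _

/-- Chevalley's semicontinuity theorem, ring form. -/
theorem isOpen_setOf_tfd_le (R S : Type u) [CommRing R] [CommRing S] [Algebra R S]
    [Algebra.FiniteType R S] (n : ℕ) :
    IsOpen {q : PrimeSpectrum S | tfd (PrimeSpectrum.comap (algebraMap R S)) q ≤ (n : WithBot ℕ∞)} := by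
  rw [isOpen_iff_forall_mem_open]
  intro q hq
  obtain ⟨Q, hQ⟩ := exists_fiber_prime (q.asIdeal.under R) q.asIdeal
  have hq' : tfd (PrimeSpectrum.comap (algebraMap R S)) q ≤ (n : WithBot ℕ∞) := hq
  rw [← localDim_fiber_eq_tfd (q.asIdeal.under R) q rfl Q hQ] at hq'
  obtain ⟨m, hm⟩ := Groth.Agent.H54.exists_nat_eq_of_le (localDim_ne_bot _ Q) hq'
  have hmn : m ≤ n := by
    rw [hm] at hq'
    exact_mod_cast hq'
  obtain ⟨g, hgq, φ, -, hφ⟩ := Groth.Agent.S9175.result R S (q.asIdeal.under R) q.asIdeal Q hQ m hm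
  refine ⟨PrimeSpectrum.basicOpen g, ?_, (PrimeSpectrum.basicOpen g).2, hgq⟩
  intro q₁ hq₁
  have hrange := PrimeSpectrum.localization_away_comap_range (Localization.Away g) g
  have hq₁' : q₁ ∈ Set.range (PrimeSpectrum.comap (algebraMap S (Localization.Away g))) := by
    rw [hrange]; exact hq₁
  obtain ⟨q₁', rfl⟩ := hq₁'
  show tfd _ _ ≤ _
  rw [← tfd_eq_of_square (PrimeSpectrum.comap (algebraMap R S))
    (PrimeSpectrum.comap (algebraMap R (Localization.Away g)))
    (PrimeSpectrum.comap (algebraMap S (Localization.Away g))) id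
    (PrimeSpectrum.localization_away_isOpenEmbedding (Localization.Away g) g)
    Function.injective_id (fun a' => by
      simp only [id]
      rw [IsScalarTower.algebraMap_eq R S (Localization.Away g), PrimeSpectrum.comap_comp_apply]) q₁']
  refine (tfd_le_of_quasiFinite m φ hφ q₁').trans ?_
  exact_mod_cast hmn

/-- fibre dimension computed in affine charts -/
theorem fibreDimAt_fromSpec {X S : Scheme.{u}} (f : X ⟶ S) {U : X.Opens} {V : S.Opens}
    (hU : IsAffineOpen U) (hV : IsAffineOpen V) (e : U ≤ f ⁻¹ᵁ V) (q : Spec Γ(X, U)) :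
    FlatMor.fibreDimAt f (hU.fromSpec.base q) = tfd (PrimeSpectrum.comap (f.appLE V U e).hom) q := by
  rw [fibreDimAt_eq_tfd]
  symm
  refine tfd_eq_of_square f.base (PrimeSpectrum.comap (f.appLE V U e).hom) hU.fromSpec.base
    hV.fromSpec.base hU.fromSpec.isOpenEmbedding hV.fromSpec.isOpenEmbedding.injective ?_ q
  intro a'
  have h := IsAffineOpen.SpecMap_appLE_fromSpec f hV hU e
  have h2 := congrArg (fun g => g.base a') h
  simp only [Scheme.Hom.comp_base] at h2
  exact h2.symm

/-- Chevalley's upper semicontinuity theorem. -/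
theorem isOpen_setOf_fibreDimAt_le {X S : Scheme.{u}} (f : X ⟶ S) [LocallyOfFiniteType f] (n : ℕ) :
    IsOpen {x : X | FlatMor.fibreDimAt f x ≤ n} := by
  rw [isOpen_iff_forall_mem_open]
  intro x hx
  obtain ⟨V, hV, hxV, -⟩ :=
    exists_isAffineOpen_mem_and_subset (X := S) (x := f.base x) (U := ⊤) trivial
  obtain ⟨U, hU, hxU, e⟩ :=
    exists_isAffineOpen_mem_and_subset (X := X) (x := x) (U := f ⁻¹ᵁ V) hxV
  letI : Algebra Γ(S, V) Γ(X, U) := (f.appLE V U e).hom.toAlgebra
  haveI : Algebra.FiniteType Γ(S, V) Γ(X, U) := f.finiteType_appLE hV hU e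
  have hopen := isOpen_setOf_tfd_le Γ(S, V) Γ(X, U) n
  refine ⟨hU.fromSpec.base '' {q | tfd (PrimeSpectrum.comap (algebraMap Γ(S, V) Γ(X, U))) q ≤
    (n : WithBot ℕ∞)}, ?_, hU.fromSpec.isOpenEmbedding.isOpenMap _ hopen, ?_⟩
  · rintro _ ⟨q, hq, rfl⟩
    show FlatMor.fibreDimAt f _ ≤ _
    rw [fibreDimAt_fromSpec f hU hV e q]
    exact hq
  · have hx' : x ∈ Set.range hU.fromSpec.base := by
      rw [hU.range_fromSpec]; exact hxU
    obtain ⟨q, rfl⟩ := hx'
    refine ⟨q, ?_, rfl⟩
    have : FlatMor.fibreDimAt f (hU.fromSpec.base q) ≤ n := hx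
    rw [fibreDimAt_fromSpec f hU hV e q] at this
    exact this

end Groth.Agent.H9.FibDim
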