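import Groth.Agent.H9.FibDimTop
import Groth.Agent.H54.AffineDim2

/-!
# Local dimension of finite type algebras over a field

* `ringKrullDim_quotient_eq_coheight`: `dim A/p = coheight p`.
* `height_le_height_comap_of_surjective`.
* `ringKrullDim_quotient_le_away`, `ringKrullDim_quotient_le_dim_open`: opens meeting `V(q0)` at `p ⊇ q0` have
  dimension `≥ dim A/q0` (finite type over a field).
* `exists_maximal_of_notMem` (Jacobson rings).
* `exists_away_dim_le`: some basic open `D(a) ∋ p` has dimension `≤ sup_{q0 ≤ p minimal} dim A/q0`.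
* `localDim_eq_iSup`: `localDim (Spec A) p = sup_{q0 ≤ p minimal} dim A/q0`.
-/

set_option autoImplicit false
set_option linter.style.haveILetI false
universe u

open TopologicalSpace Topology

namespace Groth.Agent.H9.LocalDimField

open Groth.Agent.H9.FibDim

theorem ringKrullDim_quotient_eq_coheight {A : Type*} [CommRing A] (x : PrimeSpectrum A) :
    ringKrullDim (A ⧸ x.asIdeal) = ((Order.coheight x : ℕ∞) : WithBot ℕ∞) := by
  rw [ringKrullDim_quotient, Order.coheight_eq_krullDim_Ici]
  have : PrimeSpectrum.zeroLocus (x.asIdeal : Set A) = Set.Ici x := by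
    ext q
    rw [PrimeSpectrum.mem_zeroLocus, SetLike.coe_subset_coe, Set.mem_Ici]
    rfl
  rw [this]

/-- height in a quotient is at most the height upstairs. -/
theorem height_le_height_comap_of_surjective {A D : Type*} [CommRing A] [CommRing D] (f : A →+* D)
    (hf : Function.Surjective f) (P : Ideal D) [P.IsPrime] : P.height ≤ (P.comap f).height := by
  have e1 := PrimeSpectrum.height_eq_orderHeight (⟨P, inferInstance⟩ : PrimeSpectrum D)
  have e2 := PrimeSpectrum.height_eq_orderHeight (PrimeSpectrum.comap f ⟨P, inferInstance⟩)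
  change P.height = _ at e1
  change (P.comap f).height = _ at e2
  rw [e1, e2]
  have hmono : StrictMono (PrimeSpectrum.comap f) := by
    intro a b hab
    have h1 : a.asIdeal < b.asIdeal := hab
    show (a.asIdeal.comap f) < (b.asIdeal.comap f)
    refine lt_of_le_of_ne (Ideal.comap_mono h1.le) fun h => h1.ne ?_
    exact Ideal.comap_injective_of_surjective f hf h
  exact Order.height_le_height_apply_of_strictMono _ hmono ⟨P, inferInstance⟩


/-- for a maximal ideal `m ⊇ q0` of a finite type algebra over a field, `dim A/q0 ≤ ht m`. -/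
theorem ringKrullDim_quotient_le_height (k : Type u) [Field k] (A : Type u) [CommRing A] [Algebra k A]
    [Algebra.FiniteType k A] (q0 : Ideal A) [q0.IsPrime] (m : Ideal A) [hm : m.IsMaximal]
    (hq0m : q0 ≤ m) : ringKrullDim (A ⧸ q0) ≤ (m.height : WithBot ℕ∞) := by
  let mk := Ideal.Quotient.mk q0
  have hsurj : Function.Surjective mk := Ideal.Quotient.mk_surjective
  let m' : Ideal (A ⧸ q0) := m.map mk
  have hcomap : m'.comap mk = m := by
    rw [Ideal.comap_map_of_surjective mk hsurj, ← RingHom.ker_eq_comap_bot, Ideal.mk_ker]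
    exact sup_eq_left.mpr hq0m
  haveI hm' : m'.IsMaximal := by
    have := Ideal.map_eq_top_or_isMaximal_of_surjective mk hsurj hm
    rcases this with h | h
    · exfalso
      have : m'.comap mk = ⊤ := by
        show Ideal.comap mk (Ideal.map mk m) = ⊤
        rw [h]; rfl
      rw [hcomap] at this
      exact hm.ne_top this
    · exact h
  have h1 := Groth.Agent.H54.height_eq_ringKrullDim_of_isMaximal k (A ⧸ q0) m'
  rw [← h1]
  have h2 : m'.height ≤ m.height := by
    have := height_le_height_comap_of_surjective mk hsurj m'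
    rwa [hcomap] at this
  exact_mod_cast h2

/-- (FD') a basic open containing a maximal ideal `m ⊇ q0` has dimension at least `dim A/q0`. -/
theorem ringKrullDim_quotient_le_away (k : Type u) [Field k] (A : Type u) [CommRing A] [Algebra k A]
    [Algebra.FiniteType k A] (q0 : Ideal A) [q0.IsPrime] (m : Ideal A) [hm : m.IsMaximal]
    (hq0m : q0 ≤ m) (a : A) (ha : a ∉ m) :
    ringKrullDim (A ⧸ q0) ≤ ringKrullDim (Localization.Away a) := by
  refine (ringKrullDim_quotient_le_height k A q0 m hq0m).trans ?_
  have hdisj : Disjoint (Submonoid.powers a : Set A) (m : Set A) :=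
    (Ideal.disjoint_powers_iff_notMem_of_isPrime _).mpr ha
  have h3 := IsLocalization.height_map_of_disjoint (S := Localization.Away a) (Submonoid.powers a) m hdisj
  have hprime : (m.map (algebraMap A (Localization.Away a))).IsPrime :=
    IsLocalization.isPrime_of_isPrime_disjoint (Submonoid.powers a) _ m inferInstance hdisj
  have h4 := Ideal.height_le_ringKrullDim_of_ne_top hprime.ne_top
  rw [h3] at h4
  exact h4

/-- the height of a maximal ideal not containing `a` is at most `dim A_a`. -/
theorem height_le_ringKrullDim_away {A : Type u} [CommRing A] (m : Ideal A) [m.IsPrime] (a : A)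
    (ha : a ∉ m) : (m.height : WithBot ℕ∞) ≤ ringKrullDim (Localization.Away a) := by
  have hdisj : Disjoint (Submonoid.powers a : Set A) (m : Set A) :=
    (Ideal.disjoint_powers_iff_notMem_of_isPrime _).mpr ha
  have h3 := IsLocalization.height_map_of_disjoint (S := Localization.Away a) (Submonoid.powers a) m hdisj
  have hprime : (m.map (algebraMap A (Localization.Away a))).IsPrime :=
    IsLocalization.isPrime_of_isPrime_disjoint (Submonoid.powers a) _ m inferInstance hdisj
  have h4 := Ideal.height_le_ringKrullDim_of_ne_top hprime.ne_top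
  rw [h3] at h4
  exact h4

theorem exists_maximal_of_notMem {A : Type*} [CommRing A] [IsJacobsonRing A] (p : Ideal A) [hp : p.IsPrime]
    (a : A) (ha : a ∉ p) : ∃ m : Ideal A, m.IsMaximal ∧ p ≤ m ∧ a ∉ m := by
  have h1 : p.jacobson = p := IsJacobsonRing.out' p hp.isRadical
  by_contra hcon
  push Not at hcon
  apply ha
  rw [← h1]
  unfold Ideal.jacobson
  rw [Ideal.mem_sInf]
  rintro J ⟨hpJ, hJ⟩
  exact hcon J hJ hpJ

/-- (FD) an open containing `p` has dimension at least `dim A/q0` for primes `q0 ≤ p`. -/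
theorem ringKrullDim_quotient_le_dim_open (k : Type u) [Field k] (A : Type u) [CommRing A] [Algebra k A]
    [Algebra.FiniteType k A] (q0 p : PrimeSpectrum A) (hle : q0 ≤ p) (U : Opens (PrimeSpectrum A))
    (hpU : p ∈ U) : ringKrullDim (A ⧸ q0.asIdeal) ≤ topologicalKrullDim ↥(U : Set (PrimeSpectrum A)) := by
  obtain ⟨_, ⟨a, rfl⟩, hpa, haU⟩ :=
    PrimeSpectrum.isTopologicalBasis_basic_opens.exists_subset_of_mem_open hpU U.2
  haveI : IsJacobsonRing A := isJacobsonRing_of_finiteType (A := k)
  obtain ⟨m, hm, hpm, ham⟩ := exists_maximal_of_notMem p.asIdeal a hpa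
  have h1 := ringKrullDim_quotient_le_away k A q0.asIdeal m (le_trans hle hpm) a ham
  rw [← dim_basicOpen_eq] at h1
  exact h1.trans (dim_mono_subset haU)


theorem exists_away_dim_le (A : Type u) [CommRing A] [IsNoetherianRing A] (p : PrimeSpectrum A) :
    ∃ a : A, a ∉ p.asIdeal ∧ ringKrullDim (Localization.Away a) ≤
      ⨆ q0 : {q0 : PrimeSpectrum A // q0.asIdeal ∈ minimalPrimes A ∧ q0 ≤ p},
        ringKrullDim (A ⧸ q0.1.asIdeal) := by
  classical
  have hfin : (minimalPrimes A).Finite := Ideal.finite_minimalPrimes_of_isNoetherianRing A ⊥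
  let F : Finset (Ideal A) := hfin.toFinset.filter (fun q' => ¬ q' ≤ p.asIdeal)
  have hc : ∀ q' : Ideal A, ∃ c : A, ¬ q' ≤ p.asIdeal → c ∈ q' ∧ c ∉ p.asIdeal := by
    intro q'
    by_cases h : q' ≤ p.asIdeal
    · exact ⟨0, fun h' => absurd h h'⟩
    · obtain ⟨c, hc1, hc2⟩ := Set.not_subset.mp h
      exact ⟨c, fun _ => ⟨hc1, hc2⟩⟩
  choose c hc using hc
  let a : A := ∏ q' ∈ F, c q'
  have haF : ∀ q' ∈ F, a ∈ q' := by
    intro q' hq'
    have h1 : c q' ∣ a := Finset.dvd_prod_of_mem c hq'
    have h2 : ¬ q' ≤ p.asIdeal := (Finset.mem_filter.mp hq').2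
    exact Ideal.mem_of_dvd _ h1 (hc q' h2).1
  have hap : a ∉ p.asIdeal := by
    intro h
    obtain ⟨q', hq', hcq'⟩ := (Ideal.IsPrime.prod_mem_iff (hp := p.2)).mp h
    exact (hc q' (Finset.mem_filter.mp hq').2).2 hcq'
  refine ⟨a, hap, ?_⟩
  unfold ringKrullDim
  rw [Order.krullDim_eq_iSup_coheight]
  apply iSup_le
  intro P
  let p' : PrimeSpectrum A := PrimeSpectrum.comap (algebraMap A (Localization.Away a)) P
  have hmono : StrictMono (PrimeSpectrum.comap (algebraMap A (Localization.Away a))) := by
    intro P₁ P₂ h12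
    have hle : PrimeSpectrum.comap (algebraMap A (Localization.Away a)) P₁ ≤
        PrimeSpectrum.comap (algebraMap A (Localization.Away a)) P₂ := Ideal.comap_mono h12.le
    refine lt_of_le_of_ne hle fun h => h12.ne ?_
    exact PrimeSpectrum.localization_comap_injective (Localization.Away a) (Submonoid.powers a) h
  have h1 : Order.coheight P ≤ Order.coheight p' :=
    Order.coheight_le_coheight_apply_of_strictMono _ hmono P
  obtain ⟨q0, hq0min, hq0le⟩ := Ideal.exists_minimalPrimes_le (I := ⊥) (J := p'.asIdeal) bot_le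
  let q0' : PrimeSpectrum A := ⟨q0, hq0min.1.1⟩
  have h2 : Order.coheight p' ≤ Order.coheight q0' := Order.coheight_anti (show q0' ≤ p' from hq0le)
  have hap' : a ∉ p'.asIdeal := by
    intro h
    have h3 : algebraMap A (Localization.Away a) a ∈ P.asIdeal := h
    exact P.2.ne_top (Ideal.eq_top_of_isUnit_mem _ h3 (IsLocalization.Away.algebraMap_isUnit a))
  have hq0p : q0' ≤ p := by
    by_contra hnot
    have hmem : q0 ∈ F := Finset.mem_filter.mpr ⟨hfin.mem_toFinset.mpr hq0min, hnot⟩
    exact hap' (hq0le (haF q0 hmem))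
  have h3 : ringKrullDim (A ⧸ q0'.asIdeal) = ((Order.coheight q0' : ℕ∞) : WithBot ℕ∞) :=
    ringKrullDim_quotient_eq_coheight q0'
  calc ((Order.coheight P : ℕ∞) : WithBot ℕ∞) ≤ ((Order.coheight q0' : ℕ∞) : WithBot ℕ∞) := by
        exact_mod_cast h1.trans h2
    _ = ringKrullDim (A ⧸ q0'.asIdeal) := h3.symm
    _ ≤ _ := le_iSup (fun q0 : {q0 : PrimeSpectrum A // q0.asIdeal ∈ minimalPrimes A ∧ q0 ≤ p} =>
        ringKrullDim (A ⧸ q0.1.asIdeal)) ⟨q0', hq0min, hq0p⟩

/-- (L1) local dimension of a finite type algebra over a field. -/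
theorem localDim_eq_iSup (k : Type u) [Field k] (A : Type u) [CommRing A] [Algebra k A]
    [Algebra.FiniteType k A] (p : PrimeSpectrum A) :
    FlatMor.localDim (PrimeSpectrum A) p =
      ⨆ q0 : {q0 : PrimeSpectrum A // q0.asIdeal ∈ minimalPrimes A ∧ q0 ≤ p},
        ringKrullDim (A ⧸ q0.1.asIdeal) := by
  haveI : IsNoetherianRing A := Algebra.FiniteType.isNoetherianRing k A
  apply le_antisymm
  · obtain ⟨a, hap, ha⟩ := exists_away_dim_le A p
    refine (localDim_le_of_mem _ p (PrimeSpectrum.basicOpen a) hap).trans ?_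
    rw [dim_basicOpen_eq]
    exact ha
  · apply iSup_le
    rintro ⟨q0, -, hle⟩
    refine le_iInf fun U => ?_
    exact ringKrullDim_quotient_le_dim_open k A q0 p hle U.1 U.2

end Groth.Agent.H9.LocalDimField
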