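import Mathlib

/-!
# Transcendence degree is invariant under algebraic vertical maps in a commutative square
-/

set_option autoImplicit false
set_option linter.style.haveILetI false
universe u

namespace Groth.Agent.H9.TrdegSq

/-- Instance version: in a commutative square of injective maps of domains with algebraic
vertical maps, the horizontal transcendence degrees agree. -/
theorem trdeg_eq_of_tower (R₁ S₁ R₂ S₂ : Type u) [CommRing R₁] [CommRing S₁] [CommRing R₂]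
    [CommRing S₂] [Nontrivial R₁] [NoZeroDivisors S₂]
    [Algebra R₁ S₁] [Algebra R₂ S₂] [Algebra R₁ R₂] [Algebra S₁ S₂] [Algebra R₁ S₂]
    [IsScalarTower R₁ S₁ S₂] [IsScalarTower R₁ R₂ S₂]
    [FaithfulSMul R₁ S₁] [FaithfulSMul R₂ S₂] [FaithfulSMul R₁ R₂] [FaithfulSMul S₁ S₂]
    [Algebra.IsAlgebraic R₁ R₂] [Algebra.IsAlgebraic S₁ S₂] :
    Algebra.trdeg R₁ S₁ = Algebra.trdeg R₂ S₂ := by
  have h1 := trdeg_add_eq (R := R₁) (S := S₁) (A := S₂)
  have h2 := trdeg_add_eq (R := R₁) (S := R₂) (A := S₂)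
  rw [trdeg_eq_zero (R := S₁) (A := S₂), add_zero] at h1
  rw [trdeg_eq_zero (R := R₁) (A := R₂), zero_add] at h2
  exact h1.trans h2.symm

/-- Commutative square of injective ring maps `R₁ → S₁`, `R₂ → S₂`, `R₁ → R₂`, `S₁ → S₂`
with algebraic vertical maps and `S₂` a domain: the horizontal transcendence degrees agree. -/
theorem trdeg_eq_of_sq {R₁ S₁ R₂ S₂ : Type u} [CommRing R₁] [CommRing S₁] [CommRing R₂]
    [CommRing S₂] [Nontrivial R₁] [NoZeroDivisors S₂]
    (a : R₁ →+* S₁) (b : R₂ →+* S₂) (c : R₁ →+* R₂) (d : S₁ →+* S₂)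
    (ha : Function.Injective a) (hb : Function.Injective b) (hc : Function.Injective c)
    (hd : Function.Injective d) (hsq : d.comp a = b.comp c)
    (hcalg : @Algebra.IsAlgebraic R₁ R₂ _ _ c.toAlgebra)
    (hdalg : @Algebra.IsAlgebraic S₁ S₂ _ _ d.toAlgebra) :
    @Algebra.trdeg R₁ S₁ _ _ a.toAlgebra = @Algebra.trdeg R₂ S₂ _ _ b.toAlgebra := by
  letI i1 : Algebra R₁ S₁ := a.toAlgebra
  letI i2 : Algebra R₂ S₂ := b.toAlgebra
  letI i3 : Algebra R₁ R₂ := c.toAlgebra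
  letI i4 : Algebra S₁ S₂ := d.toAlgebra
  letI i5 : Algebra R₁ S₂ := (d.comp a).toAlgebra
  haveI t1 : IsScalarTower R₁ S₁ S₂ := IsScalarTower.of_algebraMap_eq fun r => rfl
  haveI t2 : IsScalarTower R₁ R₂ S₂ := IsScalarTower.of_algebraMap_eq fun r => by
    change (d.comp a) r = b (c r)
    rw [hsq]; rfl
  haveI f1 : FaithfulSMul R₁ S₁ := (faithfulSMul_iff_algebraMap_injective R₁ S₁).mpr ha
  haveI f2 : FaithfulSMul R₂ S₂ := (faithfulSMul_iff_algebraMap_injective R₂ S₂).mpr hb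
  haveI f3 : FaithfulSMul R₁ R₂ := (faithfulSMul_iff_algebraMap_injective R₁ R₂).mpr hc
  haveI f4 : FaithfulSMul S₁ S₂ := (faithfulSMul_iff_algebraMap_injective S₁ S₂).mpr hd
  have h1 := trdeg_add_eq (R := R₁) (S := S₁) (A := S₂)
  have h2 := trdeg_add_eq (R := R₁) (S := R₂) (A := S₂)
  rw [trdeg_eq_zero (R := S₁) (A := S₂), add_zero] at h1
  rw [trdeg_eq_zero (R := R₁) (A := R₂), zero_add] at h2
  exact h1.trans h2.symm

/-- A surjective algebra map is algebraic. -/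
theorem isAlgebraic_of_surjective {R A : Type*} [CommRing R] [Nontrivial R] [CommRing A]
    (c : R →+* A)
    (hc : Function.Surjective c) : @Algebra.IsAlgebraic R A _ _ c.toAlgebra := by
  letI : Algebra R A := c.toAlgebra
  refine ⟨fun x => ?_⟩
  obtain ⟨r, rfl⟩ := hc x
  exact isAlgebraic_algebraMap r

/-- Variant with bijective vertical maps. -/
theorem trdeg_eq_of_sq_bijective {R₁ S₁ R₂ S₂ : Type u} [CommRing R₁] [CommRing S₁] [CommRing R₂]
    [CommRing S₂] [Nontrivial R₁] [NoZeroDivisors S₂]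
    (a : R₁ →+* S₁) (b : R₂ →+* S₂) (c : R₁ →+* R₂) (d : S₁ →+* S₂)
    (ha : Function.Injective a) (hb : Function.Injective b) (hc : Function.Bijective c)
    (hd : Function.Bijective d) (hsq : d.comp a = b.comp c) :
    @Algebra.trdeg R₁ S₁ _ _ a.toAlgebra = @Algebra.trdeg R₂ S₂ _ _ b.toAlgebra := by
  haveI : Nontrivial S₁ := ha.nontrivial
  exact trdeg_eq_of_sq a b c d ha hb hc.1 hd.1 hsq (isAlgebraic_of_surjective c hc.2)
    (isAlgebraic_of_surjective d hd.2)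

/-- Instance version for ring isomorphisms. -/
theorem trdeg_eq_of_equiv {R₁ S₁ R₂ S₂ : Type u} [CommRing R₁] [CommRing S₁] [CommRing R₂]
    [CommRing S₂] [Nontrivial R₁] [NoZeroDivisors S₂] [Algebra R₁ S₁] [Algebra R₂ S₂]
    [FaithfulSMul R₁ S₁] (c : R₁ ≃+* R₂) (d : S₁ ≃+* S₂)
    (h : ∀ r, d (algebraMap R₁ S₁ r) = algebraMap R₂ S₂ (c r)) :
    Algebra.trdeg R₁ S₁ = Algebra.trdeg R₂ S₂ := by
  letI i3 : Algebra R₁ R₂ := (c : R₁ →+* R₂).toAlgebra
  letI i4 : Algebra S₁ S₂ := (d : S₁ →+* S₂).toAlgebra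
  letI i5 : Algebra R₁ S₂ := ((algebraMap R₂ S₂).comp (c : R₁ →+* R₂)).toAlgebra
  haveI t1 : IsScalarTower R₁ S₁ S₂ := IsScalarTower.of_algebraMap_eq fun r => (h r).symm
  haveI t2 : IsScalarTower R₁ R₂ S₂ := IsScalarTower.of_algebraMap_eq fun r => rfl
  haveI f3 : FaithfulSMul R₁ R₂ := (faithfulSMul_iff_algebraMap_injective R₁ R₂).mpr c.injective
  haveI f4 : FaithfulSMul S₁ S₂ := (faithfulSMul_iff_algebraMap_injective S₁ S₂).mpr d.injective
  haveI f2 : FaithfulSMul R₂ S₂ := by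
    rw [faithfulSMul_iff_algebraMap_injective]
    intro x y hxy
    obtain ⟨x', rfl⟩ := c.surjective x
    obtain ⟨y', rfl⟩ := c.surjective y
    rw [← h, ← h] at hxy
    rw [FaithfulSMul.algebraMap_injective R₁ S₁ (d.injective hxy)]
  haveI : Nontrivial S₁ := (FaithfulSMul.algebraMap_injective R₁ S₁).nontrivial
  haveI a1 : Algebra.IsAlgebraic R₁ R₂ := isAlgebraic_of_surjective (c : R₁ →+* R₂) c.surjective
  haveI a2 : Algebra.IsAlgebraic S₁ S₂ := isAlgebraic_of_surjective (d : S₁ →+* S₂) d.surjective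
  exact trdeg_eq_of_tower R₁ S₁ R₂ S₂

end Groth.Agent.H9.TrdegSq
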