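import Mathlib
import Groth.Agent.H71.DimFormula
import Groth.Agent.H9.TrdegSq
import Groth.Agent.S2141
import Groth.Agent.H9.LocalDimField

/-!
# The dimension formula for quotients (ring level)
-/

set_option autoImplicit false
set_option linter.style.haveILetI false
universe u

namespace Groth.Agent.H9.DimFormulaRing

open Groth.Agent.H9.TrdegSq

variable {A B : Type u} [CommRing A] [CommRing B] [Algebra A B]

theorem map_mk_isPrime {C : Type*} [CommRing C] (Q q : Ideal C) [q.IsPrime] (h : Q ≤ q) :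
    (q.map (Ideal.Quotient.mk Q)).IsPrime :=
  Ideal.map_isPrime_of_surjective Ideal.Quotient.mk_surjective (by rw [Ideal.mk_ker]; exact h)

theorem comap_map_mk {C : Type*} [CommRing C] (Q q : Ideal C) (h : Q ≤ q) :
    (q.map (Ideal.Quotient.mk Q)).comap (Ideal.Quotient.mk Q) = q := by
  rw [Ideal.comap_map_of_surjective _ Ideal.Quotient.mk_surjective, ← RingHom.ker_eq_comap_bot,
    Ideal.mk_ker, sup_eq_left]
  exact h

theorem liesOver_map_mk (Q q : Ideal B) [Q.IsPrime] [q.IsPrime] (hQq : Q ≤ q) :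
    (q.map (Ideal.Quotient.mk Q)).LiesOver
      ((q.under A).map (Ideal.Quotient.mk (Q.under A))) := by
  have hPp : Q.under A ≤ q.under A := Ideal.comap_mono hQq
  constructor
  ext r
  obtain ⟨a, rfl⟩ := Ideal.Quotient.mk_surjective r
  change Ideal.Quotient.mk _ a ∈ _ ↔
    algebraMap (A ⧸ Q.under A) (B ⧸ Q) (Ideal.Quotient.mk _ a) ∈ q.map (Ideal.Quotient.mk Q)
  have h0 : algebraMap (A ⧸ Q.under A) (B ⧸ Q) (Ideal.Quotient.mk _ a) =
      Ideal.Quotient.mk Q (algebraMap A B a) := rfl
  rw [h0]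
  have h1 : Ideal.Quotient.mk (Q.under A) a ∈ (q.under A).map (Ideal.Quotient.mk (Q.under A)) ↔
      a ∈ q.under A := by
    rw [← Ideal.mem_comap, comap_map_mk _ _ hPp]
  have h2 : Ideal.Quotient.mk Q (algebraMap A B a) ∈ q.map (Ideal.Quotient.mk Q) ↔
      algebraMap A B a ∈ q := by
    rw [← Ideal.mem_comap, comap_map_mk _ _ hQq]
  rw [h1, h2]
  rfl

/-- **Dimension formula for a pair of primes `Q ≤ q`** of a finite type algebra `B` over a
Noetherian ring `A`. -/
theorem quot_main [IsNoetherianRing A] [Algebra.FiniteType A B] (Q q : Ideal B) [Q.IsPrime]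
    [q.IsPrime] (hQq : Q ≤ q) :
    (((q.map (Ideal.Quotient.mk Q)).height : Cardinal.{u}) +
        Algebra.trdeg (A ⧸ q.under A) (B ⧸ q) ≤
      (((q.under A).map (Ideal.Quotient.mk (Q.under A))).height : Cardinal.{u}) +
        Algebra.trdeg (A ⧸ Q.under A) (B ⧸ Q)) ∧
    (CAlg.IsUniversallyCatenary (A ⧸ Q.under A) →
      ((q.map (Ideal.Quotient.mk Q)).height : Cardinal.{u}) +
        Algebra.trdeg (A ⧸ q.under A) (B ⧸ q) =
      (((q.under A).map (Ideal.Quotient.mk (Q.under A))).height : Cardinal.{u}) +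
        Algebra.trdeg (A ⧸ Q.under A) (B ⧸ Q)) := by
  have hPp : Q.under A ≤ q.under A := Ideal.comap_mono hQq
  haveI hp' : ((q.under A).map (Ideal.Quotient.mk (Q.under A))).IsPrime := map_mk_isPrime _ _ hPp
  haveI hq' : (q.map (Ideal.Quotient.mk Q)).IsPrime := map_mk_isPrime _ _ hQq
  haveI hlo := liesOver_map_mk (A := A) Q q hQq
  haveI : Algebra.FiniteType A (B ⧸ Q) := inferInstance
  haveI hft : Algebra.FiniteType (A ⧸ Q.under A) (B ⧸ Q) :=
    Algebra.FiniteType.of_restrictScalars_finiteType A _ _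
  obtain ⟨s, hs⟩ := hft.out
  have key := Groth.Agent.H71.DimFormula.main s (A ⧸ Q.under A) hs
    ((q.under A).map (Ideal.Quotient.mk (Q.under A))) (q.map (Ideal.Quotient.mk Q))
  have ht : Algebra.trdeg ((A ⧸ Q.under A) ⧸ (q.under A).map (Ideal.Quotient.mk (Q.under A)))
      ((B ⧸ Q) ⧸ q.map (Ideal.Quotient.mk Q)) = Algebra.trdeg (A ⧸ q.under A) (B ⧸ q) := by
    refine trdeg_eq_of_equiv (DoubleQuot.quotQuotEquivQuotOfLE hPp)
      (DoubleQuot.quotQuotEquivQuotOfLE hQq) ?_
    intro r
    obtain ⟨r', rfl⟩ := Ideal.Quotient.mk_surjective r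
    obtain ⟨a, rfl⟩ := Ideal.Quotient.mk_surjective r'
    rfl
  rw [ht] at key
  exact key

/-- The transcendence degree of `B/q` over `A/(q ∩ A)`, as a natural number. -/
noncomputable def td (A : Type u) {B : Type u} [CommRing A] [CommRing B] [Algebra A B]
    (q : Ideal B) : ℕ :=
  Cardinal.toNat (Algebra.trdeg (A ⧸ q.under A) (B ⧸ q))

theorem td_spec [Algebra.FiniteType A B] (q : Ideal B) [q.IsPrime] :
    (td A q : Cardinal.{u}) = Algebra.trdeg (A ⧸ q.under A) (B ⧸ q) := by
  haveI : Algebra.FiniteType A (B ⧸ q) := inferInstance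
  haveI hft : Algebra.FiniteType (A ⧸ q.under A) (B ⧸ q) :=
    Algebra.FiniteType.of_restrictScalars_finiteType A _ _
  exact Cardinal.cast_toNat_of_lt_aleph0 (trdeg_lt_aleph0_of_finiteType)

/-- Natural-number form of the dimension inequality for `Q ≤ q`. -/
theorem quot_le [IsNoetherianRing A] [Algebra.FiniteType A B] (Q q : Ideal B) [Q.IsPrime]
    [q.IsPrime] (hQq : Q ≤ q) :
    (q.map (Ideal.Quotient.mk Q)).height + (td A q : ℕ∞) ≤
      ((q.under A).map (Ideal.Quotient.mk (Q.under A))).height + (td A Q : ℕ∞) := by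
  have h := (quot_main (A := A) Q q hQq).1
  rw [← td_spec, ← td_spec] at h
  rw [← Cardinal.ofENat_le_ofENat]
  simpa using h

/-- Natural-number form of the dimension formula for `Q ≤ q`, universally catenary case. -/
theorem quot_eq [IsNoetherianRing A] [Algebra.FiniteType A B] (Q q : Ideal B) [Q.IsPrime]
    [q.IsPrime] (hQq : Q ≤ q) (huc : CAlg.IsUniversallyCatenary (A ⧸ Q.under A)) :
    (q.map (Ideal.Quotient.mk Q)).height + (td A q : ℕ∞) =
      ((q.under A).map (Ideal.Quotient.mk (Q.under A))).height + (td A Q : ℕ∞) := by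
  have h := (quot_main (A := A) Q q hQq).2 huc
  rw [← td_spec, ← td_spec] at h
  rw [← Cardinal.ofENat_inj]
  simpa using h

theorem height_map_mk_le {C : Type*} [CommRing C] (Q q : Ideal C) [q.IsPrime] (h : Q ≤ q) :
    (q.map (Ideal.Quotient.mk Q)).height ≤ q.height := by
  haveI := map_mk_isPrime Q q h
  have := Groth.Agent.H9.LocalDimField.height_le_height_comap_of_surjective
    (Ideal.Quotient.mk Q) Ideal.Quotient.mk_surjective (q.map (Ideal.Quotient.mk Q))
  rwa [comap_map_mk Q q h] at this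

/-- **General dimension inequality** (ring form of EGA IV 5.6.5): if `E` bounds the transcendence
degrees at the minimal primes below `q`, then `ht q + trdeg κ(q)/κ(p) ≤ ht p + E`. -/
theorem height_add_td_le [IsNoetherianRing A] [Algebra.FiniteType A B] (q : Ideal B) [q.IsPrime]
    (E : ℕ) (hE : ∀ Q : Ideal B, ∀ hQ : Q ∈ minimalPrimes B, Q ≤ q →
      haveI := hQ.1.1
      td A Q ≤ E) :
    q.height + (td A q : ℕ∞) ≤ (q.under A).height + (E : ℕ∞) := by
  haveI : IsNoetherianRing B := Algebra.FiniteType.isNoetherianRing A B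
  obtain ⟨Q, hQmin, hQq, hht⟩ := Groth.Agent.S2141.exists_minimalPrime_height_le q
  haveI := hQmin.1.1
  have h1 := quot_le (A := A) Q q hQq
  have h2 := height_map_mk_le (Q.under A) (q.under A) (Ideal.comap_mono hQq)
  have h3 : (td A Q : ℕ∞) ≤ E := by exact_mod_cast hE Q hQmin hQq
  calc q.height + (td A q : ℕ∞) ≤ (q.map (Ideal.Quotient.mk Q)).height + (td A q : ℕ∞) := by gcongr
    _ ≤ _ := h1
    _ ≤ (q.under A).height + (E : ℕ∞) := by gcongr

end Groth.Agent.H9.DimFormulaRing
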