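import Mathlib
import Groth.Agent.H9.TrdegSq

/-!
# Residue-field transcendence degrees on affine charts
-/

set_option autoImplicit false
set_option linter.style.haveILetI false
universe u

open AlgebraicGeometry CategoryTheory

namespace Groth.Agent.H9.TrdegBridge

open Groth.Agent.H9.TrdegSq

/-- Ring level: `trdeg (A/p) (B/q) = trdeg κ(p) κ(q)`. -/
theorem trdeg_quotient_eq_residueField {A B : Type u} [CommRing A] [CommRing B] (φ : A →+* B)
    (q : Ideal B) [q.IsPrime] (p : Ideal A) [p.IsPrime] (hp : p = q.comap φ) :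
    @Algebra.trdeg (A ⧸ p) (B ⧸ q) _ _ (Ideal.quotientMap q φ hp.le).toAlgebra =
    @Algebra.trdeg p.ResidueField q.ResidueField _ _
      (Ideal.ResidueField.map p q φ hp).toAlgebra := by
  letI i1 : Algebra (A ⧸ p) (B ⧸ q) := (Ideal.quotientMap q φ hp.le).toAlgebra
  letI i2 : Algebra p.ResidueField q.ResidueField := (Ideal.ResidueField.map p q φ hp).toAlgebra
  letI i5 : Algebra (A ⧸ p) q.ResidueField :=
    ((algebraMap (B ⧸ q) q.ResidueField).comp (Ideal.quotientMap q φ hp.le)).toAlgebra
  haveI t1 : IsScalarTower (A ⧸ p) (B ⧸ q) q.ResidueField :=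
    IsScalarTower.of_algebraMap_eq fun r => rfl
  haveI t2 : IsScalarTower (A ⧸ p) p.ResidueField q.ResidueField :=
    IsScalarTower.of_algebraMap_eq fun r => by
      obtain ⟨a, rfl⟩ := Ideal.Quotient.mk_surjective r
      change algebraMap (B ⧸ q) q.ResidueField (Ideal.quotientMap q φ hp.le (Ideal.Quotient.mk p a)) =
        Ideal.ResidueField.map p q φ hp (algebraMap (A ⧸ p) p.ResidueField (Ideal.Quotient.mk p a))
      rw [Ideal.quotientMap_mk, Ideal.algebraMap_quotient_residueField_mk,
        Ideal.algebraMap_quotient_residueField_mk, Ideal.ResidueField.map_algebraMap]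
  haveI f1 : FaithfulSMul (A ⧸ p) (B ⧸ q) :=
    (faithfulSMul_iff_algebraMap_injective _ _).mpr
      (Ideal.quotientMap_injective' (by rw [hp]))
  haveI f2 : FaithfulSMul p.ResidueField q.ResidueField :=
    (faithfulSMul_iff_algebraMap_injective _ _).mpr (RingHom.injective _)
  haveI f3 : FaithfulSMul (A ⧸ p) p.ResidueField :=
    (faithfulSMul_iff_algebraMap_injective _ _).mpr
      (Ideal.injective_algebraMap_quotient_residueField p)
  haveI f4 : FaithfulSMul (B ⧸ q) q.ResidueField :=
    (faithfulSMul_iff_algebraMap_injective _ _).mpr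
      (Ideal.injective_algebraMap_quotient_residueField q)
  haveI a1 : Algebra.IsAlgebraic (A ⧸ p) p.ResidueField :=
    IsLocalization.isAlgebraic p.ResidueField (nonZeroDivisors (A ⧸ p))
  haveI a2 : Algebra.IsAlgebraic (B ⧸ q) q.ResidueField :=
    IsLocalization.isAlgebraic q.ResidueField (nonZeroDivisors (B ⧸ q))
  exact trdeg_eq_of_tower (A ⧸ p) (B ⧸ q) p.ResidueField q.ResidueField

set_option backward.isDefEq.respectTransparency.types false in
/-- The residue field of a point in an affine chart, as a scheme over the ambient scheme. -/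
theorem specMap_chart_fromSpecResidueField {X : Scheme.{u}} {B : CommRingCat.{u}}
    (j : Spec B ⟶ X) (q : Spec B) :
    Spec.map (j.residueFieldMap q ≫ (Scheme.Spec.residueFieldIso B q).hom) ≫
        X.fromSpecResidueField (j q) =
      Spec.map (CommRingCat.ofHom (algebraMap B q.asIdeal.ResidueField)) ≫ j := by
  rw [Spec.map_comp, Category.assoc, Scheme.Hom.SpecMap_residueFieldMap_fromSpecResidueField,
    ← Scheme.Spec.map_residueFieldIso_inv_eq_fromSpecResidueField, ← Category.assoc,
    ← Category.assoc, ← Spec.map_comp, Iso.inv_hom_id, Spec.map_id, Category.id_comp]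

set_option backward.isDefEq.respectTransparency.types false in
/-- The residue field extension at a point of an affine chart is the ring-level one. -/
theorem residueFieldMap_chart_sq {X Y : Scheme.{u}} (f : X ⟶ Y) {A B : CommRingCat.{u}}
    (jU : Spec B ⟶ X) (jV : Spec A ⟶ Y) (φ : A ⟶ B) (hsq : jU ≫ f = Spec.map φ ≫ jV)
    (q : Spec B) (hpt : f (jU q) = jV (Spec.map φ q)) :
    f.residueFieldMap (jU q) ≫ jU.residueFieldMap q ≫ (Scheme.Spec.residueFieldIso B q).hom =
      ((Y.residueFieldCongr hpt).hom ≫ jV.residueFieldMap (Spec.map φ q) ≫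
        (Scheme.Spec.residueFieldIso A (Spec.map φ q)).hom) ≫
      CommRingCat.ofHom (Ideal.ResidueField.map (Spec.map φ q).asIdeal q.asIdeal φ.hom rfl) := by
  apply Spec.map_injective
  rw [← cancel_mono (Y.fromSpecResidueField (f (jU q)))]
  have hγ : CommRingCat.ofHom (algebraMap A (Spec.map φ q).asIdeal.ResidueField) ≫
      CommRingCat.ofHom (Ideal.ResidueField.map (Spec.map φ q).asIdeal q.asIdeal φ.hom rfl) =
      φ ≫ CommRingCat.ofHom (algebraMap B q.asIdeal.ResidueField) := by
    ext a
    exact Ideal.ResidueField.map_algebraMap _ _ _ _ a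
  calc Spec.map (f.residueFieldMap (jU q) ≫ jU.residueFieldMap q ≫
          (Scheme.Spec.residueFieldIso B q).hom) ≫ Y.fromSpecResidueField (f (jU q))
      = Spec.map (jU.residueFieldMap q ≫ (Scheme.Spec.residueFieldIso B q).hom) ≫
          X.fromSpecResidueField (jU q) ≫ f := by
        rw [Spec.map_comp, Category.assoc,
          Scheme.Hom.SpecMap_residueFieldMap_fromSpecResidueField]
    _ = Spec.map (CommRingCat.ofHom (algebraMap B q.asIdeal.ResidueField)) ≫ jU ≫ f := by
        rw [← Category.assoc, specMap_chart_fromSpecResidueField, Category.assoc]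
    _ = Spec.map (CommRingCat.ofHom (algebraMap B q.asIdeal.ResidueField)) ≫ Spec.map φ ≫ jV := by
        rw [hsq]
    _ = Spec.map (CommRingCat.ofHom
          (Ideal.ResidueField.map (Spec.map φ q).asIdeal q.asIdeal φ.hom rfl)) ≫
          Spec.map (CommRingCat.ofHom (algebraMap A (Spec.map φ q).asIdeal.ResidueField)) ≫ jV := by
        rw [← Category.assoc, ← Spec.map_comp, ← hγ, Spec.map_comp, Category.assoc]
    _ = Spec.map (CommRingCat.ofHom
          (Ideal.ResidueField.map (Spec.map φ q).asIdeal q.asIdeal φ.hom rfl)) ≫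
          Spec.map (jV.residueFieldMap (Spec.map φ q) ≫
            (Scheme.Spec.residueFieldIso A (Spec.map φ q)).hom) ≫
          Y.fromSpecResidueField (jV (Spec.map φ q)) := by
        rw [specMap_chart_fromSpecResidueField]
    _ = _ := by
        simp only [Spec.map_comp, Category.assoc, Scheme.residueFieldCongr_fromSpecResidueField]

set_option backward.isDefEq.respectTransparency.types false in
/-- **Bridge**: the transcendence degree of the residue field extension `κ(f x) → κ(x)` at a
point `x = jU q` of an affine chart equals `trdeg (A/p) (B/q)`. -/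
theorem trdeg_residueFieldMap_chart {X Y : Scheme.{u}} (f : X ⟶ Y) {A B : CommRingCat.{u}}
    (jU : Spec B ⟶ X) (jV : Spec A ⟶ Y) [IsOpenImmersion jU] [IsOpenImmersion jV] (φ : A ⟶ B)
    (hsq : jU ≫ f = Spec.map φ ≫ jV) (q : Spec B) :
    @Algebra.trdeg (Y.residueField (f (jU q))) (X.residueField (jU q)) _ _
        (f.residueFieldMap (jU q)).hom.toAlgebra =
    @Algebra.trdeg (A ⧸ q.asIdeal.comap φ.hom) (B ⧸ q.asIdeal) _ _
        (Ideal.quotientMap q.asIdeal φ.hom le_rfl).toAlgebra := by
  have hpt : f (jU q) = jV (Spec.map φ q) := by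
    rw [← Scheme.Hom.comp_apply, hsq, Scheme.Hom.comp_apply]
  rw [trdeg_quotient_eq_residueField φ.hom q.asIdeal (q.asIdeal.comap φ.hom) rfl]
  have hcat := residueFieldMap_chart_sq f jU jV φ hsq q hpt
  refine trdeg_eq_of_sq_bijective (f.residueFieldMap (jU q)).hom
    (Ideal.ResidueField.map (q.asIdeal.comap φ.hom) q.asIdeal φ.hom rfl)
    ((Y.residueFieldCongr hpt).hom ≫ jV.residueFieldMap (Spec.map φ q) ≫
        (Scheme.Spec.residueFieldIso A (Spec.map φ q)).hom).hom
    (jU.residueFieldMap q ≫ (Scheme.Spec.residueFieldIso B q).hom).hom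
    (RingHom.injective _) (RingHom.injective _)
    (ConcreteCategory.bijective_of_isIso _) (ConcreteCategory.bijective_of_isIso _) ?_
  have := congrArg CommRingCat.Hom.hom hcat
  exact this

end Groth.Agent.H9.TrdegBridge
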