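import Mathlib
import Groth.Agent.H9.DimFormulaRing
import Groth.Agent.H9.TrdegBridge

/-!
# The dimension formula is invariant under localization of the base
-/

set_option autoImplicit false
set_option linter.style.haveILetI false
universe u

namespace Groth.Agent.H9.DimFormulaLoc

open Groth.Agent.H9.DimFormulaRing Groth.Agent.H9.TrdegSq Groth.Agent.H9.TrdegBridge

section HT

variable {C C' : Type*} [CommRing C] [CommRing C'] [Algebra C C'] (N : Submonoid C)
  [IsLocalization N C']

/-- Relative heights are invariant under localization. -/
theorem height_map_mk_localization (Q q : Ideal C) [Q.IsPrime] [q.IsPrime] (hQq : Q ≤ q)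
    (hd : Disjoint (N : Set C) (q : Set C)) :
    ((q.map (algebraMap C C')).map
        (Ideal.Quotient.mk (Q.map (algebraMap C C')))).height =
      (q.map (Ideal.Quotient.mk Q)).height := by
  haveI : (q.map (Ideal.Quotient.mk Q)).IsPrime := map_mk_isPrime Q q hQq
  have hd' : Disjoint ((Algebra.algebraMapSubmonoid (C ⧸ Q) N : Submonoid (C ⧸ Q)) : Set (C ⧸ Q))
      (q.map (Ideal.Quotient.mk Q) : Set (C ⧸ Q)) := by
    rw [Set.disjoint_left]
    rintro _ ⟨n, hn, rfl⟩ hmem
    have hnq : n ∈ q := by
      rw [← comap_map_mk Q q hQq]
      exact hmem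
    exact Set.disjoint_left.mp hd hn hnq
  have h := IsLocalization.height_map_of_disjoint (S := C' ⧸ Q.map (algebraMap C C'))
    (Algebra.algebraMapSubmonoid (C ⧸ Q) N) (q.map (Ideal.Quotient.mk Q)) hd'
  rw [← h, Ideal.map_map, Ideal.map_map]
  rfl

end HT

section TD

variable {A B A' B' : Type u} [CommRing A] [CommRing B] [CommRing A'] [CommRing B']
  [Algebra A B] [Algebra A A'] [Algebra B B'] [Algebra A' B'] [Algebra A B']
  [IsScalarTower A A' B'] [IsScalarTower A B B'] (M : Submonoid A) [IsLocalization M A']
  [IsLocalization (Algebra.algebraMapSubmonoid B M) B']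

omit [IsLocalization M A'] in
include M in
/-- The contraction of an extended prime. -/
theorem under_map_under (q : Ideal B) [q.IsPrime]
    (hd : Disjoint ((Algebra.algebraMapSubmonoid B M : Submonoid B) : Set B) (q : Set B)) :
    ((q.map (algebraMap B B')).under A').comap (algebraMap A A') = q.under A := by
  have h1 : (q.map (algebraMap B B')).under B = q :=
    IsLocalization.under_map_of_isPrime_disjoint (Algebra.algebraMapSubmonoid B M) B' ‹_› hd
  ext a
  simp only [Ideal.mem_comap, Ideal.under_def]
  rw [← IsScalarTower.algebraMap_apply A A' B', IsScalarTower.algebraMap_apply A B B']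
  conv_rhs => rw [← h1]
  rfl

include M in
/-- Residue-field transcendence degrees are invariant under localization of the base. -/
theorem td_localization (q : Ideal B) [q.IsPrime]
    (hd : Disjoint ((Algebra.algebraMapSubmonoid B M : Submonoid B) : Set B) (q : Set B)) :
    td A' (q.map (algebraMap B B')) = td A q := by
  haveI hq' : (q.map (algebraMap B B')).IsPrime :=
    IsLocalization.isPrime_of_isPrime_disjoint (Algebra.algebraMapSubmonoid B M) B' q ‹_› hd
  have h1 : (q.map (algebraMap B B')).under B = q :=
    IsLocalization.under_map_of_isPrime_disjoint (Algebra.algebraMapSubmonoid B M) B' ‹_› hd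
  have hp : q.under A = ((q.map (algebraMap B B')).under A').comap (algebraMap A A') :=
    (under_map_under M q hd).symm
  unfold td
  congr 1
  have e1 := trdeg_quotient_eq_residueField (algebraMap A B) q (q.under A) rfl
  have e2 := trdeg_quotient_eq_residueField (algebraMap A' B') (q.map (algebraMap B B'))
    ((q.map (algebraMap B B')).under A') rfl
  refine (e2.trans ?_).trans e1.symm
  symm
  refine trdeg_eq_of_sq_bijective
    (Ideal.ResidueField.map (q.under A) q (algebraMap A B) rfl)
    (Ideal.ResidueField.map ((q.map (algebraMap B B')).under A') (q.map (algebraMap B B'))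
      (algebraMap A' B') rfl)
    (Ideal.ResidueField.map (q.under A) ((q.map (algebraMap B B')).under A') (algebraMap A A') hp)
    (Ideal.ResidueField.map q (q.map (algebraMap B B')) (algebraMap B B') h1.symm)
    (RingHom.injective _) (RingHom.injective _)
    ((RingHom.surjectiveOnStalks_of_isLocalization M A').residueFieldMap_bijective _ _ hp)
    ((RingHom.surjectiveOnStalks_of_isLocalization
      (Algebra.algebraMapSubmonoid B M) B').residueFieldMap_bijective _ _ h1.symm) ?_
  apply Ideal.ResidueField.ringHom_ext
  ext a
  simp only [RingHom.comp_apply, Ideal.ResidueField.map_algebraMap]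
  rw [← IsScalarTower.algebraMap_apply A A' B', ← IsScalarTower.algebraMap_apply A B B']

end TD

section UC

/-- A quotient of a universally catenary ring is universally catenary. -/
theorem isUniversallyCatenary_quotient {R : Type u} [CommRing R]
    (h : CAlg.IsUniversallyCatenary R) (I : Ideal R) : CAlg.IsUniversallyCatenary (R ⧸ I) := by
  haveI := h.1
  refine ⟨inferInstance, fun S _ _ hft => ?_⟩
  letI : Algebra R S := ((algebraMap (R ⧸ I) S).comp (Ideal.Quotient.mk I)).toAlgebra
  haveI : IsScalarTower R (R ⧸ I) S := IsScalarTower.of_algebraMap_eq fun r => rfl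
  haveI : Algebra.FiniteType R (R ⧸ I) := inferInstance
  have h1 : Algebra.FiniteType R (R ⧸ I) := inferInstance
  exact h.2 S (Algebra.FiniteType.trans h1 hft)

/-- Universal catenarity is invariant under ring isomorphisms. -/
theorem isUniversallyCatenary_of_ringEquiv {R R' : Type u} [CommRing R] [CommRing R']
    (e : R ≃+* R') (h : CAlg.IsUniversallyCatenary R) : CAlg.IsUniversallyCatenary R' := by
  haveI := h.1
  refine ⟨isNoetherianRing_of_ringEquiv R e, fun S _ _ hft => ?_⟩
  letI : Algebra R S := ((algebraMap R' S).comp (e : R →+* R')).toAlgebra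
  refine h.2 S ?_
  obtain ⟨s, hs⟩ := hft.out
  refine ⟨⟨s, ?_⟩⟩
  rw [eq_top_iff] at hs ⊢
  have key : ∀ x : S, x ∈ Algebra.adjoin R' (s : Set S) → x ∈ Algebra.adjoin R (s : Set S) := by
    intro x hx
    induction hx using Algebra.adjoin_induction with
    | mem y hy => exact Algebra.subset_adjoin hy
    | algebraMap r =>
      have : algebraMap R' S r = algebraMap R S (e.symm r) := by
        change _ = algebraMap R' S (e (e.symm r))
        rw [e.apply_symm_apply]
      rw [this]
      exact Subalgebra.algebraMap_mem _ _
    | add x y _ _ hx hy => exact Subalgebra.add_mem _ hx hy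
    | mul x y _ _ hx hy => exact Subalgebra.mul_mem _ hx hy
  intro x _
  exact key x (hs (Set.mem_univ x))

end UC

section Local

variable {A B : Type u} [CommRing A] [CommRing B] [Algebra A B]

theorem disjoint_algebraMapSubmonoid_primeCompl (Q q : Ideal B) [q.IsPrime] (hQq : Q ≤ q) :
    Disjoint ((Algebra.algebraMapSubmonoid B (q.under A).primeCompl : Submonoid B) : Set B)
      (Q : Set B) := by
  rw [Set.disjoint_left]
  rintro _ ⟨a, ha, rfl⟩ hmem
  exact ha (hQq hmem)

/-- Both sides of the dimension formula, transported to the localization of the base at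
`p = q ∩ A`. -/
theorem quot_local_aux [Algebra.FiniteType A B] (Q q : Ideal B) [Q.IsPrime] [q.IsPrime]
    (hQq : Q ≤ q) :
    ∃ (Q' q' : Ideal (Localization (Algebra.algebraMapSubmonoid B (q.under A).primeCompl)))
      (_ : Q'.IsPrime) (_ : q'.IsPrime), Q' ≤ q' ∧
      Algebra.FiniteType (Localization.AtPrime (q.under A))
        (Localization (Algebra.algebraMapSubmonoid B (q.under A).primeCompl)) ∧
      (q'.map (Ideal.Quotient.mk Q')).height = (q.map (Ideal.Quotient.mk Q)).height ∧
      ((q'.under (Localization.AtPrime (q.under A))).map (Ideal.Quotient.mk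
        (Q'.under (Localization.AtPrime (q.under A))))).height =
        ((q.under A).map (Ideal.Quotient.mk (Q.under A))).height ∧
      td (Localization.AtPrime (q.under A)) q' = td A q ∧
      td (Localization.AtPrime (q.under A)) Q' = td A Q := by
  have hdq := disjoint_algebraMapSubmonoid_primeCompl (A := A) q q le_rfl
  have hdQ := disjoint_algebraMapSubmonoid_primeCompl (A := A) Q q hQq
  haveI hq' : (q.map (algebraMap B
      (Localization (Algebra.algebraMapSubmonoid B (q.under A).primeCompl)))).IsPrime :=
    IsLocalization.isPrime_of_isPrime_disjoint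
      (Algebra.algebraMapSubmonoid B (q.under A).primeCompl) _ q ‹_› hdq
  haveI hQ' : (Q.map (algebraMap B
      (Localization (Algebra.algebraMapSubmonoid B (q.under A).primeCompl)))).IsPrime :=
    IsLocalization.isPrime_of_isPrime_disjoint
      (Algebra.algebraMapSubmonoid B (q.under A).primeCompl) _ Q ‹_› hdQ
  have hft : Algebra.FiniteType (Localization.AtPrime (q.under A))
      (Localization (Algebra.algebraMapSubmonoid B (q.under A).primeCompl)) := by
    have h1 : (algebraMap A B).FiniteType := RingHom.finiteType_algebraMap.mpr ‹_›
    haveI : IsLocalization (Submonoid.map (algebraMap A B) (q.under A).primeCompl)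
        (Localization (Algebra.algebraMapSubmonoid B (q.under A).primeCompl)) :=
      inferInstanceAs (IsLocalization (Algebra.algebraMapSubmonoid B (q.under A).primeCompl) _)
    have h2 := RingHom.finiteType_localizationPreserves (algebraMap A B) (q.under A).primeCompl
      (Localization.AtPrime (q.under A))
      (Localization (Algebra.algebraMapSubmonoid B (q.under A).primeCompl)) h1
    exact RingHom.finiteType_algebraMap.mp h2
  have hPp : Q.under A ≤ q.under A := Ideal.comap_mono hQq
  have e1 : (q.map (algebraMap B (Localization (Algebra.algebraMapSubmonoid B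
      (q.under A).primeCompl)))).under (Localization.AtPrime (q.under A)) =
      (q.under A).map (algebraMap A (Localization.AtPrime (q.under A))) := by
    exact (IsLocalization.map_under (q.under A).primeCompl
      (Localization.AtPrime (q.under A)) _).symm.trans
      (congrArg (fun I => Ideal.map (algebraMap A (Localization.AtPrime (q.under A))) I)
        (under_map_under (q.under A).primeCompl q hdq))
  have e2 : (Q.map (algebraMap B (Localization (Algebra.algebraMapSubmonoid B
      (q.under A).primeCompl)))).under (Localization.AtPrime (q.under A)) =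
      (Q.under A).map (algebraMap A (Localization.AtPrime (q.under A))) := by
    exact (IsLocalization.map_under (q.under A).primeCompl
      (Localization.AtPrime (q.under A)) _).symm.trans
      (congrArg (fun I => Ideal.map (algebraMap A (Localization.AtPrime (q.under A))) I)
        (under_map_under (q.under A).primeCompl Q hdQ))
  refine ⟨Q.map (algebraMap B _), q.map (algebraMap B _), hQ', hq', Ideal.map_mono hQq, hft,
    height_map_mk_localization (Algebra.algebraMapSubmonoid B (q.under A).primeCompl) Q q hQq hdq,
    ?_, td_localization (q.under A).primeCompl q hdq, td_localization (q.under A).primeCompl Q hdQ⟩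
  rw [e1, e2]
  exact height_map_mk_localization (q.under A).primeCompl (Q.under A) (q.under A) hPp
    disjoint_compl_left

/-- **Local dimension inequality**: it suffices that the localization of the base at `p = q ∩ A`
is Noetherian. -/
theorem quot_le_local [Algebra.FiniteType A B] (Q q : Ideal B) [Q.IsPrime] [q.IsPrime]
    (hQq : Q ≤ q) [IsNoetherianRing (Localization.AtPrime (q.under A))] :
    (q.map (Ideal.Quotient.mk Q)).height + (td A q : ℕ∞) ≤
      ((q.under A).map (Ideal.Quotient.mk (Q.under A))).height + (td A Q : ℕ∞) := by
  obtain ⟨Q', q', hQ', hq', hle, hft, h1, h2, h3, h4⟩ := quot_local_aux (A := A) Q q hQq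
  have key := quot_le (A := Localization.AtPrime (q.under A)) Q' q' hle
  rwa [h1, h2, h3, h4] at key

/-- **Local dimension formula**: equality if the localization of the base at `p = q ∩ A` is
universally catenary. -/
theorem quot_eq_local [Algebra.FiniteType A B] (Q q : Ideal B) [Q.IsPrime] [q.IsPrime]
    (hQq : Q ≤ q) (huc : CAlg.IsUniversallyCatenary (Localization.AtPrime (q.under A))) :
    (q.map (Ideal.Quotient.mk Q)).height + (td A q : ℕ∞) =
      ((q.under A).map (Ideal.Quotient.mk (Q.under A))).height + (td A Q : ℕ∞) := by
  haveI := huc.1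
  obtain ⟨Q', q', hQ', hq', hle, hft, h1, h2, h3, h4⟩ := quot_local_aux (A := A) Q q hQq
  have key := quot_eq (A := Localization.AtPrime (q.under A)) Q' q' hle
    (isUniversallyCatenary_quotient huc _)
  rwa [h1, h2, h3, h4] at key

end Local

end Groth.Agent.H9.DimFormulaLoc
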