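import Mathlib
import Groth.Agent.H9.DimFormulaRing
import Groth.Agent.H9.TrdegBridge
import Groth.Agent.H54.GenericComp

/-!
# Translating the dimension formula to schemes: affine charts
-/

set_option autoImplicit false
set_option linter.style.haveILetI false
universe u

open AlgebraicGeometry CategoryTheory

namespace Groth.Agent.H9.DimFormulaScheme

open Groth.Agent.H9.DimFormulaRing Groth.Agent.H9.TrdegBridge

set_option backward.isDefEq.respectTransparency.types false in
/-- (T1) the dimension of the local ring at a point of an affine chart is the height of the prime. -/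
theorem ringKrullDim_stalk_fromSpec {X : Scheme.{u}} {U : X.Opens} (hU : IsAffineOpen U)
    (q : Spec Γ(X, U)) :
    ringKrullDim (X.presheaf.stalk (hU.fromSpec q)) = (q.asIdeal.height : WithBot ℕ∞) := by
  have hy : hU.fromSpec q ∈ U := by
    have : hU.fromSpec q ∈ Set.range hU.fromSpec := ⟨q, rfl⟩
    rwa [hU.range_fromSpec] at this
  have h := hU.isLocalization_stalk' q hy
  exact @IsLocalization.AtPrime.ringKrullDim_eq_height _ _ q.asIdeal _ _ _
    (TopCat.Presheaf.algebra_section_stalk X.presheaf ⟨hU.fromSpec q, hy⟩) h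

/-- The image of a chart point. -/
theorem map_fromSpec {X Y : Scheme.{u}} (f : X ⟶ Y) {U : X.Opens} {V : Y.Opens}
    (hU : IsAffineOpen U) (hV : IsAffineOpen V) (e : U ≤ f ⁻¹ᵁ V) (q : Spec Γ(X, U)) :
    f (hU.fromSpec q) = hV.fromSpec (Spec.map (f.appLE V U e) q) := by
  rw [← Scheme.Hom.comp_apply, ← IsAffineOpen.SpecMap_appLE_fromSpec f hV hU e,
    Scheme.Hom.comp_apply]

set_option backward.isDefEq.respectTransparency.types false in
/-- (T2) the dimension of the local ring of the base at the image of a chart point. -/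
theorem ringKrullDim_stalk_map_fromSpec {X Y : Scheme.{u}} (f : X ⟶ Y) {U : X.Opens} {V : Y.Opens}
    (hU : IsAffineOpen U) (hV : IsAffineOpen V) (e : U ≤ f ⁻¹ᵁ V) (q : Spec Γ(X, U)) :
    ringKrullDim (Y.presheaf.stalk (f (hU.fromSpec q))) =
      ((q.asIdeal.comap (f.appLE V U e).hom).height : WithBot ℕ∞) := by
  rw [map_fromSpec f hU hV e q, ringKrullDim_stalk_fromSpec hV]
  rfl

set_option backward.isDefEq.respectTransparency.types false in
/-- (T3) the transcendence degree of the residue field extension at a chart point. -/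
theorem trdeg_residueFieldMap_fromSpec {X Y : Scheme.{u}} (f : X ⟶ Y) {U : X.Opens} {V : Y.Opens}
    (hU : IsAffineOpen U) (hV : IsAffineOpen V) (e : U ≤ f ⁻¹ᵁ V) (q : Spec Γ(X, U)) :
    @Algebra.trdeg (Y.residueField (f (hU.fromSpec q))) (X.residueField (hU.fromSpec q)) _ _
        (f.residueFieldMap (hU.fromSpec q)).hom.toAlgebra =
    @Algebra.trdeg (Γ(Y, V) ⧸ q.asIdeal.comap (f.appLE V U e).hom) (Γ(X, U) ⧸ q.asIdeal) _ _
        (Ideal.quotientMap q.asIdeal (f.appLE V U e).hom le_rfl).toAlgebra :=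
  trdeg_residueFieldMap_chart f hU.fromSpec hV.fromSpec (f.appLE V U e)
    (IsAffineOpen.SpecMap_appLE_fromSpec f hV hU e).symm q

set_option backward.isDefEq.respectTransparency.types false in
/-- (T3') in terms of `td`. -/
theorem trdeg_residueFieldMap_eq_td {X Y : Scheme.{u}} (f : X ⟶ Y) [LocallyOfFiniteType f]
    {U : X.Opens} {V : Y.Opens}
    (hU : IsAffineOpen U) (hV : IsAffineOpen V) (e : U ≤ f ⁻¹ᵁ V) (q : Spec Γ(X, U)) :
    letI := (f.appLE V U e).hom.toAlgebra
    @Algebra.trdeg (Y.residueField (f (hU.fromSpec q))) (X.residueField (hU.fromSpec q)) _ _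
        (f.residueFieldMap (hU.fromSpec q)).hom.toAlgebra = (td Γ(Y, V) q.asIdeal : Cardinal.{u}) := by
  letI := (f.appLE V U e).hom.toAlgebra
  haveI : Algebra.FiniteType Γ(Y, V) Γ(X, U) := f.finiteType_appLE hV hU e
  rw [trdeg_residueFieldMap_fromSpec f hU hV e q, td_spec]
  rfl

set_option backward.isDefEq.respectTransparency.types false in
/-- (T4) minimal primes below `q` give generic points of irreducible components through the
chart point. -/
theorem generic_of_minimalPrime {X : Scheme.{u}} {U : X.Opens} (hU : IsAffineOpen U)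
    (q Q : Spec Γ(X, U)) (hQ : Q.asIdeal ∈ minimalPrimes Γ(X, U)) (hQq : Q.asIdeal ≤ q.asIdeal) :
    closure {hU.fromSpec Q} ∈ irreducibleComponents (X : Type u) ∧
      hU.fromSpec Q ⤳ hU.fromSpec q := by
  constructor
  · apply Groth.Agent.H54.closure_mem_irreducibleComponents_of_forall
    intro z hz
    have hzU : z ∈ Set.range hU.fromSpec := by
      rw [hU.range_fromSpec]
      exact hz.mem_open U.2 (by
        have : hU.fromSpec Q ∈ Set.range hU.fromSpec := ⟨Q, rfl⟩
        rwa [hU.range_fromSpec] at this)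
    obtain ⟨Q', rfl⟩ := hzU
    congr 1
    have hsp : Q' ⤳ Q := hU.fromSpec.isOpenEmbedding.isInducing.specializes_iff.mp hz
    have hle : Q'.asIdeal ≤ Q.asIdeal := (PrimeSpectrum.le_iff_specializes Q' Q).mpr hsp
    have := hQ.2 ⟨Q'.2, bot_le⟩ hle
    exact PrimeSpectrum.ext (le_antisymm hle this)
  · have hsp : Q ⤳ q := (PrimeSpectrum.le_iff_specializes Q q).mp hQq
    exact hsp.map hU.fromSpec.continuous

set_option backward.isDefEq.respectTransparency.types false in
/-- The residue field extension of a morphism locally of finite type has finite transcendence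
degree. -/
theorem exists_trdeg_eq_nat {X Y : Scheme.{u}} (f : X ⟶ Y) [LocallyOfFiniteType f] (x : X) :
    ∃ n : ℕ, @Algebra.trdeg (Y.residueField (f x)) (X.residueField x) _ _
      (f.residueFieldMap x).hom.toAlgebra = (n : Cardinal.{u}) := by
  obtain ⟨V, hV, hsV, -⟩ :=
    exists_isAffineOpen_mem_and_subset (X := Y) (x := f x) (U := ⊤) trivial
  obtain ⟨U, hU, hxU, e⟩ :=
    exists_isAffineOpen_mem_and_subset (X := X) (x := x) (U := f ⁻¹ᵁ V) hsV
  obtain ⟨q, rfl⟩ : ∃ q : Spec Γ(X, U), hU.fromSpec q = x :=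
    ⟨hU.primeIdealOf ⟨x, hxU⟩, hU.fromSpec_primeIdealOf ⟨x, hxU⟩⟩
  letI := (f.appLE V U e).hom.toAlgebra
  exact ⟨td Γ(Y, V) q.asIdeal, trdeg_residueFieldMap_eq_td f hU hV e q⟩

end Groth.Agent.H9.DimFormulaScheme
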