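import Groth.Agent.H9.FibDimTarget
import Groth.Agent.H9.LocalDimField

/-!
# Fibre dimension along the generic fibre

* `localDim_eq_of_le_all`: finite type algebra over a field with a smallest prime has constant local dimension.
* `tfd_eq_of_le_all`, `fibreDimAt_eq_of_generic`: for irreducible `X`, `fibreDimAt f` is constant on the fibre through
  the generic point.
* `dim_generic_fiber_le_fibreDimAt` (= S3388).
-/

set_option autoImplicit false
set_option linter.style.haveILetI false
universe u

open TopologicalSpace Topology AlgebraicGeometry TensorProduct CategoryTheory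

namespace Groth.Agent.H9.FibDim

open Groth.Agent.H9.LocalDimField

/-- (K') in a finite type algebra over a field with a smallest prime, the local dimension is constant. -/
theorem localDim_eq_of_le_all (k : Type u) [Field k] (T : Type u) [CommRing T] [Algebra k T]
    [Algebra.FiniteType k T] (Q₀ : PrimeSpectrum T) (h₀ : ∀ Q : PrimeSpectrum T, Q₀ ≤ Q)
    (Q : PrimeSpectrum T) :
    FlatMor.localDim (PrimeSpectrum T) Q = ringKrullDim (T ⧸ Q₀.asIdeal) := by
  rw [localDim_eq_iSup k T]
  have hmin : Q₀.asIdeal ∈ minimalPrimes T := by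
    refine ⟨⟨Q₀.2, bot_le⟩, fun J hJ _ => ?_⟩
    exact h₀ ⟨J, hJ.1⟩
  apply le_antisymm
  · apply iSup_le
    rintro ⟨q0, hq0, -⟩
    have : q0 = Q₀ := by
      apply le_antisymm
      · exact hq0.2 ⟨Q₀.2, bot_le⟩ (h₀ q0)
      · exact h₀ q0
    subst this
    exact le_rfl
  · exact le_iSup (fun q0 : {q0 : PrimeSpectrum T // q0.asIdeal ∈ minimalPrimes T ∧ q0 ≤ Q} =>
      ringKrullDim (T ⧸ q0.1.asIdeal)) ⟨Q₀, hmin, h₀ Q⟩

/-- (K) ring form: if `Spec S` has a generic point `q₀`, the fibre dimension of `R → S` (finite type) is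
constant on the fibre through `q₀`. -/
theorem tfd_eq_of_le_all (R S : Type u) [CommRing R] [CommRing S] [Algebra R S]
    [Algebra.FiniteType R S] (q₀ q : PrimeSpectrum S) (h₀ : ∀ q' : PrimeSpectrum S, q₀ ≤ q')
    (hp : q₀.asIdeal.under R = q.asIdeal.under R) :
    tfd (PrimeSpectrum.comap (algebraMap R S)) q = tfd (PrimeSpectrum.comap (algebraMap R S)) q₀ := by
  set p := q.asIdeal.under R with hpdef
  haveI : q₀.asIdeal.LiesOver p := ⟨hp.symm⟩
  obtain ⟨Q, hQ⟩ := exists_fiber_prime p q.asIdeal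
  obtain ⟨Q₀, hQ₀⟩ := exists_fiber_prime p q₀.asIdeal
  rw [← localDim_fiber_eq_tfd p q rfl Q hQ, ← localDim_fiber_eq_tfd p q₀ hp Q₀ hQ₀]
  have hall : ∀ Q' : PrimeSpectrum (p.Fiber S), Q₀ ≤ Q' := by
    intro Q'
    let e := PrimeSpectrum.preimageOrderIsoFiber R S ⟨p, inferInstance⟩
    rw [← e.symm.le_iff_le]
    show (e.symm Q₀).1 ≤ (e.symm Q').1
    have h1 : (e.symm Q₀).1 = q₀ := PrimeSpectrum.ext hQ₀
    rw [h1]
    exact h₀ _
  rw [localDim_eq_of_le_all p.ResidueField (p.Fiber S) Q₀ hall Q,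
    localDim_eq_of_le_all p.ResidueField (p.Fiber S) Q₀ hall Q₀]


/-- (K) the fibre dimension is constant along the fibre through the generic point. -/
theorem fibreDimAt_eq_of_generic {X Y : Scheme.{u}} (f : X ⟶ Y) [LocallyOfFiniteType f]
    [IrreducibleSpace X] (x : X) (hx : f.base x = f.base (genericPoint X)) :
    FlatMor.fibreDimAt f x = FlatMor.fibreDimAt f (genericPoint X) := by
  obtain ⟨V, hV, hxV, -⟩ :=
    exists_isAffineOpen_mem_and_subset (X := Y) (x := f.base x) (U := ⊤) trivial
  obtain ⟨U, hU, hxU, e⟩ :=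
    exists_isAffineOpen_mem_and_subset (X := X) (x := x) (U := f ⁻¹ᵁ V) hxV
  have hξU : genericPoint X ∈ U := by
    exact ((genericPoint_spec X).mem_open_set_iff U.2).mpr ⟨x, trivial, hxU⟩
  letI : Algebra Γ(Y, V) Γ(X, U) := (f.appLE V U e).hom.toAlgebra
  haveI : Algebra.FiniteType Γ(Y, V) Γ(X, U) := f.finiteType_appLE hV hU e
  have hx' : x ∈ Set.range hU.fromSpec.base := by rw [hU.range_fromSpec]; exact hxU
  have hξ' : genericPoint X ∈ Set.range hU.fromSpec.base := by rw [hU.range_fromSpec]; exact hξU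
  obtain ⟨q, hq⟩ := hx'
  obtain ⟨q₀, hq₀⟩ := hξ'
  rw [← hq, ← hq₀, fibreDimAt_fromSpec f hU hV e q, fibreDimAt_fromSpec f hU hV e q₀]
  have hsq : ∀ a : Spec Γ(X, U), f.base (hU.fromSpec.base a) =
      hV.fromSpec.base (PrimeSpectrum.comap (f.appLE V U e).hom a) := by
    intro a
    have h := IsAffineOpen.SpecMap_appLE_fromSpec f hV hU e
    have h2 := congrArg (fun g => g.base a) h
    simp only [Scheme.Hom.comp_base] at h2
    exact h2.symm
  refine tfd_eq_of_le_all Γ(Y, V) Γ(X, U) q₀ q ?_ ?_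
  · intro q'
    have h1 : hU.fromSpec.base q₀ ⤳ hU.fromSpec.base q' := by
      rw [hq₀]; exact (genericPoint_spec X).specializes trivial
    exact (PrimeSpectrum.le_iff_specializes q₀ q').mpr
      (hU.fromSpec.isOpenEmbedding.isInducing.specializes_iff.mp h1)
  · have h1 : PrimeSpectrum.comap (f.appLE V U e).hom q₀ = PrimeSpectrum.comap (f.appLE V U e).hom q := by
      apply hV.fromSpec.isOpenEmbedding.injective
      rw [← hsq, ← hsq, hq, hq₀, hx]
    exact congrArg PrimeSpectrum.asIdeal h1

/-- S3388 -/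
theorem dim_generic_fiber_le_fibreDimAt {X Y : Scheme.{u}} [IrreducibleSpace X] [IrreducibleSpace Y]
    (f : X ⟶ Y) [LocallyOfFiniteType f] [IsDominant f] (x : X) :
    topologicalKrullDim ↥(f.fiber (genericPoint Y)) ≤ FlatMor.fibreDimAt f x := by
  have hgen : f.base (genericPoint X) = genericPoint Y := by
    have h1 : IsGenericPoint (f.base (genericPoint X)) (closure (f.base '' Set.univ)) :=
      (genericPoint_spec X).image f.continuous
    rw [Set.image_univ, f.denseRange.closure_range] at h1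
    exact h1.eq (genericPoint_spec Y)
  obtain ⟨n, hn⟩ | htop : (∃ n : ℕ, FlatMor.fibreDimAt f x = n) ∨ FlatMor.fibreDimAt f x = ⊤ := by
    have hne : FlatMor.fibreDimAt f x ≠ ⊥ := by
      rw [fibreDimAt_eq_tfd]; exact localDim_ne_bot _ _
    by_cases htop : FlatMor.fibreDimAt f x = ⊤
    · exact Or.inr htop
    · left
      induction h : FlatMor.fibreDimAt f x using WithBot.recBotCoe with
      | bot => exact absurd h hne
      | coe d =>
        induction d using ENat.recTopCoe with
        | top => exact absurd h htop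
        | coe m => exact ⟨m, rfl⟩
  · have hopen := isOpen_setOf_fibreDimAt_le f n
    have hξ : genericPoint X ∈ {x' : X | FlatMor.fibreDimAt f x' ≤ (n : WithBot ℕ∞)} := by
      rw [(genericPoint_spec X).mem_open_set_iff hopen]
      exact ⟨x, trivial, hn.le⟩
    rw [dim_fiber_le_iff, hn]
    intro x'' hx''
    rw [fibreDimAt_eq_of_generic f x'' (by rw [hx'', hgen])]
    exact hξ
  · rw [htop]; exact le_top

end Groth.Agent.H9.FibDim
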