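import Mathlib
import Groth.Agent.H54.FibreTdeg
import Groth.Agent.H54.SchemeDim2

/-!
# Local fibre dimension = trdeg of the residue field extension + dimension of the local ring of the fibre
-/

set_option autoImplicit false
set_option linter.style.haveILetI false
universe u

open AlgebraicGeometry CategoryTheory

namespace Groth.Agent.H9.FibreFormula

open Groth.Agent.H54

/-- For a point `z` of a fibre: the local dimension of the fibre at `z` is the transcendence degree
of `κ(x)` over `κ(f x)` plus the dimension of the local ring of the fibre at `z`. -/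
theorem fibre_formula_aux {X Y : Scheme.{u}} (f : X ⟶ Y) [LocallyOfFiniteType f] (y : Y)
    (z : f.fiber y) :
    ∃ n b : ℕ,
      @Algebra.trdeg (Y.residueField (f.base (f.fiberι y z))) (X.residueField (f.fiberι y z)) _ _
        (f.residueFieldMap (f.fiberι y z)).hom.toAlgebra = (n : Cardinal.{u}) ∧
      ringKrullDim ((f.fiber y).presheaf.stalk z) = (b : WithBot ℕ∞) ∧
      FlatMor.localDim (f.fiber y) z = ((n + b : ℕ) : WithBot ℕ∞) := by
  obtain ⟨b, hb⟩ := ENat.ne_top_iff_exists.mp (coheight_ne_top (fiberQ f y) z)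
  refine ⟨tdeg (fiberQ f y) z, b, trdeg_fiber_eq f y z, ?_, localDim_eq (fiberQ f y) z b hb.symm⟩
  rw [ringKrullDim_stalk_eq_coheight, ← hb]
  rfl

/-- The fibre formula at a point `x` of the source. -/
theorem fibre_formula {X Y : Scheme.{u}} (f : X ⟶ Y) [LocallyOfFiniteType f] (x : X) :
    ∃ n b : ℕ,
      @Algebra.trdeg (Y.residueField (f.base x)) (X.residueField x) _ _
        (f.residueFieldMap x).hom.toAlgebra = (n : Cardinal.{u}) ∧
      ringKrullDim ((f.fiber (f.base x)).presheaf.stalk (f.asFiber x)) = (b : WithBot ℕ∞) ∧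
      FlatMor.fibreDimAt f x = ((n + b : ℕ) : WithBot ℕ∞) := by
  obtain ⟨n, b, h1, h2, h3⟩ := fibre_formula_aux f (f.base x) (f.asFiber x)
  refine ⟨n, b, ?_, h2, h3⟩
  have key : ∀ (x' : X) (hx' : x' = x),
      @Algebra.trdeg (Y.residueField (f.base x')) (X.residueField x') _ _
        (f.residueFieldMap x').hom.toAlgebra = (n : Cardinal.{u}) →
      @Algebra.trdeg (Y.residueField (f.base x)) (X.residueField x) _ _
        (f.residueFieldMap x).hom.toAlgebra = (n : Cardinal.{u}) := by
    rintro x' rfl h
    exact h
  exact key _ (f.fiberι_asFiber x) h1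

end Groth.Agent.H9.FibreFormula
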