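import Mathlib
import Groth.Agent.H9.DimFormulaLoc
import Groth.Agent.H9.DimFormulaScheme
import Groth.Agent.H9.FibreFormula
import Groth.Agent.H9.FibDimGeneric

/-!
# The dimension formula on irreducible schemes: equality over universally catenary local rings
-/

set_option autoImplicit false
set_option linter.style.haveILetI false
universe u

open AlgebraicGeometry CategoryTheory

namespace Groth.Agent.H9.DimFormulaEq

open Groth.Agent.H9.DimFormulaRing Groth.Agent.H9.DimFormulaScheme Groth.Agent.H9.DimFormulaLoc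
  Groth.Agent.H9.FibreFormula Groth.Agent.H9.FibDim

/-- Transport of residue-field transcendence degrees along an equality of points. -/
theorem trdeg_congr_point {X Y : Scheme.{u}} (f : X ⟶ Y) {x x' : X} (h : x = x') :
    @Algebra.trdeg (Y.residueField (f.base x)) (X.residueField x) _ _
        (f.residueFieldMap x).hom.toAlgebra =
    @Algebra.trdeg (Y.residueField (f.base x')) (X.residueField x') _ _
        (f.residueFieldMap x').hom.toAlgebra := by
  subst h; rfl

/-- In an irreducible scheme, the only generic point of an irreducible component is the generic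
point. -/
theorem eq_genericPoint {X : Scheme.{u}} [IrreducibleSpace X] (ξ : X)
    (hξ : closure {ξ} ∈ irreducibleComponents ↥X) : ξ = genericPoint X := by
  rw [irreducibleComponents_eq_singleton, Set.mem_singleton_iff] at hξ
  have h : IsGenericPoint ξ Set.univ := hξ
  exact h.eq (genericPoint_spec X)

theorem map_genericPoint {X Y : Scheme.{u}} [IrreducibleSpace X] [IrreducibleSpace Y]
    (f : X ⟶ Y) [IsDominant f] : f.base (genericPoint X) = genericPoint Y := by
  have h1 : IsGenericPoint (f.base (genericPoint X)) (closure (f.base '' Set.univ)) :=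
    (genericPoint_spec X).image f.continuous
  rw [Set.image_univ, f.denseRange.closure_range] at h1
  exact h1.eq (genericPoint_spec Y)

/-- A Noetherian local ring has finite natural Krull dimension. -/
theorem exists_ringKrullDim_eq_nat (R : Type*) [CommRing R] [IsNoetherianRing R] [IsLocalRing R] :
    ∃ m : ℕ, ringKrullDim R = (m : WithBot ℕ∞) := by
  have h1 : ringKrullDim R ≠ ⊤ := ringKrullDim_ne_top
  have h2 : ringKrullDim R ≠ ⊥ := ringKrullDim_ne_bot
  induction h : ringKrullDim R using WithBot.recBotCoe with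
  | bot => exact absurd h h2
  | coe d =>
    induction d using ENat.recTopCoe with
    | top => exact absurd h h1
    | coe m => exact ⟨m, rfl⟩

set_option backward.isDefEq.respectTransparency.types false in
/-- **Dimension formula, equality case.** `X`, `Y` irreducible, `Y` locally Noetherian, `f` dominant
and locally of finite type, `O_{Y,f x}` universally catenary:
`dim O_{X,x} + trdeg κ(x)/κ(f x) = dim O_{Y,f x} + trdeg K(X)/K(Y)`. -/
theorem stalk_add_trdeg_eq {X Y : Scheme.{u}} [IrreducibleSpace X] [IrreducibleSpace Y]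
    [IsLocallyNoetherian Y] (f : X ⟶ Y) [LocallyOfFiniteType f] [IsDominant f] (x : X)
    (hcat : CAlg.IsUniversallyCatenary (Y.presheaf.stalk (f.base x))) (n E : ℕ)
    (hn : @Algebra.trdeg (Y.residueField (f.base x)) (X.residueField x) _ _
        (f.residueFieldMap x).hom.toAlgebra = (n : Cardinal.{u}))
    (hE : @Algebra.trdeg (Y.residueField (f.base (genericPoint X)))
      (X.residueField (genericPoint X)) _ _
        (f.residueFieldMap (genericPoint X)).hom.toAlgebra = (E : Cardinal.{u})) :
    ringKrullDim (X.presheaf.stalk x) + n = ringKrullDim (Y.presheaf.stalk (f.base x)) + E := by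
  obtain ⟨V, hV, hsV, -⟩ :=
    exists_isAffineOpen_mem_and_subset (X := Y) (x := f x) (U := ⊤) trivial
  obtain ⟨U, hU, hxU, e⟩ :=
    exists_isAffineOpen_mem_and_subset (X := X) (x := x) (U := f ⁻¹ᵁ V) hsV
  obtain ⟨q, rfl⟩ : ∃ q : Spec Γ(X, U), hU.fromSpec q = x :=
    ⟨hU.primeIdealOf ⟨x, hxU⟩, hU.fromSpec_primeIdealOf ⟨x, hxU⟩⟩
  letI := (f.appLE V U e).hom.toAlgebra
  haveI : Algebra.FiniteType Γ(Y, V) Γ(X, U) := f.finiteType_appLE hV hU e
  haveI : IsNoetherianRing Γ(Y, V) := IsLocallyNoetherian.component_noetherian ⟨V, hV⟩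
  haveI : IsNoetherianRing Γ(X, U) := Algebra.FiniteType.isNoetherianRing Γ(Y, V) Γ(X, U)
  -- the minimal prime below `q`
  obtain ⟨Q, hQmin, hQq, hht⟩ := Groth.Agent.S2141.exists_minimalPrime_height_le q.asIdeal
  haveI hQp : Q.IsPrime := hQmin.1.1
  obtain ⟨hg1, -⟩ := generic_of_minimalPrime hU q ⟨Q, hQp⟩ hQmin hQq
  have hξ : hU.fromSpec ⟨Q, hQp⟩ = genericPoint X := eq_genericPoint _ hg1
  -- the minimal prime below `p`
  obtain ⟨P, hPmin, hPp, hht'⟩ :=
    Groth.Agent.S2141.exists_minimalPrime_height_le (q.asIdeal.under Γ(Y, V))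
  haveI hPp' : P.IsPrime := hPmin.1.1
  obtain ⟨hg2, -⟩ := generic_of_minimalPrime hV (Spec.map (f.appLE V U e) q) ⟨P, hPp'⟩ hPmin hPp
  have hη : hV.fromSpec ⟨P, hPp'⟩ = genericPoint Y := eq_genericPoint _ hg2
  have hPQ : P = Q.under Γ(Y, V) := by
    have h1 : hV.fromSpec ⟨P, hPp'⟩ = hV.fromSpec (Spec.map (f.appLE V U e) ⟨Q, hQp⟩) := by
      rw [hη, ← map_fromSpec f hU hV e, hξ, map_genericPoint f]
    have h2 := hV.fromSpec.isOpenEmbedding.injective h1
    exact congrArg PrimeSpectrum.asIdeal h2
  subst hPQ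
  -- universally catenary localization
  have huc : CAlg.IsUniversallyCatenary (Localization.AtPrime (q.asIdeal.under Γ(Y, V))) := by
    rw [map_fromSpec f hU hV e q] at hcat
    have hy : hV.fromSpec (Spec.map (f.appLE V U e) q) ∈ V := by
      have : hV.fromSpec (Spec.map (f.appLE V U e) q) ∈ Set.range hV.fromSpec := ⟨_, rfl⟩
      rwa [hV.range_fromSpec] at this
    letI := TopCat.Presheaf.algebra_section_stalk Y.presheaf
      ⟨hV.fromSpec (Spec.map (f.appLE V U e) q), hy⟩
    haveI hloc : IsLocalization (q.asIdeal.under Γ(Y, V)).primeCompl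
        (Y.presheaf.stalk (hV.fromSpec (Spec.map (f.appLE V U e) q))) :=
      hV.isLocalization_stalk' (Spec.map (f.appLE V U e) q) hy
    exact isUniversallyCatenary_of_ringEquiv
      (IsLocalization.algEquiv (q.asIdeal.under Γ(Y, V)).primeCompl
        (Y.presheaf.stalk (hV.fromSpec (Spec.map (f.appLE V U e) q)))
        (Localization.AtPrime (q.asIdeal.under Γ(Y, V)))).toRingEquiv hcat
  have key := quot_eq_local (A := Γ(Y, V)) Q q.asIdeal hQq huc
  have h1 : (q.asIdeal.map (Ideal.Quotient.mk Q)).height = q.asIdeal.height :=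
    le_antisymm (height_map_mk_le Q q.asIdeal hQq) hht
  have h2 : ((q.asIdeal.under Γ(Y, V)).map (Ideal.Quotient.mk (Q.under Γ(Y, V)))).height =
      (q.asIdeal.under Γ(Y, V)).height :=
    le_antisymm (height_map_mk_le _ _ hPp) hht'
  have hn' : td Γ(Y, V) q.asIdeal = n := by
    have h3 := trdeg_residueFieldMap_eq_td f hU hV e q
    have h4 : (td Γ(Y, V) q.asIdeal : Cardinal.{u}) = (n : Cardinal.{u}) := h3.symm.trans hn
    exact_mod_cast h4
  have hE' : td Γ(Y, V) Q = E := by
    have h3 := trdeg_residueFieldMap_eq_td f hU hV e ⟨Q, hQp⟩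
    have h4 : (td Γ(Y, V) Q : Cardinal.{u}) = (E : Cardinal.{u}) :=
      h3.symm.trans ((trdeg_congr_point f hξ).trans hE)
    exact_mod_cast h4
  rw [h1, h2, hn', hE'] at key
  rw [ringKrullDim_stalk_fromSpec hU q, ringKrullDim_stalk_map_fromSpec f hU hV e q]
  exact_mod_cast key

/-- The generic point of an irreducible scheme is maximal in its fibre. -/
theorem coheight_asFiber_genericPoint {X Y : Scheme.{u}} [IrreducibleSpace X] (f : X ⟶ Y) :
    Order.coheight (f.asFiber (genericPoint X)) = 0 := by
  rw [Order.coheight_eq_zero]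
  intro z hz
  have h1 : z ⤳ f.asFiber (genericPoint X) := hz
  have h2 : (f.fiberι (f.base (genericPoint X))).base z ⤳ genericPoint X := by
    have := h1.map (f.fiberι (f.base (genericPoint X))).continuous
    rwa [f.fiberι_asFiber] at this
  have h3 : genericPoint X ⤳ (f.fiberι (f.base (genericPoint X))).base z :=
    (genericPoint_spec X).specializes (Set.mem_univ _)
  have h4 : (f.fiberι (f.base (genericPoint X))).base z = genericPoint X := (h2.antisymm h3).eq
  have h5 : z = f.asFiber (genericPoint X) := by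
    apply (f.fiberι (f.base (genericPoint X))).isEmbedding.injective
    rw [h4, f.fiberι_asFiber]
  rw [h5]

/-- The dimension of the generic fibre is the transcendence degree of the function field
extension. -/
theorem dim_generic_fiber_eq {X Y : Scheme.{u}} [IrreducibleSpace X] [IrreducibleSpace Y]
    (f : X ⟶ Y) [LocallyOfFiniteType f] [IsDominant f] (E : ℕ)
    (hE : @Algebra.trdeg (Y.residueField (f.base (genericPoint X)))
      (X.residueField (genericPoint X)) _ _
        (f.residueFieldMap (genericPoint X)).hom.toAlgebra = (E : Cardinal.{u})) :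
    topologicalKrullDim ↥(f.fiber (genericPoint Y)) = (E : WithBot ℕ∞) ∧
      FlatMor.fibreDimAt f (genericPoint X) = (E : WithBot ℕ∞) := by
  obtain ⟨E', b', hE', hb', hfd'⟩ := fibre_formula f (genericPoint X)
  have hEE : E' = E := by
    have : (E' : Cardinal.{u}) = (E : Cardinal.{u}) := hE'.symm.trans hE
    exact_mod_cast this
  subst hEE
  have hb0 : b' = 0 := by
    rw [ringKrullDim_stalk_eq_coheight, coheight_asFiber_genericPoint] at hb'
    have : ((0 : ℕ) : WithBot ℕ∞) = (b' : WithBot ℕ∞) := by exact_mod_cast hb'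
    exact_mod_cast this.symm
  subst hb0
  rw [add_zero] at hfd'
  refine ⟨le_antisymm ?_ ?_, hfd'⟩
  · rw [← hfd']
    exact dim_generic_fiber_le_fibreDimAt f (genericPoint X)
  · have h4 : FlatMor.fibreDimAt f (genericPoint X) ≤
        topologicalKrullDim (f.fiber (f.base (genericPoint X))) := localDim_le_dim _ _
    rwa [hfd', map_genericPoint f] at h4

/-- Cancellation of a natural number in `WithBot ℕ∞`. -/
theorem withBot_add_nat_cancel (d : WithBot ℕ∞) (k n : ℕ)
    (h : d + (n : WithBot ℕ∞) = ((k + n : ℕ) : WithBot ℕ∞)) : d = (k : WithBot ℕ∞) := by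
  induction d using WithBot.recBotCoe with
  | bot =>
    exfalso
    rw [WithBot.bot_add] at h
    have : (⊥ : WithBot ℕ∞) ≠ ((k + n : ℕ) : WithBot ℕ∞) := by
      rw [show ((k + n : ℕ) : WithBot ℕ∞) = (((k + n : ℕ) : ℕ∞) : WithBot ℕ∞) from rfl]
      exact WithBot.bot_ne_coe
    exact this h
  | coe d =>
    induction d using ENat.recTopCoe with
    | top =>
      exfalso
      have h' : ((⊤ : ℕ∞) : WithBot ℕ∞) + (n : WithBot ℕ∞) = ((⊤ : ℕ∞) : WithBot ℕ∞) := by
        rw [show ((n : ℕ) : WithBot ℕ∞) = (((n : ℕ) : ℕ∞) : WithBot ℕ∞) from rfl, ← WithBot.coe_add,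
          top_add]
      rw [h'] at h
      have : (⊤ : ℕ∞) = ((k + n : ℕ) : ℕ∞) := by exact_mod_cast h
      exact ENat.top_ne_natCast _ this
    | coe m =>
      have : m + n = k + n := by exact_mod_cast h
      have : m = k := by omega
      rw [this]
      rfl

end Groth.Agent.H9.DimFormulaEq
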