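import Mathlib
import Groth.Agent.H9.DimFormulaEq
import Groth.Agent.H71.DimFun2

set_option autoImplicit false
set_option linter.style.haveILetI false
universe u

open AlgebraicGeometry CategoryTheory

namespace Groth.Agent.H9.DimFormulaGen

open Groth.Agent.H9.DimFormulaRing Groth.Agent.H9.DimFormulaScheme Groth.Agent.H9.DimFormulaLoc
  Groth.Agent.H9.DimFormulaEq Groth.Agent.H71.DimFun

/-- In a local ring, the height of the image of the maximal ideal in a quotient is the dimension
of the quotient. -/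
theorem height_map_mk_maximalIdeal {R : Type*} [CommRing R] [IsLocalRing R] (I : Ideal R)
    (hI : I ≠ ⊤) :
    (((IsLocalRing.maximalIdeal R).map (Ideal.Quotient.mk I)).height : WithBot ℕ∞) =
      ringKrullDim (R ⧸ I) := by
  haveI : Nontrivial (R ⧸ I) := Ideal.Quotient.nontrivial_iff.mpr hI
  haveI : IsLocalRing (R ⧸ I) :=
    IsLocalRing.of_surjective' (Ideal.Quotient.mk I) Ideal.Quotient.mk_surjective
  haveI := IsLocalHom.of_surjective (Ideal.Quotient.mk I) Ideal.Quotient.mk_surjective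
  have h : (IsLocalRing.maximalIdeal R).map (Ideal.Quotient.mk I) =
      IsLocalRing.maximalIdeal (R ⧸ I) := by
    ext x
    obtain ⟨x, rfl⟩ := Ideal.Quotient.mk_surjective x
    simp [sup_eq_left.mpr (IsLocalRing.le_maximalIdeal hI)]
  rw [h, IsLocalRing.maximalIdeal_height_eq_ringKrullDim]

set_option backward.isDefEq.respectTransparency.types false in
/-- Relative heights in an affine chart computed in the local ring of the scheme. -/
theorem height_map_mk_eq_coheight {Y : Scheme.{u}} {V : Y.Opens} (hV : IsAffineOpen V)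
    (p' P' : Spec Γ(Y, V)) (hle : P'.asIdeal ≤ p'.asIdeal) (y : Y) (hy : y = hV.fromSpec p')
    (w : PrimeSpectrum (Y.presheaf.stalk y)) (hw : Y.fromSpecStalk y w = hV.fromSpec P') :
    ((p'.asIdeal.map (Ideal.Quotient.mk P'.asIdeal)).height : WithBot ℕ∞) =
      ((Order.coheight w : ℕ∞) : WithBot ℕ∞) := by
  subst hy
  have hyV : hV.fromSpec p' ∈ V := by
    have : hV.fromSpec p' ∈ Set.range hV.fromSpec := ⟨_, rfl⟩
    rwa [hV.range_fromSpec] at this
  letI := TopCat.Presheaf.algebra_section_stalk Y.presheaf ⟨hV.fromSpec p', hyV⟩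
  haveI hloc : IsLocalization.AtPrime (Y.presheaf.stalk (hV.fromSpec p')) p'.asIdeal :=
    hV.isLocalization_stalk' p' hyV
  have hcomap : w.asIdeal.comap (algebraMap Γ(Y, V) (Y.presheaf.stalk (hV.fromSpec p'))) =
      P'.asIdeal := by
    rw [← hV.fromSpecStalk_eq_fromSpecStalk hyV, IsAffineOpen.fromSpecStalk,
      Scheme.Hom.comp_apply] at hw
    have h2 := hV.fromSpec.isOpenEmbedding.injective hw
    exact congrArg PrimeSpectrum.asIdeal h2
  have hmap : P'.asIdeal.map (algebraMap Γ(Y, V) (Y.presheaf.stalk (hV.fromSpec p'))) =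
      w.asIdeal := by
    rw [← hcomap]
    exact IsLocalization.map_under p'.asIdeal.primeCompl _ w.asIdeal
  have hmax : p'.asIdeal.map (algebraMap Γ(Y, V) (Y.presheaf.stalk (hV.fromSpec p'))) =
      IsLocalRing.maximalIdeal (Y.presheaf.stalk (hV.fromSpec p')) :=
    IsLocalization.AtPrime.map_eq_maximalIdeal p'.asIdeal _
  have hd : Disjoint ((p'.asIdeal.primeCompl : Submonoid Γ(Y, V)) : Set Γ(Y, V))
      (p'.asIdeal : Set Γ(Y, V)) := by
    rw [Set.disjoint_left]
    intro a ha ha'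
    exact ha ha'
  have key := height_map_mk_localization (C' := Y.presheaf.stalk (hV.fromSpec p'))
    p'.asIdeal.primeCompl P'.asIdeal p'.asIdeal hle hd
  rw [← key]
  rw [hmap, hmax]
  rw [height_map_mk_maximalIdeal _ w.2.ne_top, coheight_eq_ringKrullDim_quotient]

set_option backward.isDefEq.respectTransparency.types false in
/-- **General dimension formula.** `X` irreducible, `Y` locally Noetherian, `f` locally of finite
type (not necessarily dominant), `O_{Y,f x}` universally catenary, `w` the prime of the local ring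
at `f x` corresponding to the image of the generic point:
`dim O_{X,x} + trdeg κ(x)/κ(f x) = dim O_{Y,f x}/w + trdeg κ(ξ)/κ(f ξ)`. -/
theorem stalk_add_trdeg_eq_coheight {X Y : Scheme.{u}} [IrreducibleSpace X]
    [IsLocallyNoetherian Y] (f : X ⟶ Y) [LocallyOfFiniteType f] (x : X)
    (hcat : CAlg.IsUniversallyCatenary (Y.presheaf.stalk (f.base x))) (n E : ℕ)
    (hn : @Algebra.trdeg (Y.residueField (f.base x)) (X.residueField x) _ _
        (f.residueFieldMap x).hom.toAlgebra = (n : Cardinal.{u}))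
    (hE : @Algebra.trdeg (Y.residueField (f.base (genericPoint X)))
      (X.residueField (genericPoint X)) _ _
        (f.residueFieldMap (genericPoint X)).hom.toAlgebra = (E : Cardinal.{u}))
    (w : PrimeSpectrum (Y.presheaf.stalk (f.base x)))
    (hw : Y.fromSpecStalk (f.base x) w = f.base (genericPoint X)) :
    ringKrullDim (X.presheaf.stalk x) + n = ((Order.coheight w : ℕ∞) : WithBot ℕ∞) + E := by
  obtain ⟨V, hV, hsV, -⟩ :=
    exists_isAffineOpen_mem_and_subset (X := Y) (x := f x) (U := ⊤) trivial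
  obtain ⟨U, hU, hxU, e⟩ :=
    exists_isAffineOpen_mem_and_subset (X := X) (x := x) (U := f ⁻¹ᵁ V) hsV
  obtain ⟨q, rfl⟩ : ∃ q : Spec Γ(X, U), hU.fromSpec q = x :=
    ⟨hU.primeIdealOf ⟨x, hxU⟩, hU.fromSpec_primeIdealOf ⟨x, hxU⟩⟩
  letI := (f.appLE V U e).hom.toAlgebra
  haveI : Algebra.FiniteType Γ(Y, V) Γ(X, U) := f.finiteType_appLE hV hU e
  haveI : IsNoetherianRing Γ(Y, V) := IsLocallyNoetherian.component_noetherian ⟨V, hV⟩
  haveI : IsNoetherianRing Γ(X, U) := Algebra.FiniteType.isNoetherianRing Γ(Y, V) Γ(X, U)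
  -- the minimal prime below `q`
  obtain ⟨Q, hQmin, hQq, hht⟩ := Groth.Agent.S2141.exists_minimalPrime_height_le q.asIdeal
  haveI hQp : Q.IsPrime := hQmin.1.1
  obtain ⟨hg1, -⟩ := generic_of_minimalPrime hU q ⟨Q, hQp⟩ hQmin hQq
  have hξ : hU.fromSpec ⟨Q, hQp⟩ = genericPoint X := eq_genericPoint _ hg1
  -- universally catenary localization
  have huc : CAlg.IsUniversallyCatenary (Localization.AtPrime (q.asIdeal.under Γ(Y, V))) := by
    rw [map_fromSpec f hU hV e q] at hcat
    have hy : hV.fromSpec (Spec.map (f.appLE V U e) q) ∈ V := by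
      have : hV.fromSpec (Spec.map (f.appLE V U e) q) ∈ Set.range hV.fromSpec := ⟨_, rfl⟩
      rwa [hV.range_fromSpec] at this
    letI := TopCat.Presheaf.algebra_section_stalk Y.presheaf
      ⟨hV.fromSpec (Spec.map (f.appLE V U e) q), hy⟩
    haveI hloc : IsLocalization (q.asIdeal.under Γ(Y, V)).primeCompl
        (Y.presheaf.stalk (hV.fromSpec (Spec.map (f.appLE V U e) q))) :=
      hV.isLocalization_stalk' (Spec.map (f.appLE V U e) q) hy
    exact isUniversallyCatenary_of_ringEquiv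
      (IsLocalization.algEquiv (q.asIdeal.under Γ(Y, V)).primeCompl
        (Y.presheaf.stalk (hV.fromSpec (Spec.map (f.appLE V U e) q)))
        (Localization.AtPrime (q.asIdeal.under Γ(Y, V)))).toRingEquiv hcat
  have key := quot_eq_local (A := Γ(Y, V)) Q q.asIdeal hQq huc
  have h1 : (q.asIdeal.map (Ideal.Quotient.mk Q)).height = q.asIdeal.height :=
    le_antisymm (height_map_mk_le Q q.asIdeal hQq) hht
  have h2 : (((q.asIdeal.under Γ(Y, V)).map (Ideal.Quotient.mk (Q.under Γ(Y, V)))).height :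
      WithBot ℕ∞) = ((Order.coheight w : ℕ∞) : WithBot ℕ∞) := by
    refine height_map_mk_eq_coheight hV (Spec.map (f.appLE V U e) q)
      (Spec.map (f.appLE V U e) ⟨Q, hQp⟩) (Ideal.comap_mono hQq) _ (map_fromSpec f hU hV e q) w ?_
    rw [hw, ← hξ, map_fromSpec f hU hV e]
  have hn' : td Γ(Y, V) q.asIdeal = n := by
    have h3 := trdeg_residueFieldMap_eq_td f hU hV e q
    have h4 : (td Γ(Y, V) q.asIdeal : Cardinal.{u}) = (n : Cardinal.{u}) := h3.symm.trans hn
    exact_mod_cast h4
  have hE' : td Γ(Y, V) Q = E := by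
    have h3 := trdeg_residueFieldMap_eq_td f hU hV e ⟨Q, hQp⟩
    have h4 : (td Γ(Y, V) Q : Cardinal.{u}) = (E : Cardinal.{u}) :=
      h3.symm.trans ((trdeg_congr_point f hξ).trans hE)
    exact_mod_cast h4
  rw [h1, hn', hE'] at key
  rw [ringKrullDim_stalk_fromSpec hU q, ← h2]
  exact_mod_cast key

set_option backward.isDefEq.respectTransparency.types false in
/-- Chart-level form of the general local dimension formula. -/
theorem coheight_add_trdeg_aux {X Y : Scheme.{u}} [IsLocallyNoetherian Y] (f : X ⟶ Y)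
    [LocallyOfFiniteType f] (x ξ : X) (hξ : ξ ⤳ x) (n E : ℕ)
    (hn : @Algebra.trdeg (Y.residueField (f.base x)) (X.residueField x) _ _
        (f.residueFieldMap x).hom.toAlgebra = (n : Cardinal.{u}))
    (hE : @Algebra.trdeg (Y.residueField (f.base ξ)) (X.residueField ξ) _ _
        (f.residueFieldMap ξ).hom.toAlgebra = (E : Cardinal.{u}))
    (v : PrimeSpectrum (X.presheaf.stalk x)) (hv : X.fromSpecStalk x v = ξ)
    (w : PrimeSpectrum (Y.presheaf.stalk (f.base x)))
    (hw : Y.fromSpecStalk (f.base x) w = f.base ξ) :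
    ((Order.coheight v : ℕ∞) : WithBot ℕ∞) + n ≤ ((Order.coheight w : ℕ∞) : WithBot ℕ∞) + E ∧
    (CAlg.IsUniversallyCatenary (Y.presheaf.stalk (f.base x)) →
      ((Order.coheight v : ℕ∞) : WithBot ℕ∞) + n = ((Order.coheight w : ℕ∞) : WithBot ℕ∞) + E) := by
  obtain ⟨V, hV, hsV, -⟩ :=
    exists_isAffineOpen_mem_and_subset (X := Y) (x := f x) (U := ⊤) trivial
  obtain ⟨U, hU, hxU, e⟩ :=
    exists_isAffineOpen_mem_and_subset (X := X) (x := x) (U := f ⁻¹ᵁ V) hsV
  have hξU : ξ ∈ U := hξ.mem_open U.2 hxU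
  obtain ⟨q, rfl⟩ : ∃ q : Spec Γ(X, U), hU.fromSpec q = x :=
    ⟨hU.primeIdealOf ⟨x, hxU⟩, hU.fromSpec_primeIdealOf ⟨x, hxU⟩⟩
  obtain ⟨Q, rfl⟩ : ∃ Q : Spec Γ(X, U), hU.fromSpec Q = ξ :=
    ⟨hU.primeIdealOf ⟨ξ, hξU⟩, hU.fromSpec_primeIdealOf ⟨ξ, hξU⟩⟩
  have hQq : Q.asIdeal ≤ q.asIdeal := by
    have h1 : Q ⤳ q := hU.fromSpec.isOpenEmbedding.isInducing.specializes_iff.mp hξ
    exact (PrimeSpectrum.le_iff_specializes Q q).mpr h1
  letI := (f.appLE V U e).hom.toAlgebra
  haveI : Algebra.FiniteType Γ(Y, V) Γ(X, U) := f.finiteType_appLE hV hU e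
  haveI : IsNoetherianRing Γ(Y, V) := IsLocallyNoetherian.component_noetherian ⟨V, hV⟩
  haveI : IsNoetherianRing Γ(X, U) := Algebra.FiniteType.isNoetherianRing Γ(Y, V) Γ(X, U)
  have h1 : (((q.asIdeal).map (Ideal.Quotient.mk Q.asIdeal)).height : WithBot ℕ∞) =
      ((Order.coheight v : ℕ∞) : WithBot ℕ∞) :=
    height_map_mk_eq_coheight hU q Q hQq _ rfl v hv
  have h2 : (((q.asIdeal.under Γ(Y, V)).map (Ideal.Quotient.mk (Q.asIdeal.under Γ(Y, V)))).height :
      WithBot ℕ∞) = ((Order.coheight w : ℕ∞) : WithBot ℕ∞) := by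
    refine height_map_mk_eq_coheight hV (Spec.map (f.appLE V U e) q)
      (Spec.map (f.appLE V U e) Q) (Ideal.comap_mono hQq) _ (map_fromSpec f hU hV e q) w ?_
    rw [hw, map_fromSpec f hU hV e]
  have hn' : td Γ(Y, V) q.asIdeal = n := by
    have h3 := trdeg_residueFieldMap_eq_td f hU hV e q
    have h4 : (td Γ(Y, V) q.asIdeal : Cardinal.{u}) = (n : Cardinal.{u}) := h3.symm.trans hn
    exact_mod_cast h4
  have hE' : td Γ(Y, V) Q.asIdeal = E := by
    have h3 := trdeg_residueFieldMap_eq_td f hU hV e Q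
    have h4 : (td Γ(Y, V) Q.asIdeal : Cardinal.{u}) = (E : Cardinal.{u}) := h3.symm.trans hE
    exact_mod_cast h4
  have hy : hV.fromSpec (Spec.map (f.appLE V U e) q) ∈ V := by
    have : hV.fromSpec (Spec.map (f.appLE V U e) q) ∈ Set.range hV.fromSpec := ⟨_, rfl⟩
    rwa [hV.range_fromSpec] at this
  letI := TopCat.Presheaf.algebra_section_stalk Y.presheaf
    ⟨hV.fromSpec (Spec.map (f.appLE V U e) q), hy⟩
  haveI hloc : IsLocalization (q.asIdeal.under Γ(Y, V)).primeCompl
      (Y.presheaf.stalk (hV.fromSpec (Spec.map (f.appLE V U e) q))) :=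
    hV.isLocalization_stalk' (Spec.map (f.appLE V U e) q) hy
  constructor
  · haveI : IsNoetherianRing (Localization.AtPrime (q.asIdeal.under Γ(Y, V))) :=
      IsLocalization.isNoetherianRing (q.asIdeal.under Γ(Y, V)).primeCompl _ inferInstance
    have key := quot_le_local (A := Γ(Y, V)) Q.asIdeal q.asIdeal hQq
    rw [hn', hE'] at key
    rw [← h1, ← h2]
    exact_mod_cast key
  · intro hcat
    have huc : CAlg.IsUniversallyCatenary (Localization.AtPrime (q.asIdeal.under Γ(Y, V))) := by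
      rw [map_fromSpec f hU hV e q] at hcat
      exact isUniversallyCatenary_of_ringEquiv
        (IsLocalization.algEquiv (q.asIdeal.under Γ(Y, V)).primeCompl
          (Y.presheaf.stalk (hV.fromSpec (Spec.map (f.appLE V U e) q)))
          (Localization.AtPrime (q.asIdeal.under Γ(Y, V)))).toRingEquiv hcat
    have key := quot_eq_local (A := Γ(Y, V)) Q.asIdeal q.asIdeal hQq huc
    rw [hn', hE'] at key
    rw [← h1, ← h2]
    exact_mod_cast key

end Groth.Agent.H9.DimFormulaGen
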