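import Mathlib
import Groth.Agent.H9.FibreFormula
import Groth.Agent.H9.DimFormulaScheme

/-!
# Fibre dimension at maximal points, and points of the fibre computing the local dimension
-/

set_option autoImplicit false
set_option linter.style.haveILetI false
universe u

open AlgebraicGeometry CategoryTheory

namespace Groth.Agent.H9.FibreGeneric

open Groth.Agent.H54 Groth.Agent.H9.FibreFormula Groth.Agent.H9.DimFormulaScheme

/-- In a scheme locally of finite type over a field, the local dimension at `z` is bounded by the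
transcendence degree of some generization of `z`. -/
theorem exists_specializes_localDim_le {k : Type u} [Field k] {F : Scheme.{u}}
    (s : F ⟶ Spec (CommRingCat.of k)) [LocallyOfFiniteType s] (z : F) :
    ∃ ζ : F, ζ ⤳ z ∧ FlatMor.localDim F z ≤ ((tdeg s ζ : ℕ) : WithBot ℕ∞) := by
  obtain ⟨b, hb⟩ := ENat.ne_top_iff_exists.mp (coheight_ne_top s z)
  obtain ⟨p, hp1, hp2⟩ := Order.exists_series_of_le_coheight z (n := b) (by rw [← hb])
  have h1 := LTSeries.head_add_length_le_nat (p.map (tdeg s) (tdeg_strictMono s))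
  rw [LTSeries.last_map, LTSeries.head_map] at h1
  have h2 : (p.map (tdeg s) (tdeg_strictMono s)).length = p.length := rfl
  have hsp : p.last ⤳ z := by
    have h : p.head ≤ p.last := LTSeries.head_le_last p
    rw [hp1] at h
    exact h
  refine ⟨p.last, hsp, ?_⟩
  rw [localDim_eq s z b hb.symm]
  have h4 : tdeg s z + b ≤ tdeg s p.last := by
    rw [hp1, h2, hp2] at h1
    exact h1
  exact_mod_cast h4

/-- A point of `X` without proper generizations is maximal in its fibre. -/
theorem coheight_asFiber_of_forall {X Y : Scheme.{u}} (f : X ⟶ Y) (ξ : X)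
    (hmax : ∀ x' : X, x' ⤳ ξ → x' = ξ) : Order.coheight (f.asFiber ξ) = 0 := by
  rw [Order.coheight_eq_zero]
  intro z hz
  have h1 : z ⤳ f.asFiber ξ := hz
  have h2 : (f.fiberι (f.base ξ)).base z ⤳ ξ := by
    have := h1.map (f.fiberι (f.base ξ)).continuous
    rwa [f.fiberι_asFiber] at this
  have h4 : (f.fiberι (f.base ξ)).base z = ξ := hmax _ h2
  have h5 : z = f.asFiber ξ := by
    apply (f.fiberι (f.base ξ)).isEmbedding.injective
    rw [h4, f.fiberι_asFiber]
  rw [h5]

/-- At a point without proper generizations, the local fibre dimension is the transcendence degree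
of the residue field extension. -/
theorem fibreDimAt_eq_trdeg_of_forall {X Y : Scheme.{u}} (f : X ⟶ Y) [LocallyOfFiniteType f]
    (ξ : X) (hmax : ∀ x' : X, x' ⤳ ξ → x' = ξ) (E : ℕ)
    (hE : @Algebra.trdeg (Y.residueField (f.base ξ)) (X.residueField ξ) _ _
        (f.residueFieldMap ξ).hom.toAlgebra = (E : Cardinal.{u})) :
    FlatMor.fibreDimAt f ξ = (E : WithBot ℕ∞) := by
  obtain ⟨E', b', hE', hb', hfd'⟩ := fibre_formula f ξ
  have hEE : E' = E := by
    have : (E' : Cardinal.{u}) = (E : Cardinal.{u}) := hE'.symm.trans hE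
    exact_mod_cast this
  subst hEE
  have hb0 : b' = 0 := by
    rw [ringKrullDim_stalk_eq_coheight, coheight_asFiber_of_forall f ξ hmax] at hb'
    have : ((0 : ℕ) : WithBot ℕ∞) = (b' : WithBot ℕ∞) := by exact_mod_cast hb'
    exact_mod_cast this.symm
  subst hb0
  rw [hfd', add_zero]

/-- A point of the fibre through `x` which generizes `x` and whose residue field computes (bounds)
the local fibre dimension at `x`. -/
theorem exists_fibre_generization {X Y : Scheme.{u}} (f : X ⟶ Y) [LocallyOfFiniteType f] (x : X) :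
    ∃ (ζ : X) (n : ℕ), ζ ⤳ x ∧ f.base ζ = f.base x ∧
      @Algebra.trdeg (Y.residueField (f.base ζ)) (X.residueField ζ) _ _
        (f.residueFieldMap ζ).hom.toAlgebra = (n : Cardinal.{u}) ∧
      FlatMor.fibreDimAt f x ≤ (n : WithBot ℕ∞) := by
  obtain ⟨ζ', hζz, hle⟩ := exists_specializes_localDim_le (fiberQ f (f.base x)) (f.asFiber x)
  refine ⟨(f.fiberι (f.base x)).base ζ', tdeg (fiberQ f (f.base x)) ζ', ?_,
    fiberι_mem f (f.base x) ζ', trdeg_fiber_eq f (f.base x) ζ', hle⟩
  have := hζz.map (f.fiberι (f.base x)).continuous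
  rwa [f.fiberι_asFiber] at this

end Groth.Agent.H9.FibreGeneric
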