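import Mathlib
import Groth.Agent.H9.DimFormulaLoc
import Groth.Agent.H9.DimFormulaScheme
import Groth.Agent.H9.FibreFormula

/-!
# The relative dimension inequality at a pair of points `ξ ⤳ ζ`, over a Noetherian local ring
-/

set_option autoImplicit false
set_option linter.style.haveILetI false
universe u

open AlgebraicGeometry CategoryTheory

namespace Groth.Agent.H9.DimFormulaRel

open Groth.Agent.H9.DimFormulaRing Groth.Agent.H9.DimFormulaScheme Groth.Agent.H9.DimFormulaLoc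
  Groth.Agent.H9.FibreFormula

/-- In a quotient domain, a strictly larger prime has positive height. -/
theorem one_le_height_map_mk {C : Type*} [CommRing C] (Q q : Ideal C) [Q.IsPrime] [q.IsPrime]
    (hQq : Q ≤ q) (hne : Q ≠ q) : 1 ≤ (q.map (Ideal.Quotient.mk Q)).height := by
  haveI := map_mk_isPrime Q q hQq
  rw [Order.one_le_iff_ne_zero, Ne, Ideal.height_eq_zero_iff_eq_bot]
  intro h
  apply hne
  apply le_antisymm hQq
  have h2 := comap_map_mk Q q hQq
  rw [h, ← RingHom.ker_eq_comap_bot, Ideal.mk_ker] at h2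
  exact h2.ge

set_option backward.isDefEq.respectTransparency.types false in
/-- **Relative dimension inequality.** For `ξ ⤳ ζ` in `X` and `f : X ⟶ Y` locally of finite type
with `O_{Y,f ζ}` Noetherian: `trdeg κ(ζ)/κ(f ζ) + ε ≤ dim O_{Y,f ζ} + trdeg κ(ξ)/κ(f ξ)`, where
`ε = 1` if `ξ ≠ ζ` and `0` otherwise. -/
theorem rel_ineq {X Y : Scheme.{u}} (f : X ⟶ Y) [LocallyOfFiniteType f] (ζ ξ : X) (hsp : ξ ⤳ ζ)
    [hN : IsNoetherianRing (Y.presheaf.stalk (f.base ζ))] (n E : ℕ)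
    (hn : @Algebra.trdeg (Y.residueField (f.base ζ)) (X.residueField ζ) _ _
        (f.residueFieldMap ζ).hom.toAlgebra = (n : Cardinal.{u}))
    (hE : @Algebra.trdeg (Y.residueField (f.base ξ)) (X.residueField ξ) _ _
        (f.residueFieldMap ξ).hom.toAlgebra = (E : Cardinal.{u})) :
    (n : WithBot ℕ∞) ≤ ringKrullDim (Y.presheaf.stalk (f.base ζ)) + E ∧
      (ξ ≠ ζ → (n : WithBot ℕ∞) + 1 ≤ ringKrullDim (Y.presheaf.stalk (f.base ζ)) + E) ∧
      (f.base ξ = f.base ζ → n ≤ E) := by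
  obtain ⟨V, hV, hsV, -⟩ :=
    exists_isAffineOpen_mem_and_subset (X := Y) (x := f ζ) (U := ⊤) trivial
  obtain ⟨U, hU, hxU, e⟩ :=
    exists_isAffineOpen_mem_and_subset (X := X) (x := ζ) (U := f ⁻¹ᵁ V) hsV
  have hξU : ξ ∈ U := hsp.mem_open U.2 hxU
  obtain ⟨q, rfl⟩ : ∃ q : Spec Γ(X, U), hU.fromSpec q = ζ :=
    ⟨hU.primeIdealOf ⟨ζ, hxU⟩, hU.fromSpec_primeIdealOf ⟨ζ, hxU⟩⟩
  obtain ⟨Q, rfl⟩ : ∃ Q : Spec Γ(X, U), hU.fromSpec Q = ξ :=
    ⟨hU.primeIdealOf ⟨ξ, hξU⟩, hU.fromSpec_primeIdealOf ⟨ξ, hξU⟩⟩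
  letI := (f.appLE V U e).hom.toAlgebra
  haveI : Algebra.FiniteType Γ(Y, V) Γ(X, U) := f.finiteType_appLE hV hU e
  have hQq : Q.asIdeal ≤ q.asIdeal := by
    have h1 : Q ⤳ q := hU.fromSpec.isOpenEmbedding.isInducing.specializes_iff.mp hsp
    exact (PrimeSpectrum.le_iff_specializes Q q).mpr h1
  -- Noetherian localization
  haveI hN' : IsNoetherianRing (Localization.AtPrime (q.asIdeal.under Γ(Y, V))) := by
    have hN2 := hN
    rw [map_fromSpec f hU hV e q] at hN2
    have hy : hV.fromSpec (Spec.map (f.appLE V U e) q) ∈ V := by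
      have : hV.fromSpec (Spec.map (f.appLE V U e) q) ∈ Set.range hV.fromSpec := ⟨_, rfl⟩
      rwa [hV.range_fromSpec] at this
    letI := TopCat.Presheaf.algebra_section_stalk Y.presheaf
      ⟨hV.fromSpec (Spec.map (f.appLE V U e) q), hy⟩
    haveI hloc : IsLocalization (q.asIdeal.under Γ(Y, V)).primeCompl
        (Y.presheaf.stalk (hV.fromSpec (Spec.map (f.appLE V U e) q))) :=
      hV.isLocalization_stalk' (Spec.map (f.appLE V U e) q) hy
    exact isNoetherianRing_of_ringEquiv _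
      (IsLocalization.algEquiv (q.asIdeal.under Γ(Y, V)).primeCompl
        (Y.presheaf.stalk (hV.fromSpec (Spec.map (f.appLE V U e) q)))
        (Localization.AtPrime (q.asIdeal.under Γ(Y, V)))).toRingEquiv
  have key := quot_le_local (A := Γ(Y, V)) Q.asIdeal q.asIdeal hQq
  have h2 := height_map_mk_le (Q.asIdeal.under Γ(Y, V)) (q.asIdeal.under Γ(Y, V))
    (Ideal.comap_mono hQq)
  have hn' : td Γ(Y, V) q.asIdeal = n := by
    have h3 := trdeg_residueFieldMap_eq_td f hU hV e q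
    have h4 : (td Γ(Y, V) q.asIdeal : Cardinal.{u}) = (n : Cardinal.{u}) := h3.symm.trans hn
    exact_mod_cast h4
  have hE' : td Γ(Y, V) Q.asIdeal = E := by
    have h3 := trdeg_residueFieldMap_eq_td f hU hV e Q
    have h4 : (td Γ(Y, V) Q.asIdeal : Cardinal.{u}) = (E : Cardinal.{u}) := h3.symm.trans hE
    exact_mod_cast h4
  rw [hn', hE'] at key
  rw [ringKrullDim_stalk_map_fromSpec f hU hV e q]
  refine ⟨?_, ?_, ?_⟩
  · have h5 : (n : ℕ∞) ≤ (q.asIdeal.under Γ(Y, V)).height + (E : ℕ∞) :=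
      calc (n : ℕ∞) ≤ (q.asIdeal.map (Ideal.Quotient.mk Q.asIdeal)).height + (n : ℕ∞) :=
            le_add_self
        _ ≤ _ := key
        _ ≤ _ := by gcongr
    exact_mod_cast h5
  · intro hne
    have hQne : Q.asIdeal ≠ q.asIdeal := by
      intro h
      apply hne
      congr 1
      exact PrimeSpectrum.ext h
    have h1 := one_le_height_map_mk Q.asIdeal q.asIdeal hQq hQne
    have h5 : (n : ℕ∞) + 1 ≤ (q.asIdeal.under Γ(Y, V)).height + (E : ℕ∞) :=
      calc (n : ℕ∞) + 1 = 1 + (n : ℕ∞) := add_comm _ _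
        _ ≤ (q.asIdeal.map (Ideal.Quotient.mk Q.asIdeal)).height + (n : ℕ∞) := by gcongr
        _ ≤ _ := key
        _ ≤ _ := by gcongr
    exact_mod_cast h5
  · intro hfe
    have hPp : Q.asIdeal.under Γ(Y, V) = q.asIdeal.under Γ(Y, V) := by
      rw [map_fromSpec f hU hV e Q, map_fromSpec f hU hV e q] at hfe
      have h6 := hV.fromSpec.isOpenEmbedding.injective hfe
      exact congrArg PrimeSpectrum.asIdeal h6
    have h7 : ((q.asIdeal.under Γ(Y, V)).map
        (Ideal.Quotient.mk (Q.asIdeal.under Γ(Y, V)))).height = 0 := by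
      have h8 : (q.asIdeal.under Γ(Y, V)).map (Ideal.Quotient.mk (Q.asIdeal.under Γ(Y, V))) = ⊥ := by
        rw [← hPp, Ideal.map_quotient_self]
      rw [h8]
      exact Ideal.height_bot
    rw [h7, zero_add] at key
    have h5 : (n : ℕ∞) ≤ (E : ℕ∞) := le_trans le_add_self key
    exact_mod_cast h5

end Groth.Agent.H9.DimFormulaRel
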