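import Groth.Agent.H9.FibDimTarget
import Groth.Agent.S3447

/-!
# Dimension of a scheme via local rings

* `topologicalKrullDim_eq_iSup_stalk`: `dim Z = sup_z dim O_{Z,z}`.
* `ringKrullDim_stalk_le`.
* `topologicalKrullDim_le_add` (= S4691): `dim X ≤ dim Y + n` if all fibres have dimension `≤ n`.
-/

set_option autoImplicit false
set_option linter.style.haveILetI false
universe u

open TopologicalSpace Topology AlgebraicGeometry CategoryTheory

namespace Groth.Agent.H9.FibDim

/-- the dimension of a scheme is the supremum of the dimensions of its local rings. -/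
theorem topologicalKrullDim_eq_iSup_stalk (Z : Scheme.{u}) :
    topologicalKrullDim Z = ⨆ z : Z, ringKrullDim (Z.presheaf.stalk z) := by
  unfold topologicalKrullDim
  rw [Order.krullDim_eq_of_orderIso (irreducibleSetEquivPoints (α := Z)),
    Order.krullDim_eq_iSup_coheight]
  exact iSup_congr fun z => (ringKrullDim_stalk_eq_coheight z).symm

theorem ringKrullDim_stalk_le (Z : Scheme.{u}) (z : Z) :
    ringKrullDim (Z.presheaf.stalk z) ≤ topologicalKrullDim Z := by
  rw [topologicalKrullDim_eq_iSup_stalk]
  exact le_iSup (fun z : Z => ringKrullDim (Z.presheaf.stalk z)) z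

/-- S4691 -/
theorem topologicalKrullDim_le_add {X Y : Scheme.{u}} (f : X ⟶ Y) [IsLocallyNoetherian Y]
    [LocallyOfFiniteType f] (n : ℕ) (h : ∀ y : Y, topologicalKrullDim (f.fiber y) ≤ n) :
    topologicalKrullDim X ≤ topologicalKrullDim Y + n := by
  rw [topologicalKrullDim_eq_iSup_stalk X]
  apply iSup_le
  intro x
  have h1 := Groth.Agent.S3447.main f (f.base x) (f.asFiber x)
  rw [f.fiberι_asFiber x] at h1
  refine h1.trans ?_
  gcongr
  · exact ringKrullDim_stalk_le Y _
  · exact (ringKrullDim_stalk_le _ _).trans (h _)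

end Groth.Agent.H9.FibDim
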