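import Mathlib
import Groth.Agent.H9.DimFormulaGen
import Groth.Agent.H9.FibreGeneric
import Groth.Agent.S4702

set_option autoImplicit false
set_option linter.style.haveILetI false
universe u

open AlgebraicGeometry CategoryTheory

namespace Groth.Agent.H9.DimFormulaApp

open Groth.Agent.H54 Groth.Agent.H9.FibreFormula Groth.Agent.H9.FibreGeneric
  Groth.Agent.H9.DimFormulaEq Groth.Agent.H71.DimFun

/-- The dimension of the part of the closure of a maximal point `ξ'` of `X` lying in the fibre
through `ξ'` is the transcendence degree of `κ(ξ')` over `κ(f ξ')`. -/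
theorem dim_closure_inter_fibre {X Y : Scheme.{u}} (f : X ⟶ Y) [LocallyOfFiniteType f] (ξ' : X)
    (hmax : ∀ t : X, t ⤳ ξ' → t = ξ') (E : ℕ)
    (hE : @Algebra.trdeg (Y.residueField (f.base ξ')) (X.residueField ξ') _ _
        (f.residueFieldMap ξ').hom.toAlgebra = (E : Cardinal.{u})) :
    topologicalKrullDim ↥(closure ({ξ'} : Set X) ∩ f.base ⁻¹' {f.base ξ'}) = (E : WithBot ℕ∞) := by
  have hmaxF : ∀ a : f.fiber (f.base ξ'), a ⤳ f.asFiber ξ' → a = f.asFiber ξ' := by
    intro a ha
    have h0 := coheight_asFiber_of_forall f ξ' hmax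
    rw [Order.coheight_eq_zero] at h0
    have h1 : f.asFiber ξ' ≤ a := Scheme.le_iff_specializes.mpr ha
    have h2 : a ≤ f.asFiber ξ' := h0 h1
    exact (Scheme.le_iff_specializes.mp h2).antisymm ha |>.eq.symm
  have hZ : closure ({f.asFiber ξ'} : Set (f.fiber (f.base ξ'))) ∈
      irreducibleComponents (f.fiber (f.base ξ')) :=
    closure_mem_irreducibleComponents_of_forall hmaxF
  obtain ⟨ζ, hcl, hdim⟩ := Groth.Agent.S4702.dim_irreducibleComponent_eq_tdeg
    (fiberQ f (f.base ξ')) _ hZ
  have hζ : ζ = f.asFiber ξ' :=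
    (isGenericPoint_def.mpr hcl).eq isGenericPoint_closure
  subst hζ
  have hE' : tdeg (fiberQ f (f.base ξ')) (f.asFiber ξ') = E := by
    have h1 := trdeg_fiber_eq f (f.base ξ') (f.asFiber ξ')
    have h2 := (trdeg_congr_point f (f.fiberι_asFiber ξ')).symm.trans h1
    have h3 : ((tdeg (fiberQ f (f.base ξ')) (f.asFiber ξ') : ℕ) : Cardinal.{u}) = (E : Cardinal.{u}) :=
      h2.symm.trans hE
    exact_mod_cast h3
  rw [hE'] at hdim
  rw [← hdim]
  symm
  have hmem : ∀ a : ↥(closure ({f.asFiber ξ'} : Set (f.fiber (f.base ξ')))),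
      (f.fiberι (f.base ξ')).base a.1 ∈ closure ({ξ'} : Set X) ∩ f.base ⁻¹' {f.base ξ'} := by
    intro a
    refine ⟨?_, fiberι_mem f (f.base ξ') a.1⟩
    rw [← specializes_iff_mem_closure]
    have h1 : f.asFiber ξ' ⤳ a.1 := specializes_iff_mem_closure.mpr a.2
    have h2 := h1.map (f.fiberι (f.base ξ')).continuous
    rwa [f.fiberι_asFiber] at h2
  let ψ : ↥(closure ({f.asFiber ξ'} : Set (f.fiber (f.base ξ')))) →
      ↥(closure ({ξ'} : Set X) ∩ f.base ⁻¹' {f.base ξ'}) := fun a => ⟨_, hmem a⟩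
  have hemb : Topology.IsEmbedding ψ := by
    have h1 : Topology.IsEmbedding
        (fun a : ↥(closure ({f.asFiber ξ'} : Set (f.fiber (f.base ξ')))) =>
          (f.fiberι (f.base ξ')).base a.1) :=
      (f.fiberι (f.base ξ')).isEmbedding.comp Topology.IsEmbedding.subtypeVal
    exact h1.codRestrict _ hmem
  have hsurj : Function.Surjective ψ := by
    rintro ⟨t, ht1, ht2⟩
    have ht3 : t ∈ Set.range (f.fiberι (f.base ξ')).base := by
      rw [Scheme.Hom.range_fiberι]
      exact ht2
    obtain ⟨a, rfl⟩ := ht3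
    have h1 : (f.fiberι (f.base ξ')).base (f.asFiber ξ') ⤳ (f.fiberι (f.base ξ')).base a := by
      rw [f.fiberι_asFiber ξ']
      exact specializes_iff_mem_closure.mpr ht1
    have h2 : f.asFiber ξ' ⤳ a :=
      (f.fiberι (f.base ξ')).isEmbedding.isInducing.specializes_iff.mp h1
    exact ⟨⟨a, specializes_iff_mem_closure.mp h2⟩, rfl⟩
  exact IsHomeomorph.topologicalKrullDim_eq ψ
    (hemb.toHomeomorphOfSurjective hsurj).isHomeomorph

/-- At a point which is maximal in its fibre, the local fibre dimension is the transcendence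
degree of the residue field extension. -/
theorem fibreDimAt_eq_of_stalk_dim_zero {X Y : Scheme.{u}} (f : X ⟶ Y) [LocallyOfFiniteType f]
    (z : X) (h0 : ringKrullDim ((f.fiber (f.base z)).presheaf.stalk (f.asFiber z)) = 0) (t : ℕ)
    (ht : @Algebra.trdeg (Y.residueField (f.base z)) (X.residueField z) _ _
        (f.residueFieldMap z).hom.toAlgebra = (t : Cardinal.{u})) :
    FlatMor.fibreDimAt f z = (t : WithBot ℕ∞) := by
  obtain ⟨n, b, hn, hb, hfd⟩ := fibre_formula f z
  have hnt : n = t := by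
    have : (n : Cardinal.{u}) = (t : Cardinal.{u}) := hn.symm.trans ht
    exact_mod_cast this
  have hb0 : b = 0 := by
    rw [h0] at hb
    have : ((0 : ℕ) : WithBot ℕ∞) = (b : WithBot ℕ∞) := by exact_mod_cast hb
    exact_mod_cast this.symm
  rw [hfd, hnt, hb0, add_zero]

section Order

variable {R : Type*} [CommRing R]

/-- The coheight of a least prime is the Krull dimension. -/
theorem coheight_eq_ringKrullDim_of_forall_le (w : PrimeSpectrum R) (h : ∀ w', w ≤ w') :
    ((Order.coheight w : ℕ∞) : WithBot ℕ∞) = ringKrullDim R := by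
  apply le_antisymm (Order.coheight_le_krullDim w)
  haveI : Nonempty (PrimeSpectrum R) := ⟨w⟩
  rw [Order.krullDim_eq_iSup_coheight]
  apply iSup_le
  intro w'
  exact WithBot.coe_le_coe.mpr (Order.coheight_anti (h w'))

/-- In a Noetherian local ring some minimal prime has coheight the Krull dimension. -/
theorem exists_isMin_coheight_eq [IsNoetherianRing R] [IsLocalRing R] :
    ∃ v : PrimeSpectrum R, IsMin v ∧ ((Order.coheight v : ℕ∞) : WithBot ℕ∞) = ringKrullDim R := by
  obtain ⟨m, hm⟩ := exists_ringKrullDim_eq_nat R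
  have h1 : ((m : ℕ) : WithBot ℕ∞) ≤ Order.krullDim (PrimeSpectrum R) := by
    rw [← ringKrullDim, hm]
  obtain ⟨l, hl⟩ := Order.le_krullDim_iff.mp h1
  obtain ⟨p, hp, hle⟩ := Ideal.exists_minimalPrimes_le (bot_le : (⊥ : Ideal R) ≤ l.head.asIdeal)
  have hpp : p.IsPrime := hp.1.1
  refine ⟨⟨p, hpp⟩, ?_, ?_⟩
  · intro r hr
    exact hp.2 ⟨r.2, bot_le⟩ hr
  · apply le_antisymm (Order.coheight_le_krullDim _)
    show ringKrullDim R ≤ _
    rw [hm]
    have h2 : (l.length : ℕ∞) ≤ Order.coheight l.head := Order.length_le_coheight_head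
    have h3 : Order.coheight l.head ≤ Order.coheight (⟨p, hpp⟩ : PrimeSpectrum R) :=
      Order.coheight_anti (show (⟨p, hpp⟩ : PrimeSpectrum R) ≤ l.head from hle)
    rw [hl] at h2
    exact_mod_cast h2.trans h3

/-- A prime whose coheight is the (finite) Krull dimension is minimal. -/
theorem isMin_of_coheight_eq [IsNoetherianRing R] [IsLocalRing R] (w : PrimeSpectrum R)
    (h : ((Order.coheight w : ℕ∞) : WithBot ℕ∞) = ringKrullDim R) : IsMin w := by
  intro w' hw'
  by_contra hne
  have hlt : w' < w := lt_of_le_not_ge hw' hne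
  have h1 := Order.coheight_add_one_le hlt
  obtain ⟨m, hm⟩ := exists_ringKrullDim_eq_nat R
  have h2 : ((Order.coheight w' : ℕ∞) : WithBot ℕ∞) ≤ ringKrullDim R :=
    Order.coheight_le_krullDim w'
  rw [hm] at h h2
  have h3 : Order.coheight w = (m : ℕ∞) := by exact_mod_cast h
  have h4 : Order.coheight w' ≤ (m : ℕ∞) := by exact_mod_cast h2
  rw [h3] at h1
  have h5 : ((m + 1 : ℕ) : ℕ∞) ≤ (m : ℕ∞) := by
    push_cast
    exact h1.trans h4
  have h6 : m + 1 ≤ m := by exact_mod_cast h5
  omega

/-- Coheights in the spectrum of a Noetherian local ring are finite. -/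
theorem exists_coheight_eq_nat [IsNoetherianRing R] [IsLocalRing R]
    (q : PrimeSpectrum R) : ∃ c : ℕ, Order.coheight q = (c : ℕ∞) := by
  have hfin : Order.coheight q ≠ ⊤ := by
    intro h
    have h1 := Order.coheight_le_krullDim q
    rw [h] at h1
    have h2 : ringKrullDim R ≠ ⊤ := ringKrullDim_ne_top
    exact h2 (top_le_iff.mp h1)
  exact ⟨_, (ENat.natCast_toNat hfin).symm⟩

end Order

end Groth.Agent.H9.DimFormulaApp
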