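import Mathlib
import Groth.Agent.H9.DimFormulaApp

set_option autoImplicit false
set_option linter.style.haveILetI false
universe u

open AlgebraicGeometry CategoryTheory

namespace Groth.Agent.H9.SubschemeDim

open Groth.Agent.H54 Groth.Agent.H71.DimFun

/-- For a morphism `i : Y' ⟶ Y` which is a topological embedding with range `closure {η'}`
(e.g. the closed immersion of the reduced subscheme), the dimension of the local ring of `Y'` at `v`
is the coheight of the prime of `η'` in the spectrum of the local ring of `Y` at `i v`. -/
theorem coheight_eq_of_isEmbedding {Y' Y : Scheme.{u}} (i : Y' ⟶ Y)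
    (hi : Topology.IsEmbedding i.base) (η' : Y) (hr : Set.range i.base = closure {η'}) (v : Y')
    (w' : PrimeSpectrum (Y.presheaf.stalk (i.base v)))
    (hw' : Y.fromSpecStalk (i.base v) w' = η') : Order.coheight v = Order.coheight w' := by
  have hkey : ((Order.coheight v : ℕ∞) : WithBot ℕ∞) = ((Order.coheight w' : ℕ∞) : WithBot ℕ∞) := by
    rw [Order.coheight_eq_krullDim_Ici, Order.coheight_eq_krullDim_Ici]
    apply le_antisymm
    · -- generizations of `v` ↦ primes above `w'`
      have hex : ∀ a : Set.Ici v, ∃ p : PrimeSpectrum (Y.presheaf.stalk (i.base v)),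
          Y.fromSpecStalk (i.base v) p = i.base a.1 := fun a =>
        exists_of_specializes Y ((Scheme.le_iff_specializes.mp a.2).map i.continuous)
      choose pr hpr using hex
      have hmem : ∀ a : Set.Ici v, w' ≤ pr a := by
        intro a
        rw [← fromSpecStalk_specializes_iff, hw', hpr, specializes_iff_mem_closure, ← hr]
        exact ⟨a.1, rfl⟩
      let Φ : Set.Ici v → (Set.Ici w')ᵒᵈ := fun a => OrderDual.toDual ⟨pr a, hmem a⟩
      have hΦ : StrictMono Φ := by
        intro a b hab
        change pr b < pr a
        have hab' : a.1 < b.1 := hab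
        rw [lt_iff_le_not_ge, ← fromSpecStalk_specializes_iff,
          ← fromSpecStalk_specializes_iff, hpr, hpr, hi.isInducing.specializes_iff,
          hi.isInducing.specializes_iff, ← Scheme.le_iff_specializes, ← Scheme.le_iff_specializes]
        exact lt_iff_le_not_ge.mp hab'
      calc Order.krullDim (Set.Ici v) ≤ Order.krullDim (Set.Ici w')ᵒᵈ :=
            Order.krullDim_le_of_strictMono Φ hΦ
        _ = Order.krullDim (Set.Ici w') := Order.krullDim_orderDual
    · have hex : ∀ p : Set.Ici w', ∃ a : Y', i.base a = Y.fromSpecStalk (i.base v) p.1 := by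
        intro p
        have h1 : Y.fromSpecStalk (i.base v) p.1 ∈ closure ({η'} : Set Y) := by
          rw [← specializes_iff_mem_closure, ← hw', fromSpecStalk_specializes_iff]
          exact p.2
        rw [← hr] at h1
        exact h1
      choose pt hpt using hex
      have hmem : ∀ p : Set.Ici w', v ≤ pt p := by
        intro p
        rw [Scheme.le_iff_specializes, ← hi.isInducing.specializes_iff, hpt]
        exact fromSpecStalk_specializes Y (i.base v) p.1
      let Ψ : Set.Ici w' → (Set.Ici v)ᵒᵈ := fun p => OrderDual.toDual ⟨pt p, hmem p⟩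
      have hΨ : StrictMono Ψ := by
        intro p p' hpp'
        change pt p' < pt p
        have hpp'' : p.1 < p'.1 := hpp'
        rw [lt_iff_le_not_ge, Scheme.le_iff_specializes,
          Scheme.le_iff_specializes, ← hi.isInducing.specializes_iff,
          ← hi.isInducing.specializes_iff, hpt, hpt, fromSpecStalk_specializes_iff,
          fromSpecStalk_specializes_iff]
        exact lt_iff_le_not_ge.mp hpp''
      calc Order.krullDim (Set.Ici w') ≤ Order.krullDim (Set.Ici v)ᵒᵈ :=
            Order.krullDim_le_of_strictMono Ψ hΨ
        _ = Order.krullDim (Set.Ici v) := Order.krullDim_orderDual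
  exact_mod_cast hkey

/-- The local ring of the fibre of a subscheme (embedded via `j`) has dimension at most that of the
local ring of the ambient fibre. -/
theorem stalk_fibre_dim_le_of_isEmbedding {X' X Y : Scheme.{u}} (j : X' ⟶ X)
    (hj : Topology.IsEmbedding j.base) (f : X ⟶ Y) (w : X') :
    ringKrullDim (((j ≫ f).fiber ((j ≫ f).base w)).presheaf.stalk ((j ≫ f).asFiber w)) ≤
      ringKrullDim ((f.fiber (f.base (j.base w))).presheaf.stalk (f.asFiber (j.base w))) := by
  rw [ringKrullDim_stalk_eq_coheight, ringKrullDim_stalk_eq_coheight]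
  apply WithBot.coe_le_coe.mpr
  have hex : ∀ a : (j ≫ f).fiber ((j ≫ f).base w), ∃ b : f.fiber (f.base (j.base w)),
      (f.fiberι (f.base (j.base w))).base b =
        j.base (((j ≫ f).fiberι ((j ≫ f).base w)).base a) := by
    intro a
    have h1 : j.base (((j ≫ f).fiberι ((j ≫ f).base w)).base a) ∈
        Set.range (f.fiberι (f.base (j.base w))).base := by
      rw [Scheme.Hom.range_fiberι]
      exact fiberι_mem (j ≫ f) ((j ≫ f).base w) a
    exact h1
  choose φ hφ using hex
  have hsm : StrictMono φ := by
    intro a a' haa'
    rw [lt_iff_le_not_ge] at haa' ⊢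
    rw [Scheme.le_iff_specializes, Scheme.le_iff_specializes,
      ← (f.fiberι (f.base (j.base w))).isEmbedding.isInducing.specializes_iff,
      ← (f.fiberι (f.base (j.base w))).isEmbedding.isInducing.specializes_iff, hφ, hφ,
      hj.isInducing.specializes_iff, hj.isInducing.specializes_iff,
      ((j ≫ f).fiberι ((j ≫ f).base w)).isEmbedding.isInducing.specializes_iff,
      ((j ≫ f).fiberι ((j ≫ f).base w)).isEmbedding.isInducing.specializes_iff,
      ← Scheme.le_iff_specializes, ← Scheme.le_iff_specializes]
    exact haa'
  have hφw : φ ((j ≫ f).asFiber w) = f.asFiber (j.base w) := by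
    apply (f.fiberι (f.base (j.base w))).isEmbedding.injective
    rw [hφ, (j ≫ f).fiberι_asFiber, f.fiberι_asFiber]
  rw [← hφw]
  exact Order.coheight_le_coheight_apply_of_strictMono φ hsm _

end Groth.Agent.H9.SubschemeDim
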