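import Mathlib
import Groth.Agent.H71.Catenary
import Groth.Agent.H71.DimFun2
import Groth.Agent.H54.GenericComp

set_option autoImplicit false
set_option linter.style.haveILetI false
universe u

open AlgebraicGeometry CategoryTheory

namespace Groth.Agent.H9.JacobsonDim

open Groth.Agent.H71.CAT Groth.Agent.H71.DimFun

/-- Saturated chains in a preorder. -/
inductive SatChain {α : Type*} [Preorder α] : α → α → ℕ → Prop
  | refl (a : α) : SatChain a a 0
  | cons {a b c : α} {n : ℕ} : a ⋖ b → SatChain b c n → SatChain a c (n + 1)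

theorem SatChain.le {α : Type*} [Preorder α] {a b : α} {n : ℕ} (h : SatChain a b n) : a ≤ b := by
  induction h with
  | refl a => exact le_rfl
  | cons hab _ ih => exact hab.lt.le.trans ih

theorem exists_satChain {A : Type u} [CommRing A] [IsNoetherianRing A]
    (x y : PrimeSpectrum A) (hxy : x ≤ y) : ∃ L, SatChain x y L := by
  induction x using WellFoundedGT.induction with
  | ind x ih =>
    rcases eq_or_lt_of_le hxy with h | h
    · subst h
      exact ⟨0, SatChain.refl _⟩
    · obtain ⟨z, hxz, hzy⟩ := exists_covBy_le_of_lt h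
      obtain ⟨L, hL⟩ := ih z hxz.lt hzy
      exact ⟨L + 1, SatChain.cons hxz hL⟩

theorem coheight_eq_of_satChain {A : Type u} [CommRing A] [IsNoetherianRing A] [IsLocalRing A]
    (hc : CAlg.IsCatenary A) {x y : PrimeSpectrum A} {L : ℕ} (h : SatChain x y L) :
    Order.coheight x = Order.coheight y + L := by
  induction h with
  | refl a => simp
  | cons hab _ ih =>
    rw [coheight_eq_of_covBy hc hab, ih]
    push_cast
    ring

/-- Immediate specialization in a topological space. -/
def Imm {T : Type*} [TopologicalSpace T] (a b : T) : Prop :=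
  a ⤳ b ∧ a ≠ b ∧ ∀ w, a ⤳ w → w ⤳ b → w = a ∨ w = b

theorem covBy_iff_imm (S : Scheme.{u}) (s : S) (x y : PrimeSpectrum (S.presheaf.stalk s)) :
    x ⋖ y ↔ Imm (S.fromSpecStalk s x) (S.fromSpecStalk s y) := by
  constructor
  · intro h
    refine ⟨(fromSpecStalk_specializes_iff S s x y).mpr h.lt.le,
      fun he => h.lt.ne (fromSpecStalk_injective S s he), fun w hw1 hw2 => ?_⟩
    obtain ⟨z, rfl⟩ := exists_of_specializes S (hw2.trans (fromSpecStalk_specializes S s y))
    have hxz : x ≤ z := (fromSpecStalk_specializes_iff S s x z).mp hw1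
    have hzy : z ≤ y := (fromSpecStalk_specializes_iff S s z y).mp hw2
    by_cases hzx : z = x
    · left; rw [hzx]
    · right
      have hlt : x < z := lt_of_le_of_ne hxz (Ne.symm hzx)
      have : ¬ z < y := h.2 hlt
      rw [eq_of_le_of_not_lt hzy this]
  · rintro ⟨h1, h2, h3⟩
    have hxy : x ≤ y := (fromSpecStalk_specializes_iff S s x y).mp h1
    have hne : x ≠ y := fun he => h2 (by rw [he])
    refine ⟨lt_of_le_of_ne hxy hne, fun z hxz hzy => ?_⟩
    rcases h3 _ ((fromSpecStalk_specializes_iff S s x z).mpr hxz.le)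
      ((fromSpecStalk_specializes_iff S s z y).mpr hzy.le) with h | h
    · exact hxz.ne' (fromSpecStalk_injective S s h)
    · exact hzy.ne (fromSpecStalk_injective S s h)

/-- Transfer of saturated chains between the spectra of two local rings of a scheme, phrased via
coheights in the (catenary) second local ring. -/
theorem coheight_transfer (S : Scheme.{u}) (s₁ s₂ : S)
    [IsNoetherianRing (S.presheaf.stalk s₂)]
    (hc : CAlg.IsCatenary (S.presheaf.stalk s₂))
    {x y : PrimeSpectrum (S.presheaf.stalk s₁)} {L : ℕ} (h : SatChain x y L)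
    (x' y' : PrimeSpectrum (S.presheaf.stalk s₂))
    (hx : S.fromSpecStalk s₂ x' = S.fromSpecStalk s₁ x)
    (hy : S.fromSpecStalk s₂ y' = S.fromSpecStalk s₁ y) :
    Order.coheight x' = Order.coheight y' + L := by
  induction h generalizing x' with
  | refl a =>
    have : x' = y' := fromSpecStalk_injective S s₂ (hx.trans hy.symm)
    simp [this]
  | @cons a b c n hab hbc ih =>
    have hbs : S.fromSpecStalk s₁ b ⤳ s₂ := by
      have h1 : S.fromSpecStalk s₁ b ⤳ S.fromSpecStalk s₁ c :=
        (fromSpecStalk_specializes_iff S s₁ _ _).mpr hbc.le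
      rw [← hy] at h1
      exact h1.trans (fromSpecStalk_specializes S s₂ y')
    obtain ⟨b', hb'⟩ := exists_of_specializes S hbs
    have hcov : x' ⋖ b' := by
      rw [covBy_iff_imm, hx, hb', ← covBy_iff_imm]
      exact hab
    rw [coheight_eq_of_covBy hc hcov, ih b' hb' hy]
    push_cast
    ring


/-- The dimension of the set of generizations of `s` inside `closure {γ}` is the coheight of the
prime of `γ` in the spectrum of the local ring at `s`. -/
theorem topologicalKrullDim_generizations (S : Scheme.{u}) (s γ : S)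
    (g : PrimeSpectrum (S.presheaf.stalk s)) (hg : S.fromSpecStalk s g = γ) :
    topologicalKrullDim ↥{t : S | t ∈ closure ({γ} : Set S) ∧ t ⤳ s} =
      ((Order.coheight g : ℕ∞) : WithBot ℕ∞) := by
  rw [coheight_eq_ringKrullDim_quotient, ← PrimeSpectrum.topologicalKrullDim_eq_ringKrullDim]
  symm
  have hmk : Function.Surjective (Ideal.Quotient.mk g.asIdeal) := Ideal.Quotient.mk_surjective
  have hmem : ∀ x : PrimeSpectrum (S.presheaf.stalk s ⧸ g.asIdeal),
      S.fromSpecStalk s (PrimeSpectrum.comap (Ideal.Quotient.mk g.asIdeal) x) ∈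
        {t : S | t ∈ closure ({γ} : Set S) ∧ t ⤳ s} := by
    intro x
    refine ⟨?_, fromSpecStalk_specializes S s _⟩
    rw [← specializes_iff_mem_closure, ← hg, fromSpecStalk_specializes_iff]
    have : PrimeSpectrum.comap (Ideal.Quotient.mk g.asIdeal) x ∈
        PrimeSpectrum.zeroLocus (RingHom.ker (Ideal.Quotient.mk g.asIdeal) : Set _) := by
      rw [← range_comap_of_surjective _ _ hmk]
      exact ⟨x, rfl⟩
    rw [Ideal.mk_ker] at this
    exact this
  let ψ : PrimeSpectrum (S.presheaf.stalk s ⧸ g.asIdeal) →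
      ↥{t : S | t ∈ closure ({γ} : Set S) ∧ t ⤳ s} := fun x => ⟨_, hmem x⟩
  have hemb : Topology.IsEmbedding ψ := by
    have h1 : Topology.IsEmbedding (fun x : PrimeSpectrum (S.presheaf.stalk s ⧸ g.asIdeal) =>
        S.fromSpecStalk s (PrimeSpectrum.comap (Ideal.Quotient.mk g.asIdeal) x)) :=
      (S.fromSpecStalk s).isEmbedding.comp
        (PrimeSpectrum.isClosedEmbedding_comap_of_surjective _ _ hmk).isEmbedding
    exact h1.codRestrict _ hmem
  have hsurj : Function.Surjective ψ := by
    rintro ⟨t, ht1, ht2⟩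
    obtain ⟨z, rfl⟩ := exists_of_specializes S ht2
    rw [← specializes_iff_mem_closure, ← hg, fromSpecStalk_specializes_iff] at ht1
    have hz : z ∈ Set.range (PrimeSpectrum.comap (Ideal.Quotient.mk g.asIdeal)) := by
      rw [range_comap_of_surjective _ _ hmk, Ideal.mk_ker]
      exact ht1
    obtain ⟨x, rfl⟩ := hz
    exact ⟨x, rfl⟩
  exact IsHomeomorph.topologicalKrullDim_eq ψ
    (hemb.toHomeomorphOfSurjective hsurj).isHomeomorph

/-- **Equicodimensionality.** Over a locally Noetherian scheme with universally catenary local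
rings whose irreducible components are equidimensional at closed points, the dimension of
`closure {σ}` localized at a closed point `s` does not depend on `s`. -/
theorem coheight_eq_of_closed (S : Scheme.{u}) [IsLocallyNoetherian S]
    (h2 : ∀ s : S, CAlg.IsUniversallyCatenary (S.presheaf.stalk s))
    (h3 : ∀ S' ∈ irreducibleComponents (S : Type u), ∀ s ∈ S', IsClosed ({s} : Set S) →
      topologicalKrullDim (↥S' : Type u) = topologicalKrullDim ↥{t : S | t ∈ S' ∧ t ⤳ s})
    (σ s₁ s₂ : S) (hs₁ : IsClosed ({s₁} : Set S)) (hs₂ : IsClosed ({s₂} : Set S))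
    (q₁ : PrimeSpectrum (S.presheaf.stalk s₁)) (q₂ : PrimeSpectrum (S.presheaf.stalk s₂))
    (hq₁ : S.fromSpecStalk s₁ q₁ = σ) (hq₂ : S.fromSpecStalk s₂ q₂ = σ) :
    Order.coheight q₁ = Order.coheight q₂ := by
  obtain ⟨γ, hγσ, hγmax⟩ := exists_generic_specializes S σ
  have hS' : closure ({γ} : Set S) ∈ irreducibleComponents (S : Type u) :=
    Groth.Agent.H54.closure_mem_irreducibleComponents_of_forall hγmax
  have hσ₁ : σ ⤳ s₁ := hq₁ ▸ fromSpecStalk_specializes S s₁ q₁
  have hσ₂ : σ ⤳ s₂ := hq₂ ▸ fromSpecStalk_specializes S s₂ q₂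
  obtain ⟨g₁, hg₁⟩ := exists_of_specializes S (hγσ.trans hσ₁)
  obtain ⟨g₂, hg₂⟩ := exists_of_specializes S (hγσ.trans hσ₂)
  have e₁ := h3 _ hS' s₁ (hγσ.trans hσ₁).mem_closure hs₁
  have e₂ := h3 _ hS' s₂ (hγσ.trans hσ₂).mem_closure hs₂
  rw [topologicalKrullDim_generizations S s₁ γ g₁ hg₁] at e₁
  rw [topologicalKrullDim_generizations S s₂ γ g₂ hg₂] at e₂
  have hgg : Order.coheight g₁ = Order.coheight g₂ := by
    have := e₁.symm.trans e₂
    exact_mod_cast this
  have hgq₁ : g₁ ≤ q₁ := by
    rw [← fromSpecStalk_specializes_iff, hg₁, hq₁]; exact hγσ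
  haveI := (h2 s₁).1
  haveI := (h2 s₂).1
  have hc₁ : CAlg.IsCatenary (S.presheaf.stalk s₁) := (h2 s₁).2 _ inferInstance
  have hc₂ : CAlg.IsCatenary (S.presheaf.stalk s₂) := (h2 s₂).2 _ inferInstance
  obtain ⟨L, hL⟩ := exists_satChain g₁ q₁ hgq₁
  have k₁ := coheight_eq_of_satChain hc₁ hL
  have k₂ := coheight_transfer S s₁ s₂ hc₂ hL g₂ q₂ (hg₂.trans hg₁.symm) (hq₂.trans hq₁.symm)
  rw [hgg, k₂] at k₁
  exact (ENat.add_left_injective_of_ne_top (ENat.natCast_ne_top L) k₁).symm

end Groth.Agent.H9.JacobsonDim
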