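import Mathlib
import Groth.Agent.H9.SubschemeDim
import Groth.Agent.H9.FibDimTop
import Groth.Agent.H9.FibDimTarget
import Groth.Agent.S1554
import Groth.Agent.S3449
import Groth.Agent.S4702
import Groth.Prelude.Def_EGA43

set_option autoImplicit false
set_option linter.style.haveILetI false
universe u

open AlgebraicGeometry CategoryTheory

namespace Groth.Agent.H9.Equidim

open Groth.Agent.H54 Groth.Agent.H9.FibDim Groth.Agent.H9.FibreFormula
  Groth.Agent.H9.FibreGeneric Groth.Agent.H9.DimFormulaEq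

/-- Composing with a morphism surjective on stalks (e.g. a closed immersion) does not change the
residue field transcendence degree. -/
theorem trdeg_comp_of_surjectiveOnStalks {Z X Y : Scheme.{u}} (j : Z ⟶ X) [SurjectiveOnStalks j]
    (f : X ⟶ Y) (z : Z) :
    @Algebra.trdeg (Y.residueField ((j ≫ f).base z)) (Z.residueField z) _ _
        ((j ≫ f).residueFieldMap z).hom.toAlgebra =
    @Algebra.trdeg (Y.residueField (f.base (j.base z))) (X.residueField (j.base z)) _ _
        (f.residueFieldMap (j.base z)).hom.toAlgebra := by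
  rw [← Groth.Agent.S3449.trdeg_residueFieldMap_comp j f z]
  have hsurj : Function.Surjective (j.residueFieldMap z).hom := by
    have h1 : Function.Surjective ((X.residue (j.base z)) ≫ j.residueFieldMap z).hom := by
      rw [Scheme.residue_residueFieldMap]
      exact (Z.residue_surjective z).comp (j.stalkMap_surjective z)
    exact Function.Surjective.of_comp (g := (X.residue (j.base z)).hom) h1
  letI : Algebra (X.residueField (j.base z)) (Z.residueField z) := (j.residueFieldMap z).hom.toAlgebra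
  haveI : Algebra.IsAlgebraic (X.residueField (j.base z)) (Z.residueField z) :=
    Groth.Agent.H9.TrdegSq.isAlgebraic_of_surjective _ hsurj
  have h0 : @Algebra.trdeg (X.residueField (j.base z)) (Z.residueField z) _ _
      (j.residueFieldMap z).hom.toAlgebra = 0 := trdeg_eq_zero
  rw [h0, add_zero]

/-- The local fibre dimension is insensitive to restriction to an open subscheme. -/
theorem fibreDimAt_comp_of_isOpenImmersion {U X Y : Scheme.{u}} (j : U ⟶ X) [IsOpenImmersion j]
    (f : X ⟶ Y) (u : U) :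
    FlatMor.fibreDimAt (j ≫ f) u = FlatMor.fibreDimAt f (j.base u) := by
  rw [fibreDimAt_eq_tfd, fibreDimAt_eq_tfd]
  exact tfd_eq_of_square f.base (j ≫ f).base j.base id j.isOpenEmbedding Function.injective_id
    (fun _ => rfl) u

/-- The local dimension at `x` of `X' ∩ f⁻¹(f x)` is the local fibre dimension of the restriction of
`f` to a scheme structure on `X'`. -/
theorem localDim_inter_fibre_eq {Z X Y : Scheme.{u}} (j : Z ⟶ X)
    (hj : Topology.IsEmbedding j.base) (X' : Set X) (hr : Set.range j.base = X') (f : X ⟶ Y)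
    (w : Z) (x : X) (hw : j.base w = x) (hx : x ∈ X') :
    FlatMor.localDim ↥(X' ∩ f.base ⁻¹' {f.base x}) ⟨x, ⟨hx, rfl⟩⟩ =
      FlatMor.fibreDimAt (j ≫ f) w := by
  subst hw
  rw [fibreDimAt_eq_tfd]
  unfold tfd
  have hmem : ∀ a : ↥((j ≫ f).base ⁻¹' {(j ≫ f).base w}),
      j.base a.1 ∈ X' ∩ f.base ⁻¹' {f.base (j.base w)} := by
    intro a
    exact ⟨hr ▸ ⟨a.1, rfl⟩, a.2⟩
  let r : ↥((j ≫ f).base ⁻¹' {(j ≫ f).base w}) → ↥(X' ∩ f.base ⁻¹' {f.base (j.base w)}) :=
    fun a => ⟨_, hmem a⟩
  have hemb : Topology.IsEmbedding r := by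
    have h1 : Topology.IsEmbedding
        (fun a : ↥((j ≫ f).base ⁻¹' {(j ≫ f).base w}) => j.base a.1) :=
      hj.comp Topology.IsEmbedding.subtypeVal
    exact h1.codRestrict _ hmem
  have hsurj : Function.Surjective r := by
    rintro ⟨t, ht1, ht2⟩
    rw [← hr] at ht1
    obtain ⟨a, rfl⟩ := ht1
    exact ⟨⟨a, ht2⟩, rfl⟩
  have hopen : Topology.IsOpenEmbedding r :=
    (hemb.toHomeomorphOfSurjective hsurj).isOpenEmbedding
  exact (localDim_of_isOpenEmbedding hopen ⟨w, rfl⟩).symm

/-- The local dimension can only go up under specialization. -/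
theorem localDim_le_of_specializes {T : Type*} [TopologicalSpace T] {ξ a : T} (h : ξ ⤳ a) :
    FlatMor.localDim T ξ ≤ FlatMor.localDim T a := by
  refine le_iInf fun U => ?_
  exact localDim_le_of_mem T ξ U.1 (h.mem_open U.1.2 U.2)

/-- In a scheme locally of finite type over a field whose irreducible components all have dimension
`e₀`, the local dimension is `e₀` everywhere. -/
theorem localDim_eq_of_components {k : Type u} [Field k] {F : Scheme.{u}}
    (s : F ⟶ Spec (CommRingCat.of k)) [LocallyOfFiniteType s] (e₀ : ℕ)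
    (h : ∀ T ∈ irreducibleComponents (F : Type u), topologicalKrullDim ↥T = (e₀ : WithBot ℕ∞))
    (a : F) : FlatMor.localDim F a = (e₀ : WithBot ℕ∞) := by
  have hgen : ∀ ξ : F, closure ({ξ} : Set F) ∈ irreducibleComponents (F : Type u) →
      tdeg s ξ = e₀ := by
    intro ξ hξ
    obtain ⟨ζ, hcl, hdim⟩ := Groth.Agent.S4702.dim_irreducibleComponent_eq_tdeg s _ hξ
    have hζ : ζ = ξ := (isGenericPoint_def.mpr hcl).eq isGenericPoint_closure
    subst hζ
    rw [h _ hξ] at hdim
    exact_mod_cast hdim.symm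
  apply le_antisymm
  · obtain ⟨ζ, hζa, hle⟩ := exists_specializes_localDim_le s a
    obtain ⟨ξ, hξζ, hξ⟩ := exists_generic_specializes ζ
    refine hle.trans ?_
    have h1 : tdeg s ζ ≤ tdeg s ξ := tdeg_le_of_specializes s hξζ
    rw [hgen ξ hξ] at h1
    exact_mod_cast h1
  · obtain ⟨ξ, hξa, hξ⟩ := exists_generic_specializes a
    refine le_trans ?_ (localDim_le_of_specializes hξa)
    obtain ⟨b, hb⟩ := ENat.ne_top_iff_exists.mp (coheight_ne_top s ξ)
    rw [localDim_eq s ξ b hb.symm, hgen ξ hξ]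
    exact_mod_cast Nat.le_add_right e₀ b

/-- Conversely, if the local dimension is `e₁` everywhere, every irreducible component has
dimension `e₁`. -/
theorem dim_component_eq_of_localDim {k : Type u} [Field k] {F : Scheme.{u}}
    (s : F ⟶ Spec (CommRingCat.of k)) [LocallyOfFiniteType s] (e₁ : ℕ)
    (h : ∀ a : F, FlatMor.localDim F a = (e₁ : WithBot ℕ∞))
    (T : Set F) (hT : T ∈ irreducibleComponents (F : Type u)) :
    topologicalKrullDim ↥T = (e₁ : WithBot ℕ∞) := by
  obtain ⟨ζ, hcl, hdim⟩ := Groth.Agent.S4702.dim_irreducibleComponent_eq_tdeg s T hT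
  rw [hdim]
  have hζ : closure ({ζ} : Set F) ∈ irreducibleComponents (F : Type u) := by rw [hcl]; exact hT
  have hco : Order.coheight ζ = ((0 : ℕ) : ℕ∞) := by
    rw [Nat.cast_zero, Order.coheight_eq_zero]
    exact isMax_of_generic hζ
  have h1 := localDim_eq s ζ 0 hco
  rw [h ζ, add_zero] at h1
  exact h1.symm

/-- Unpacking equidimensionality at a point over an irreducible base: constant local fibre
dimension near `x`, and maximal points near `x` map to the generic point. -/
theorem exists_of_isEquidimAt {X Y : Scheme.{u}} [IrreducibleSpace Y] (f : X ⟶ Y)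
    [LocallyOfFiniteType f] (x : X) (hf : EGA43.IsEquidimAt f x) :
    ∃ (e₀ : ℕ) (U : X.Opens), x ∈ U ∧
      (∀ x₁ : X, x₁ ∈ U → FlatMor.fibreDimAt f x₁ = (e₀ : WithBot ℕ∞)) ∧
      (∀ ξ : X, ξ ∈ U → (∀ t : X, t ⤳ ξ → t = ξ) → f.base ξ = genericPoint Y) := by
  obtain ⟨e₀, U, hxU, h1, h2⟩ := hf
  refine ⟨e₀, U, hxU, ?_, ?_⟩
  · intro x₁ hx₁
    have h3 := fibreDimAt_comp_of_isOpenImmersion U.ι f ⟨x₁, hx₁⟩
    have h4 : U.ι.base ⟨x₁, hx₁⟩ = x₁ := rfl
    rw [h4] at h3
    rw [← h3]
    exact localDim_eq_of_components (fiberQ (U.ι ≫ f) _) e₀ (h2 ⟨x₁, hx₁⟩) _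
  · intro ξ hξU hξmax
    have hmaxU : ∀ t : (↥U : Type u), t ⤳ (⟨ξ, hξU⟩ : (↥U : Type u)) → t = ⟨ξ, hξU⟩ := by
      intro t ht
      have h3 : U.ι.base t ⤳ U.ι.base ⟨ξ, hξU⟩ := ht.map U.ι.continuous
      have h4 : U.ι.base t = ξ := hξmax _ h3
      exact U.ι.isOpenEmbedding.injective h4
    haveI : QuasiSober (↥U : Type u) := inferInstanceAs (QuasiSober (U : Scheme.{u}))
    have hZ := closure_mem_irreducibleComponents_of_forall hmaxU
    obtain ⟨W, hW, -, hcl⟩ := h1 _ hZ
    rw [irreducibleComponents_eq_singleton, Set.mem_singleton_iff] at hW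
    have hsub : (U.ι ≫ f).base '' closure ({(⟨ξ, hξU⟩ : (↥U : Type u))} : Set (↥U : Type u)) ⊆
        closure ({f.base ξ} : Set Y) := by
      rintro _ ⟨t, ht, rfl⟩
      have h3 : (⟨ξ, hξU⟩ : (↥U : Type u)) ⤳ t := specializes_iff_mem_closure.mpr ht
      exact (h3.map (U.ι ≫ f).continuous).mem_closure
    have h5 : (Set.univ : Set Y) ⊆ closure ({f.base ξ} : Set Y) := by
      rw [← hW, ← hcl]
      exact closure_minimal hsub isClosed_closure
    have h6 : IsGenericPoint (f.base ξ) (Set.univ : Set Y) := by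
      rw [isGenericPoint_def]
      exact Set.eq_univ_of_univ_subset h5
    exact h6.eq (genericPoint_spec Y)

/-- Criterion for equidimensionality at a point over an irreducible base. -/
theorem isEquidimAt_of_forall {Z Y : Scheme.{u}} [IrreducibleSpace Y] (g : Z ⟶ Y)
    [LocallyOfFiniteType g] (w : Z) (e₁ : ℕ) (U' : Z.Opens) (hw : w ∈ U')
    (ha : ∀ ξ : Z, ξ ∈ U' → (∀ t : Z, t ⤳ ξ → t = ξ) → g.base ξ = genericPoint Y)
    (hb : ∀ z : Z, z ∈ U' → FlatMor.fibreDimAt g z = (e₁ : WithBot ℕ∞)) :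
    EGA43.IsEquidimAt g w := by
  refine ⟨e₁, U', hw, ?_, ?_⟩
  · intro Z₁ hZ₁
    refine ⟨Set.univ, ?_, Set.mem_univ _, ?_⟩
    · rw [irreducibleComponents_eq_singleton]; rfl
    · haveI : QuasiSober (↥U' : Type u) := inferInstanceAs (QuasiSober (U' : Scheme.{u}))
      have hcl : IsClosed Z₁ := isClosed_of_mem_irreducibleComponents Z₁ hZ₁
      obtain ⟨u, hu⟩ : ∃ u : (↥U' : Type u), closure {u} = Z₁ :=
        ⟨hZ₁.1.genericPoint, hZ₁.1.closure_genericPoint hcl⟩
      have humax : ∀ t : Z, t ⤳ U'.ι.base u → t = U'.ι.base u := by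
        intro t ht
        have htU : t ∈ U' := ht.mem_open U'.2 u.2
        have h1 : (⟨t, htU⟩ : (↥U' : Type u)) ⤳ u :=
          U'.ι.isOpenEmbedding.isInducing.specializes_iff.mp ht
        have h2 : closure ({(⟨t, htU⟩ : (↥U' : Type u))} : Set (↥U' : Type u)) ≤ Z₁ := by
          apply hZ₁.2 isIrreducible_singleton.closure
          rw [← hu]
          exact specializes_iff_closure_subset.mp h1
        have h3 : u ⤳ (⟨t, htU⟩ : (↥U' : Type u)) := by
          rw [specializes_iff_mem_closure, hu]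
          exact h2 (subset_closure rfl)
        have h4 : (⟨t, htU⟩ : (↥U' : Type u)) = u := (h1.antisymm h3).eq
        rw [← h4]
        rfl
      have hη := ha _ u.2 humax
      apply Set.eq_univ_of_univ_subset
      have h5 : (genericPoint Y) ∈ (U'.ι ≫ g).base '' Z₁ :=
        ⟨u, hu ▸ subset_closure rfl, hη⟩
      have h6 : closure ({genericPoint Y} : Set Y) ⊆ closure ((U'.ι ≫ g).base '' Z₁) :=
        closure_mono (Set.singleton_subset_iff.mpr h5)
      rw [(genericPoint_spec Y).def] at h6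
      exact h6
  · intro x₁ T hT
    apply dim_component_eq_of_localDim (fiberQ (U'.ι ≫ g) _) e₁ _ T hT
    intro a
    rw [localDim_fiber, fibreDimAt_comp_of_isOpenImmersion]
    exact hb _ (((U'.ι ≫ g).fiberι _).base a).2

end Groth.Agent.H9.Equidim
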