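import Groth.Agent.H9.RegSeqTwo

/-!
# Two out of three for kernels of surjections of Noetherian local rings
-/

set_option autoImplicit false
universe u

open RingTheory.Sequence IsLocalRing

namespace Groth.Agent.H9

/-- Version of `exists_isWeaklyRegular_of_quotient` for an arbitrary surjection `φ : A → B`. -/
theorem exists_isRegular_ker_of_surjective {A B : Type u} [CommRing A] [CommRing B] [IsLocalRing A]
    [IsNoetherianRing A] (φ : A →+* B) (hφ : Function.Surjective φ) (K : Ideal A)
    (hJK : RingHom.ker φ ≤ K) (ks : List A) (hks : IsRegular A ks) (hksK : Ideal.ofList ks = K)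
    (cs : List B) (hcs : IsRegular B cs) (hcsK : Ideal.ofList cs = K.map φ) :
    ∃ js : List A, IsRegular A js ∧ RingHom.ker φ = Ideal.ofList js := by
  set e : A ⧸ RingHom.ker φ ≃+* B := RingHom.quotientKerEquivOfSurjective hφ with he
  have hes : ∀ a : A, e.symm (φ a) = Ideal.Quotient.mk _ a := fun a =>
    RingHom.quotientKerEquivOfSurjective_symm_apply hφ a
  have hys : IsRegular (A ⧸ RingHom.ker φ) (cs.map e.symm.toRingHom) :=
    (AddEquiv.isRegular_congr (e := e.symm.toAddEquiv)
      (List.forall₂_map_right_iff.mpr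
        (List.forall₂_same.mpr fun r _ x => map_mul e.symm r x))).1 hcs
  have hysK : Ideal.ofList (cs.map e.symm.toRingHom) =
      K.map (Ideal.Quotient.mk (RingHom.ker φ)) := by
    rw [← Ideal.map_ofList, hcsK, Ideal.map_map]
    congr 1
    ext a
    exact hes a
  obtain ⟨js, hjs, hjsJ⟩ := exists_isWeaklyRegular_of_quotient _ A (RingHom.ker φ) K ks
    (cs.map e.symm.toRingHom) rfl hJK hks hksK hys hysK
  have hKtop : K ≠ ⊤ := hksK ▸ ((isRegular_ring_iff _).1 hks).2
  refine ⟨js, (isRegular_ring_iff js).2 ⟨hjs, ?_⟩, hjsJ.symm⟩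
  rw [hjsJ]
  exact fun h => hKtop (top_le_iff.mp (h ▸ hJK))

/-- Two out of three: for surjections `A → B → C` of rings with `A` Noetherian local and the kernel
of `B → C` generated by a regular sequence, the kernel of `A → B` is generated by a regular sequence
iff the kernel of `A → C` is. -/
theorem exists_isRegular_ker_iff_comp {A B C : Type u} [CommRing A] [CommRing B] [CommRing C]
    [IsLocalRing A] [IsNoetherianRing A] (φ : A →+* B) (γ : B →+* C)
    (hφ : Function.Surjective φ)
    (hG : ∃ cs : List B, IsRegular B cs ∧ RingHom.ker γ = Ideal.ofList cs) :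
    (∃ rs : List A, IsRegular A rs ∧ RingHom.ker φ = Ideal.ofList rs) ↔
      ∃ rs : List A, IsRegular A rs ∧ RingHom.ker (γ.comp φ) = Ideal.ofList rs := by
  obtain ⟨cs, hcs, hcsK⟩ := hG
  have hγtop : RingHom.ker γ ≠ ⊤ := hcsK ▸ ((isRegular_ring_iff _).1 hcs).2
  have hK : RingHom.ker (γ.comp φ) = (RingHom.ker γ).comap φ := (RingHom.comap_ker γ φ).symm
  have hKtop : RingHom.ker (γ.comp φ) ≠ ⊤ := by
    intro h
    apply hγtop
    rw [Ideal.eq_top_iff_one]
    have h1 : (1 : A) ∈ (RingHom.ker γ).comap φ := hK ▸ (h ▸ Submodule.mem_top)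
    rw [Ideal.mem_comap, map_one] at h1
    exact h1
  have hJK : RingHom.ker φ ≤ RingHom.ker (γ.comp φ) := by
    intro a ha
    rw [RingHom.mem_ker] at ha ⊢
    rw [RingHom.comp_apply, ha, map_zero]
  have hKmap : (RingHom.ker (γ.comp φ)).map φ = RingHom.ker γ := by
    rw [hK, Ideal.map_comap_of_surjective φ hφ]
  constructor
  · rintro ⟨js, hjs, hjsJ⟩
    obtain ⟨ts, hts⟩ := (List.map_surjective_iff.2 hφ) cs
    refine ⟨js ++ ts, (isRegular_ring_iff _).2 ⟨?_, ?_⟩, ?_⟩
    · rw [isWeaklyRegular_append_iff_of_surjective φ hφ js ts hjsJ]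
      exact ⟨hjs.toIsWeaklyRegular, hts ▸ hcs.toIsWeaklyRegular⟩
    · rw [Ideal.ofList_append, ← hjsJ]
      have : RingHom.ker φ ⊔ Ideal.ofList ts = RingHom.ker (γ.comp φ) := by
        rw [hK, hcsK, ← hts, ← Ideal.map_ofList, Ideal.comap_map_of_surjective φ hφ,
          ← RingHom.ker_eq_comap_bot, sup_comm]
      rw [this]; exact hKtop
    · rw [Ideal.ofList_append, ← hjsJ, hK, hcsK, ← hts, ← Ideal.map_ofList,
        Ideal.comap_map_of_surjective φ hφ, ← RingHom.ker_eq_comap_bot, sup_comm]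
  · rintro ⟨ks, hks, hksK⟩
    exact exists_isRegular_ker_of_surjective φ hφ (RingHom.ker (γ.comp φ)) hJK ks hks hksK.symm
      cs hcs (by rw [hKmap, hcsK])

end Groth.Agent.H9
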