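import Groth.Agent.H9.RegLocalSeq
import Groth.Agent.H9.RegSeqThree

/-!
# Regular ideals in regular local rings pass to regular quotients

If `A → B` is a surjection of regular local rings and `K ⊇ ker` is generated by a regular sequence
of `A`, then `K·B` is generated by a regular sequence of `B`.
-/

set_option autoImplicit false
universe u

open IsLocalRing RingTheory.Sequence

namespace Groth.Agent.H9

/-- A nonzero proper ideal of a regular local ring with regular quotient is not contained in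
`𝔪²`. -/
theorem exists_mem_notMem_sq (A : Type u) [CommRing A] [IsRegularLocalRing A] (I : Ideal A)
    (hI : I ≠ ⊤) (hI0 : I ≠ ⊥) (hB : IsRegularLocalRing (A ⧸ I)) :
    ∃ x ∈ I, x ∉ maximalIdeal A ^ 2 := by
  classical
  have hdom : IsDomain A := H23.isDomain_of_isRegularLocalRing A
  have hAdim : ((maximalIdeal A).spanFinrank : WithBot ℕ∞) = ringKrullDim A :=
    IsRegularLocalRing.spanFinrank_maximalIdeal
  by_contra hcon
  push Not at hcon
  have hIm2 : I ≤ maximalIdeal A ^ 2 := fun x hx => hcon x hx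
  haveI hloc : IsLocalHom (Ideal.Quotient.mk I) :=
    IsLocalHom.of_surjective _ Ideal.Quotient.mk_surjective
  obtain ⟨T, hTcard, hTspan⟩ := Submodule.FG.exists_span_finset_card_eq_spanFinrank
    (p := maximalIdeal (A ⧸ I)) (maximalIdeal (A ⧸ I)).fg_of_isNoetherianRing
  let g : A ⧸ I → A := Function.surjInv Ideal.Quotient.mk_surjective
  have hg : ∀ b, Ideal.Quotient.mk I (g b) = b := Function.surjInv_eq _
  let S : Finset A := T.image g
  have hSm : (S : Set A) ⊆ maximalIdeal A := by
    intro a ha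
    obtain ⟨t, ht, rfl⟩ := Finset.mem_image.mp (Finset.mem_coe.mp ha)
    have htm : t ∈ maximalIdeal (A ⧸ I) := hTspan ▸ Submodule.subset_span ht
    rw [mem_maximalIdeal, mem_nonunits_iff] at htm
    rw [SetLike.mem_coe, mem_maximalIdeal, mem_nonunits_iff]
    intro hu
    exact htm (hg t ▸ hu.map (Ideal.Quotient.mk I))
  have himg : (Ideal.Quotient.mk I) '' (S : Set A) = (T : Set (A ⧸ I)) := by
    ext b
    simp only [S, Finset.coe_image, Set.mem_image, Finset.mem_coe]
    constructor
    · rintro ⟨_, ⟨t, ht, rfl⟩, rfl⟩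
      rwa [hg]
    · intro hb
      exact ⟨g b, ⟨b, hb, rfl⟩, hg b⟩
  have hle : maximalIdeal A ≤ Ideal.span (S : Set A) ⊔ I := by
    intro a ha
    have h1 : Ideal.Quotient.mk I a ∈
        (Ideal.span (S : Set A)).map (Ideal.Quotient.mk I) := by
      rw [Ideal.map_span, himg]
      change Ideal.Quotient.mk I a ∈ Submodule.span (A ⧸ I) (T : Set (A ⧸ I))
      rw [hTspan, mem_maximalIdeal, mem_nonunits_iff, isUnit_map_iff]
      exact (mem_maximalIdeal a).1 ha
    have h2 : a ∈ ((Ideal.span (S : Set A)).map (Ideal.Quotient.mk I)).comap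
        (Ideal.Quotient.mk I) := h1
    rwa [comap_map_mk] at h2
  have hle2 : maximalIdeal A ≤ Ideal.span (S : Set A) ⊔ maximalIdeal A • maximalIdeal A :=
    hle.trans (sup_le_sup_left (by rw [smul_eq_mul, ← pow_two]; exact hIm2) _)
  have hmS : maximalIdeal A ≤ Ideal.span (S : Set A) :=
    Submodule.le_of_le_smul_of_le_jacobson_bot (maximalIdeal A).fg_of_isNoetherianRing
      (by rw [jacobson_eq_maximalIdeal ⊥ bot_ne_top]) hle2
  have hmS' : maximalIdeal A = Ideal.span (S : Set A) :=
    le_antisymm hmS (Ideal.span_le.mpr hSm)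
  have h3 : (maximalIdeal A).spanFinrank ≤ (maximalIdeal (A ⧸ I)).spanFinrank := by
    calc (maximalIdeal A).spanFinrank = (Ideal.span (S : Set A)).spanFinrank := by rw [← hmS']
      _ ≤ (S : Set A).ncard :=
        Submodule.spanFinrank_span_le_ncard_of_finite S.finite_toSet
      _ = S.card := Set.ncard_coe_finset S
      _ ≤ T.card := Finset.card_image_le
      _ = (maximalIdeal (A ⧸ I)).spanFinrank := hTcard
  obtain ⟨p, hpI, hp0⟩ := Submodule.exists_mem_ne_zero_of_ne_bot hI0
  have hpnzd : p ∈ nonZeroDivisors A := mem_nonZeroDivisors_of_ne_zero hp0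
  have h4 := ringKrullDim_quotient_succ_le_of_nonZeroDivisor hpnzd
  have hpI' : Ideal.span {p} ≤ I := (Ideal.span_singleton_le_iff_mem _).mpr hpI
  have h5 : ringKrullDim (A ⧸ I) ≤ ringKrullDim (A ⧸ Ideal.span {p}) :=
    ringKrullDim_le_of_surjective (Ideal.Quotient.factor hpI')
      (Ideal.Quotient.factor_surjective hpI')
  have hBdim : ((maximalIdeal (A ⧸ I)).spanFinrank : WithBot ℕ∞) = ringKrullDim (A ⧸ I) :=
    IsRegularLocalRing.spanFinrank_maximalIdeal
  have h6 : ((maximalIdeal (A ⧸ I)).spanFinrank : WithBot ℕ∞) + 1 ≤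
      ((maximalIdeal A).spanFinrank : WithBot ℕ∞) := by
    rw [hBdim, hAdim]
    exact (add_le_add_left h5 1).trans h4
  have h7 : (maximalIdeal (A ⧸ I)).spanFinrank + 1 ≤ (maximalIdeal A).spanFinrank := by
    exact_mod_cast h6
  omega

theorem regular_quotient_spanFinrank (A : Type u) [CommRing A] [IsRegularLocalRing A] (x : A)
    (hxm : x ∈ maximalIdeal A) (hx2 : x ∉ maximalIdeal A ^ 2) (d : ℕ)
    (hd : (maximalIdeal A).spanFinrank = d + 1) :
    ∃ _ : IsRegularLocalRing (A ⧸ Ideal.span {x}),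
      (maximalIdeal (A ⧸ Ideal.span {x})).spanFinrank = d := by
  have hAdim : ((maximalIdeal A).spanFinrank : WithBot ℕ∞) = ringKrullDim A :=
    IsRegularLocalRing.spanFinrank_maximalIdeal
  obtain ⟨hA'reg, hA'dim⟩ := regular_quotient_of_notMem_sq A x hxm hx2
  refine ⟨hA'reg, ?_⟩
  have h1 : ((maximalIdeal (A ⧸ Ideal.span {x})).spanFinrank : WithBot ℕ∞) =
      ringKrullDim (A ⧸ Ideal.span {x}) := IsRegularLocalRing.spanFinrank_maximalIdeal
  rw [← h1, ← hAdim, hd] at hA'dim
  have : (maximalIdeal (A ⧸ Ideal.span {x})).spanFinrank + 1 = d + 1 := by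
    exact_mod_cast hA'dim
  omega

theorem isRegular_map_of_bijective {A B : Type*} [CommRing A] [CommRing B] (φ : A →+* B)
    (hφ : Function.Bijective φ) (ks : List A) (hks : IsRegular A ks) :
    IsRegular B (ks.map φ) :=
  (AddEquiv.isRegular_congr (e := (RingEquiv.ofBijective φ hφ).toAddEquiv) (as := ks)
    (bs := ks.map φ) (List.forall₂_map_right_iff.mpr
      (List.forall₂_same.mpr fun r _ x => by
        change φ (r * x) = φ r * φ x
        exact map_mul φ r x))).1 hks

/-- Surjection of regular local rings: regular ideals containing the kernel map to regular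
ideals. -/
theorem exists_isRegular_map_of_regular :
    ∀ (d : ℕ) (A : Type u) [CommRing A] [IsRegularLocalRing A],
      (maximalIdeal A).spanFinrank = d →
      ∀ (B : Type u) [CommRing B] [IsRegularLocalRing B] (φ : A →+* B),
        Function.Surjective φ → ∀ (K : Ideal A) (ks : List A), RingHom.ker φ ≤ K →
          IsRegular A ks → Ideal.ofList ks = K →
          ∃ cs : List B, IsRegular B cs ∧ Ideal.ofList cs = K.map φ := by
  intro d
  induction d with
  | zero =>
    intro A _ _ h0 B _ _ φ hφ K ks hJK hks hksK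
    have hbot : maximalIdeal A = ⊥ :=
      (Submodule.spanFinrank_eq_zero_iff_eq_bot (maximalIdeal A).fg_of_isNoetherianRing).mp h0
    have hker : RingHom.ker φ = ⊥ :=
      le_bot_iff.mp (hbot ▸ le_maximalIdeal (RingHom.ker_ne_top φ))
    have hbij : Function.Bijective φ := ⟨(RingHom.injective_iff_ker_eq_bot φ).2 hker, hφ⟩
    exact ⟨ks.map φ, isRegular_map_of_bijective φ hbij ks hks, by
      rw [← Ideal.map_ofList, hksK]⟩
  | succ d ih =>
    intro A _ _ hd B _ _ φ hφ K ks hJK hks hksK
    by_cases hker : RingHom.ker φ = ⊥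
    · have hbij : Function.Bijective φ := ⟨(RingHom.injective_iff_ker_eq_bot φ).2 hker, hφ⟩
      exact ⟨ks.map φ, isRegular_map_of_bijective φ hbij ks hks, by
        rw [← Ideal.map_ofList, hksK]⟩
    have hregq : IsRegularLocalRing (A ⧸ RingHom.ker φ) :=
      IsRegularLocalRing.of_ringEquiv (RingHom.quotientKerEquivOfSurjective hφ).symm
    obtain ⟨x, hxJ, hx2⟩ :=
      exists_mem_notMem_sq A (RingHom.ker φ) (RingHom.ker_ne_top φ) hker hregq
    have hKtop : K ≠ ⊤ := hksK ▸ ((isRegular_ring_iff _).1 hks).2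
    have hKm : K ≤ maximalIdeal A := le_maximalIdeal hKtop
    have hxK : x ∈ K := hJK hxJ
    have hxm : x ∈ maximalIdeal A := hKm hxK
    have hx' : x ∉ maximalIdeal A * Ideal.ofList ks := by
      intro h
      apply hx2
      rw [pow_two]
      exact Ideal.mul_mono_right (hksK ▸ hKm) h
    obtain ⟨ks', hks', hks'K⟩ := exists_cons_isRegular ks hks x (hksK ▸ hxK) hx'
    rw [hksK] at hks'K
    obtain ⟨hA₁, hμ⟩ := regular_quotient_spanFinrank A x hxm hx2 d hd
    haveI := hA₁
    have hxK' : Ideal.span {x} ≤ K := (Ideal.span_singleton_le_iff_mem _).mpr hxK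
    have hcons := (isWeaklyRegular_cons_iff_quotient x ks').1 hks'.toIsWeaklyRegular
    have hK₁ : K.map (Ideal.Quotient.mk (Ideal.span {x})) =
        Ideal.ofList (ks'.map (Ideal.Quotient.mk (Ideal.span {x}))) := by
      rw [← hks'K, Ideal.ofList_cons, Ideal.map_sup, Ideal.map_quotient_self, bot_sup_eq,
        Ideal.map_ofList]
    have hK₁top : K.map (Ideal.Quotient.mk (Ideal.span {x})) ≠ ⊤ := map_mk_ne_top hxK' hKtop
    have hks₁ : IsRegular (A ⧸ Ideal.span {x})
        (ks'.map (Ideal.Quotient.mk (Ideal.span {x}))) :=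
      (isRegular_ring_iff _).2 ⟨hcons.2, hK₁ ▸ hK₁top⟩
    have hφx : ∀ a : A, a ∈ Ideal.span {x} → φ a = 0 := by
      intro a ha
      have : a ∈ RingHom.ker φ := ((Ideal.span_singleton_le_iff_mem _).mpr hxJ) ha
      exact this
    have hsurj₁ : Function.Surjective (Ideal.Quotient.lift (Ideal.span {x}) φ hφx) :=
      Ideal.Quotient.lift_surjective_of_surjective _ hφx hφ
    have hker₁ : RingHom.ker (Ideal.Quotient.lift (Ideal.span {x}) φ hφx) ≤
        K.map (Ideal.Quotient.mk (Ideal.span {x})) := by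
      intro a₁ ha₁
      obtain ⟨a, rfl⟩ := Ideal.Quotient.mk_surjective a₁
      rw [RingHom.mem_ker, Ideal.Quotient.lift_mk] at ha₁
      exact Ideal.mem_map_of_mem _ (hJK ha₁)
    obtain ⟨cs, hcs, hcsK⟩ := ih (A ⧸ Ideal.span {x}) hμ B
      (Ideal.Quotient.lift (Ideal.span {x}) φ hφx) hsurj₁
      (K.map (Ideal.Quotient.mk (Ideal.span {x})))
      (ks'.map (Ideal.Quotient.mk (Ideal.span {x}))) hker₁ hks₁ hK₁.symm
    refine ⟨cs, hcs, ?_⟩
    rw [hcsK, Ideal.map_map]
    congr 1

/-- Surjection `φ : A → B` of regular local rings, `K ⊇ ker φ`: `K` is generated by a regular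
sequence iff `K·B` is. -/
theorem exists_isRegular_map_iff_of_regular {A B : Type u} [CommRing A] [CommRing B]
    [IsRegularLocalRing A] [IsRegularLocalRing B] (φ : A →+* B) (hφ : Function.Surjective φ)
    (K : Ideal A) (hJK : RingHom.ker φ ≤ K) :
    (∃ ks : List A, IsRegular A ks ∧ Ideal.ofList ks = K) ↔
      ∃ cs : List B, IsRegular B cs ∧ Ideal.ofList cs = K.map φ := by
  constructor
  · rintro ⟨ks, hks, hksK⟩
    exact exists_isRegular_map_of_regular _ A rfl B φ hφ K ks hJK hks hksK
  · rintro ⟨cs, hcs, hcsK⟩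
    haveI hregq : IsRegularLocalRing (A ⧸ RingHom.ker φ) :=
      IsRegularLocalRing.of_ringEquiv (RingHom.quotientKerEquivOfSurjective hφ).symm
    obtain ⟨js, hjs, hjsJ⟩ := (exists_isRegular_iff_isRegularLocalRing A (RingHom.ker φ)
      (RingHom.ker_ne_top φ)).2 inferInstance
    have hγ : RingHom.ker (Ideal.Quotient.mk (K.map φ)) = Ideal.ofList cs := by
      rw [Ideal.mk_ker, hcsK]
    obtain ⟨rs, hrs, hrsK⟩ := (exists_isRegular_ker_iff_comp φ (Ideal.Quotient.mk (K.map φ)) hφ
      ⟨cs, hcs, hγ⟩).1 ⟨js, hjs, hjsJ⟩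
    refine ⟨rs, hrs, ?_⟩
    rw [← hrsK, ← RingHom.comap_ker, Ideal.mk_ker, Ideal.comap_map_of_surjective φ hφ,
      ← RingHom.ker_eq_comap_bot, sup_eq_left.mpr hJK]

end Groth.Agent.H9
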