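import Mathlib.AlgebraicGeometry.IdealSheaf.Functorial
import Mathlib.AlgebraicGeometry.Morphisms.ClosedImmersion

/-!
# The inverse image ideal sheaf on affine opens

`(I.comap f).ideal V = (I.ideal U).map (f.appLE U V e)` for affine opens `V ≤ f⁻¹ U`.
-/

set_option autoImplicit false
universe u

open CategoryTheory CategoryTheory.Limits AlgebraicGeometry TopologicalSpace

namespace Groth.Agent.H9

variable {X Y : Scheme.{u}}

theorem appLE_congr_hom {P : Scheme.{u}} {g₁ g₂ : P ⟶ Y} (h : g₁ = g₂) (U : Y.Opens) (W : P.Opens)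
    (e₁ : W ≤ g₁ ⁻¹ᵁ U) (e₂ : W ≤ g₂ ⁻¹ᵁ U) : g₁.appLE U W e₁ = g₂.appLE U W e₂ := by
  subst h
  rfl

theorem comap_ideal_le (f : X ⟶ Y) (I : Y.IdealSheafData) (U : Y.affineOpens)
    (V : X.affineOpens) (e : V.1 ≤ f ⁻¹ᵁ U.1) :
    (I.comap f).ideal V ≤ (I.ideal U).map (f.appLE U.1 V.1 e).hom := by
  have hV : IsAffineOpen V.1 := V.2
  have hU : IsAffineOpen U.1 := U.2
  set J := (I.ideal U).map (f.appLE U.1 V.1 e).hom with hJ
  let R : CommRingCat.{u} := CommRingCat.of (Γ(X, V.1) ⧸ J)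
  let mkJ : Γ(X, V.1) ⟶ R := CommRingCat.ofHom (Ideal.Quotient.mk J)
  let t : Spec R ⟶ X := Spec.map mkJ ≫ hV.fromSpec
  let q : CommRingCat.of (Γ(Y, U.1) ⧸ I.ideal U) ⟶ R :=
    CommRingCat.ofHom (Ideal.quotientMap J (f.appLE U.1 V.1 e).hom Ideal.le_comap_map)
  let z : Spec R ⟶ I.subscheme := Spec.map q ≫ I.subschemeCover.f U
  have h3 : I.subschemeCover.f U ≫ I.subschemeι =
      Spec.map (CommRingCat.ofHom (Ideal.Quotient.mk (I.ideal U))) ≫ hU.fromSpec :=
    (I.subschemeCover_map_subschemeι U).trans (I.glueDataObjι_ι U)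
  have hcomm : t ≫ f = z ≫ I.subschemeι := by
    calc t ≫ f = Spec.map mkJ ≫ (hV.fromSpec ≫ f) := Category.assoc _ _ _
      _ = Spec.map mkJ ≫ (Spec.map (f.appLE U.1 V.1 e) ≫ hU.fromSpec) := by
          rw [IsAffineOpen.SpecMap_appLE_fromSpec f hU hV e]
      _ = Spec.map q ≫ (Spec.map (CommRingCat.ofHom (Ideal.Quotient.mk (I.ideal U))) ≫
            hU.fromSpec) := by
          rw [← Category.assoc, ← Category.assoc, ← Spec.map_comp, ← Spec.map_comp]
          congr 2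
      _ = Spec.map q ≫ (I.subschemeCover.f U ≫ I.subschemeι) :=
          congrArg (fun m => Spec.map q ≫ m) h3.symm
      _ = z ≫ I.subschemeι := (Category.assoc _ _ _).symm
  let l : Spec R ⟶ pullback f I.subschemeι := pullback.lift t z hcomm
  have hl : l ≫ pullback.fst f I.subschemeι = t := pullback.lift_fst _ _ _
  have hle : I.comap f ≤ t.ker := by
    rw [← hl]
    exact Scheme.Hom.le_ker_comp l (pullback.fst f I.subschemeι)
  intro b hb
  have hb1 : b ∈ RingHom.ker (t.app V.1).hom := t.ideal_ker_le V (hle V hb)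
  have htop : (⊤ : (Spec R).Opens) ≤ t ⁻¹ᵁ V.1 := by
    intro p _
    show t p ∈ V.1
    have : t p ∈ Set.range hV.fromSpec := ⟨Spec.map mkJ p, rfl⟩
    rw [hV.range_fromSpec] at this
    exact this
  have hsharp : t.appLE V.1 ⊤ htop = mkJ ≫ (Scheme.ΓSpecIso R).inv := by
    apply Spec.map_injective
    have h1 := IsAffineOpen.SpecMap_appLE_fromSpec t hV (isAffineOpen_top (Spec R)) htop
    rw [IsAffineOpen.fromSpec_top, Scheme.isoSpec_Spec_inv] at h1
    have h2 : Spec.map (t.appLE V.1 ⊤ htop) ≫ hV.fromSpec =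
        Spec.map (mkJ ≫ (Scheme.ΓSpecIso R).inv) ≫ hV.fromSpec := by
      rw [h1, Spec.map_comp, Category.assoc]
    exact (cancel_mono hV.fromSpec).1 h2
  have hb2 : (t.appLE V.1 ⊤ htop).hom b = 0 := by
    rw [Scheme.Hom.appLE, CommRingCat.hom_comp, RingHom.comp_apply,
      (RingHom.mem_ker).1 hb1, map_zero]
  rw [hsharp, CommRingCat.hom_comp, RingHom.comp_apply] at hb2
  have hinj : Function.Injective (Scheme.ΓSpecIso R).inv.hom :=
    (ConcreteCategory.bijective_of_isIso (Scheme.ΓSpecIso R).inv).1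
  have hb3 : mkJ.hom b = 0 := hinj (by rw [hb2, map_zero])
  exact Ideal.Quotient.eq_zero_iff_mem.1 hb3

theorem comap_ideal_ge (f : X ⟶ Y) (I : Y.IdealSheafData) (U : Y.affineOpens)
    (V : X.affineOpens) (e : V.1 ≤ f ⁻¹ᵁ U.1) :
    (I.ideal U).map (f.appLE U.1 V.1 e).hom ≤ (I.comap f).ideal V := by
  rw [Ideal.map_le_iff_le_comap]
  intro a ha
  rw [Ideal.mem_comap]
  show (f.appLE U.1 V.1 e).hom a ∈ (pullback.fst f I.subschemeι).ker.ideal V
  rw [Scheme.Hom.ker_apply, RingHom.mem_ker]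
  have ha0 : (I.subschemeι.app U.1).hom a = 0 := by
    have : a ∈ RingHom.ker (I.subschemeι.app U.1).hom := by rw [I.ker_subschemeι_app U]; exact ha
    exact this
  set W : (pullback f I.subschemeι).Opens := pullback.fst f I.subschemeι ⁻¹ᵁ V.1 with hW
  have e1 : W ≤ (pullback.fst f I.subschemeι ≫ f) ⁻¹ᵁ U.1 := fun _ hx => e hx
  have e2 : W ≤ (pullback.snd f I.subschemeι ≫ I.subschemeι) ⁻¹ᵁ U.1 := by
    rw [← pullback.condition]; exact e1
  have e3 : W ≤ pullback.snd f I.subschemeι ⁻¹ᵁ (I.subschemeι ⁻¹ᵁ U.1) := e2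
  have h1 : f.appLE U.1 V.1 e ≫ (pullback.fst f I.subschemeι).app V.1 =
      I.subschemeι.app U.1 ≫ (pullback.snd f I.subschemeι).appLE (I.subschemeι ⁻¹ᵁ U.1) W e3 := by
    rw [Scheme.Hom.app_eq_appLE, Scheme.Hom.appLE_comp_appLE, Scheme.Hom.app_eq_appLE,
      Scheme.Hom.appLE_comp_appLE]
    exact appLE_congr_hom pullback.condition _ _ _ _
  have h2 := congrArg (fun g => g.hom a) h1
  simp only [CommRingCat.hom_comp, RingHom.comp_apply] at h2
  rw [h2, ha0, map_zero]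

/-- The inverse image ideal sheaf on affine opens. -/
theorem comap_ideal (f : X ⟶ Y) (I : Y.IdealSheafData) (U : Y.affineOpens)
    (V : X.affineOpens) (e : V.1 ≤ f ⁻¹ᵁ U.1) :
    (I.comap f).ideal V = (I.ideal U).map (f.appLE U.1 V.1 e).hom :=
  le_antisymm (comap_ideal_le f I U V e) (comap_ideal_ge f I U V e)

end Groth.Agent.H9
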