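import Mathlib.RingTheory.Regular.RegularSequence
import Mathlib.RingTheory.Regular.Flat
import Mathlib.RingTheory.Localization.Ideal
import Mathlib.RingTheory.Localization.AtPrime.Basic
import Mathlib.RingTheory.Localization.Away.Basic
import Mathlib.RingTheory.Noetherian.Basic

/-!
# Spreading out weakly regular sequences from a localization at a prime

If `R` is Noetherian, `A = R_𝔭`, and `I·A` is generated by a weakly regular sequence of `A`, then
there is `s ∉ 𝔭` such that `I·R_s` is generated by a weakly regular sequence of `R_s`.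
-/

set_option autoImplicit false

universe u v

open RingTheory.Sequence

namespace Groth.Agent.H9

/-- Ring-level characterisation of weakly regular sequences. -/
theorem isWeaklyRegular_ring_iff {R : Type*} [CommRing R] (rs : List R) :
    IsWeaklyRegular R rs ↔ ∀ (i : ℕ) (h : i < rs.length) (a : R),
      rs[i] * a ∈ Ideal.ofList (rs.take i) → a ∈ Ideal.ofList (rs.take i) := by
  rw [isWeaklyRegular_iff]
  refine forall_congr' fun i => forall_congr' fun h => ?_
  rw [isSMulRegular_quotient_iff_mem_of_smul_mem]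
  simp only [smul_eq_mul, Ideal.mul_top]

theorem ofList_eq_of_forall₂_unit {A : Type*} [CommRing A] {as bs : List A}
    (h : List.Forall₂ (fun a b => ∃ u : A, IsUnit u ∧ b = a * u) as bs) :
    Ideal.ofList as = Ideal.ofList bs := by
  induction h with
  | nil => rfl
  | @cons a b as bs hab _ ih =>
    obtain ⟨u, hu, rfl⟩ := hab
    rw [Ideal.ofList_cons, Ideal.ofList_cons, ih, Ideal.span_singleton_mul_right_unit hu]

theorem isWeaklyRegular_of_forall₂_unit {A : Type*} [CommRing A] {as bs : List A}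
    (h : List.Forall₂ (fun a b => ∃ u : A, IsUnit u ∧ b = a * u) as bs)
    (hreg : IsWeaklyRegular A as) : IsWeaklyRegular A bs := by
  rw [isWeaklyRegular_ring_iff] at hreg ⊢
  intro i hi c hc
  have hlen := h.length_eq
  have hi' : i < as.length := hlen ▸ hi
  have htake := ofList_eq_of_forall₂_unit (List.forall₂_take i h)
  obtain ⟨u, hu, hb⟩ := h.get hi' hi
  rw [← htake] at hc ⊢
  have hb' : bs[i] = as[i] * u := by simpa using hb
  rw [hb', mul_assoc] at hc
  have := hreg i hi' (u * c) hc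
  exact (Ideal.unit_mul_mem_iff_mem _ hu).1 this

theorem exists_lift_forall₂_unit {R A : Type*} [CommRing R] [CommRing A] [Algebra R A]
    (M : Submonoid R) [IsLocalization M A] (rs : List A) :
    ∃ rs₀ : List R, List.Forall₂ (fun a b => ∃ u : A, IsUnit u ∧ b = a * u) rs
      (rs₀.map (algebraMap R A)) := by
  induction rs with
  | nil => exact ⟨[], List.Forall₂.nil⟩
  | cons a rs ih =>
    obtain ⟨rs₀, h⟩ := ih
    obtain ⟨⟨r, m⟩, hrm⟩ := IsLocalization.surj M a
    refine ⟨r :: rs₀, ?_⟩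
    rw [List.map_cons]
    exact List.Forall₂.cons ⟨algebraMap R A m, IsLocalization.map_units A m, hrm.symm⟩ h

/-- If `J·A ⊆ J'·A` in a localization `A = M⁻¹R` and `J` is finitely generated, a single element of
`M` multiplies `J` into `J'`. -/
theorem exists_mul_mem_of_map_le {R A : Type*} [CommRing R] [CommRing A] [Algebra R A]
    (M : Submonoid R) [IsLocalization M A] {J J' : Ideal R} (hJ : J.FG)
    (h : J.map (algebraMap R A) ≤ J'.map (algebraMap R A)) :
    ∃ s ∈ M, ∀ x ∈ J, s * x ∈ J' := by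
  classical
  obtain ⟨S, rfl⟩ := hJ
  have h1 : ∀ x ∈ S, ∃ t ∈ M, t * x ∈ J' := by
    intro x hx
    have : algebraMap R A x ∈ J'.map (algebraMap R A) :=
      h (Ideal.mem_map_of_mem _ (Ideal.subset_span hx))
    exact (IsLocalization.algebraMap_mem_map_algebraMap_iff M A J' x).1 this
  choose! t ht htx using h1
  refine ⟨∏ x ∈ S, t x, Submonoid.prod_mem _ (fun x hx => ht x hx), ?_⟩
  intro y hy
  refine Submodule.span_induction (p := fun y _ => (∏ x ∈ S, t x) * y ∈ J') ?_ ?_ ?_ ?_ hy
  · intro x hx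
    have hx' : x ∈ S := hx
    rw [← Finset.mul_prod_erase S t hx', mul_right_comm]
    exact Ideal.mul_mem_right _ _ (htx x hx')
  · simp
  · intro a b _ _ ha hb
    rw [mul_add]; exact J'.add_mem ha hb
  · intro a b _ hb
    rw [smul_eq_mul, mul_left_comm]; exact Ideal.mul_mem_left _ _ hb

theorem map_le_map_of_isUnit_of_mul_mem {R S : Type*} [CommRing R] [CommRing S] [Algebra R S]
    {J J' : Ideal R} (t : R) (ht : IsUnit (algebraMap R S t)) (h : ∀ x ∈ J, t * x ∈ J') :
    J.map (algebraMap R S) ≤ J'.map (algebraMap R S) := by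
  rw [Ideal.map_le_iff_le_comap]
  intro x hx
  rw [Ideal.mem_comap]
  have := Ideal.mem_map_of_mem (algebraMap R S) (h x hx)
  rw [map_mul] at this
  exact (Ideal.unit_mul_mem_iff_mem _ ht).1 this

/-- Spreading out a weakly regular generating sequence from `R_𝔭` to some `R_s`, `s ∉ 𝔭`. -/
theorem exists_away_isWeaklyRegular {R : Type u} {A : Type*} [CommRing R] [IsNoetherianRing R]
    [CommRing A] [Algebra R A] (p : Ideal R) [p.IsPrime] [IsLocalization.AtPrime A p]
    (I : Ideal R) (rs : List A) (hreg : IsWeaklyRegular A rs)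
    (hI : I.map (algebraMap R A) = Ideal.ofList rs) :
    ∃ s : R, s ∉ p ∧ ∀ (S : Type v) [CommRing S] [Algebra R S] [IsLocalization.Away s S],
      ∃ rs' : List S, IsWeaklyRegular S rs' ∧ I.map (algebraMap R S) = Ideal.ofList rs' := by
  classical
  obtain ⟨rs₀, h₀⟩ := exists_lift_forall₂_unit p.primeCompl rs
  have hreg₀ : IsWeaklyRegular A (rs₀.map (algebraMap R A)) :=
    isWeaklyRegular_of_forall₂_unit h₀ hreg
  have hI₀ : I.map (algebraMap R A) = (Ideal.ofList rs₀).map (algebraMap R A) := by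
    rw [hI, Ideal.map_ofList, ofList_eq_of_forall₂_unit h₀]
  obtain ⟨s₁, hs₁, hs₁'⟩ :=
    exists_mul_mem_of_map_le (A := A) p.primeCompl (IsNoetherian.noetherian I) hI₀.le
  obtain ⟨s₂, hs₂, hs₂'⟩ :=
    exists_mul_mem_of_map_le (A := A) p.primeCompl (IsNoetherian.noetherian (Ideal.ofList rs₀)) hI₀.ge
  rw [isWeaklyRegular_ring_iff] at hreg₀
  have hcol : ∀ i : Fin rs₀.length, ∃ t ∈ p.primeCompl, ∀ a : R,
      rs₀[i] * a ∈ Ideal.ofList (rs₀.take i) → t * a ∈ Ideal.ofList (rs₀.take i) := by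
    intro i
    let K : Ideal R := Submodule.comap (LinearMap.mulLeft R (rs₀[i])) (Ideal.ofList (rs₀.take i))
    have hK : K.map (algebraMap R A) ≤ (Ideal.ofList (rs₀.take i)).map (algebraMap R A) := by
      rw [Ideal.map_le_iff_le_comap]
      intro a ha
      have ha' : rs₀[i] * a ∈ Ideal.ofList (rs₀.take i) := ha
      rw [Ideal.mem_comap, Ideal.map_ofList, List.map_take]
      have hi : (i : ℕ) < (rs₀.map (algebraMap R A)).length := by simpa using i.2
      apply hreg₀ i hi
      rw [List.getElem_map, ← map_mul, ← List.map_take, ← Ideal.map_ofList]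
      exact Ideal.mem_map_of_mem _ ha'
    obtain ⟨t, ht, ht'⟩ :=
      exists_mul_mem_of_map_le (A := A) p.primeCompl (IsNoetherian.noetherian K) hK
    exact ⟨t, ht, fun a ha => ht' a ha⟩
  choose t ht ht' using hcol
  obtain ⟨s, hs⟩ : ∃ s, s = s₁ * s₂ * ∏ i, t i := ⟨_, rfl⟩
  refine ⟨s, ?_, ?_⟩
  · rw [hs]
    exact p.primeCompl.mul_mem (p.primeCompl.mul_mem hs₁ hs₂)
      (Submonoid.prod_mem _ fun i _ => ht i)
  intro S _ _ _
  have hsu : IsUnit (algebraMap R S s) := IsLocalization.Away.algebraMap_isUnit s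
  have hdvd : ∀ d, d ∣ s → IsUnit (algebraMap R S d) := fun d hd =>
    isUnit_of_dvd_unit (map_dvd (algebraMap R S) hd) hsu
  have hd₁ : s₁ ∣ s := ⟨s₂ * ∏ i, t i, by rw [hs, mul_assoc]⟩
  have hd₂ : s₂ ∣ s := ⟨s₁ * ∏ i, t i, by rw [hs]; ring⟩
  have hdt : ∀ i, t i ∣ s := fun i => by
    rw [hs]; exact (Finset.dvd_prod_of_mem t (Finset.mem_univ i)).mul_left _
  refine ⟨rs₀.map (algebraMap R S), ?_, ?_⟩
  · rw [isWeaklyRegular_ring_iff]
    intro i hi a' ha'
    have hi₀ : i < rs₀.length := by simpa using hi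
    obtain ⟨⟨a, m⟩, ham⟩ := IsLocalization.surj (Submonoid.powers s) a'
    have ham' : a' * algebraMap R S m = algebraMap R S a := ham
    have hmu : IsUnit (algebraMap R S m) := IsLocalization.map_units S m
    rw [← List.map_take, ← Ideal.map_ofList] at ha' ⊢
    rw [List.getElem_map] at ha'
    have h1 : algebraMap R S (rs₀[i] * a) ∈
        (Ideal.ofList (rs₀.take i)).map (algebraMap R S) := by
      rw [map_mul, ← ham', ← mul_assoc]
      exact Ideal.mul_mem_right _ _ ha'
    obtain ⟨m', hm', hm'a⟩ :=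
      (IsLocalization.algebraMap_mem_map_algebraMap_iff (Submonoid.powers s) S _ _).1 h1
    have h2 : rs₀[i] * (m' * a) ∈ Ideal.ofList (rs₀.take i) := by rwa [mul_left_comm]
    have h3 := ht' ⟨i, hi₀⟩ (m' * a) h2
    have h4 : algebraMap R S (t ⟨i, hi₀⟩) * (algebraMap R S m' * algebraMap R S a) ∈
        (Ideal.ofList (rs₀.take i)).map (algebraMap R S) := by
      rw [← map_mul, ← map_mul]; exact Ideal.mem_map_of_mem _ h3
    have hm'u : IsUnit (algebraMap R S m') :=
      IsLocalization.map_units S (⟨m', hm'⟩ : Submonoid.powers s)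
    have h5 : algebraMap R S a ∈ (Ideal.ofList (rs₀.take i)).map (algebraMap R S) :=
      (Ideal.unit_mul_mem_iff_mem _ hm'u).1 ((Ideal.unit_mul_mem_iff_mem _ (hdvd _ (hdt _))).1 h4)
    rw [← ham'] at h5
    exact (Ideal.mul_unit_mem_iff_mem _ hmu).1 h5
  · rw [← Ideal.map_ofList]
    exact le_antisymm (map_le_map_of_isUnit_of_mul_mem s₁ (hdvd s₁ hd₁) hs₁')
      (map_le_map_of_isUnit_of_mul_mem s₂ (hdvd s₂ hd₂) hs₂')

end Groth.Agent.H9
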