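import Groth.Prelude.Def_Mor2
import Mathlib.AlgebraicGeometry.Morphisms.Flat
import Mathlib.AlgebraicGeometry.Morphisms.ClosedImmersion
import Mathlib.AlgebraicGeometry.IdealSheaf.Basic
import Mathlib.RingTheory.Regular.Flat

/-!
# Helpers for regular closed immersions (`Mor2.IsRegularClosedImmersion`)
-/

set_option autoImplicit false
universe u

open CategoryTheory AlgebraicGeometry TopologicalSpace RingTheory.Sequence

namespace Groth.Agent.H9

variable {X : Scheme.{u}}

/-- The kernel ideal of a quasi-compact morphism on an affine open meeting the image is proper. -/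
theorem ker_ideal_ne_top {Z : Scheme.{u}} (i : Z ⟶ X) [QuasiCompact i] (W : X.affineOpens) (z : Z)
    (hz : i z ∈ W.1) : i.ker.ideal W ≠ ⊤ := by
  intro h
  rw [Scheme.Hom.ker_apply] at h
  have h1 : (1 : Γ(X, W.1)) ∈ RingHom.ker (i.app W.1).hom := h ▸ Submodule.mem_top
  rw [RingHom.mem_ker, map_one] at h1
  have hz' : z ∈ i ⁻¹ᵁ W.1 := hz
  have h2 : Z.presheaf.germ (i ⁻¹ᵁ W.1) z hz' 1 = Z.presheaf.germ (i ⁻¹ᵁ W.1) z hz' 0 := by
    rw [h1]
  rw [map_one, map_zero] at h2
  exact one_ne_zero h2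

/-- Restriction between affine opens is flat. -/
theorem flat_res {U W : X.Opens} (hU : IsAffineOpen U) (hW : IsAffineOpen W) (h : W ≤ U) :
    (X.presheaf.map (homOfLE h).op).hom.Flat := by
  have h1 := Scheme.Hom.flat_appLE (𝟙 X) hU hW (show W ≤ (𝟙 X) ⁻¹ᵁ U from h)
  have e : Scheme.Hom.appLE (𝟙 X) U W (show W ≤ (𝟙 X) ⁻¹ᵁ U from h) =
      X.presheaf.map (homOfLE h).op := by
    simp only [Scheme.Hom.appLE, Scheme.Hom.id_app]
    exact Category.id_comp _
  rwa [e] at h1

/-- A presentation of an ideal sheaf by a weakly regular sequence on an affine open restricts to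
smaller affine opens. -/
theorem isWeaklyRegular_restrict (𝓘 : X.IdealSheafData) {U W : X.affineOpens} (h : W.1 ≤ U.1)
    (rs : List Γ(X, U.1)) (hreg : IsWeaklyRegular Γ(X, U.1) rs)
    (hker : 𝓘.ideal U = Ideal.ofList rs) :
    IsWeaklyRegular Γ(X, W.1) (rs.map (X.presheaf.map (homOfLE h).op).hom) ∧
      𝓘.ideal W = Ideal.ofList (rs.map (X.presheaf.map (homOfLE h).op).hom) := by
  constructor
  · have hflat := flat_res U.2 W.2 h
    algebraize [(X.presheaf.map (homOfLE h).op).hom]
    exact hreg.of_flat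
  · have h1 := 𝓘.map_ideal (U := W) (V := U) h
    rw [hker, Ideal.map_ofList] at h1
    exact h1.symm

theorem isRegular_ring_iff {R : Type*} [CommRing R] (rs : List R) :
    IsRegular R rs ↔ IsWeaklyRegular R rs ∧ Ideal.ofList rs ≠ ⊤ := by
  rw [isRegular_iff]
  refine and_congr_right (fun _ => ?_)
  rw [smul_eq_mul, Ideal.mul_top, ne_comm]

end Groth.Agent.H9
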