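import Groth.Agent.H23.RegularLocal
import Groth.Agent.H3.Regular
import Groth.Agent.H9.RegSpread
import Groth.Agent.H9.RegImm

/-!
# Regular local rings and regular sequences

For a Noetherian local ring `A` and a proper ideal `I` with `A ⧸ I` regular: `I` is generated by a
regular sequence iff `A` is regular.
-/

set_option autoImplicit false
universe u

open IsLocalRing RingTheory.Sequence

namespace Groth.Agent.H9

/-- Quotient of a regular local ring by an element of `m \ m²`. -/
theorem regular_quotient_of_notMem_sq (R : Type u) [CommRing R] [IsRegularLocalRing R] (x : R)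
    (hxm : x ∈ maximalIdeal R) (hx2 : x ∉ maximalIdeal R ^ 2) :
    IsRegularLocalRing (R ⧸ Ideal.span {x}) ∧
      ringKrullDim (R ⧸ Ideal.span {x}) + 1 = ringKrullDim R := by
  have hreg : ((maximalIdeal R).spanFinrank : WithBot ℕ∞) = ringKrullDim R :=
    IsRegularLocalRing.spanFinrank_maximalIdeal
  let x' : Fin 1 → maximalIdeal R := fun _ => ⟨x, hxm⟩
  have hli : LinearIndependent (ResidueField R)
      (fun i => (maximalIdeal R).toCotangent (x' i)) := by
    rw [linearIndependent_unique_iff]
    intro h0
    exact hx2 ((Ideal.toCotangent_eq_zero _ _).mp h0)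
  obtain ⟨k, y, hk, hm⟩ := H23.exists_extension x' hli
  have hfr : Module.finrank (ResidueField R) (CotangentSpace R) =
      (maximalIdeal R).spanFinrank :=
    (spanFinrank_maximalIdeal_eq_finrank_cotangentSpace R).symm
  obtain ⟨hQreg, hQdim⟩ :=
    H23.quotient_regular (fun i => (x' i : R)) (fun j => (y j : R)) hm (by
      rw [← hreg, ← hfr, ← hk])
  have hrange : Set.range (fun i : Fin 1 => ((x' i : maximalIdeal R) : R)) = {x} := by
    ext z; simp [x']
  rw [hrange] at hQreg hQdim
  refine ⟨hQreg, ?_⟩
  rw [hQdim, ← hreg, ← hfr, ← hk, Nat.cast_add, Nat.cast_one, add_comm]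

theorem isWeaklyRegular_cons_of_quotient {A : Type*} [CommRing A] (x : A) (rs : List A)
    (hx : ∀ a, x * a = 0 → a = 0)
    (h : IsWeaklyRegular (A ⧸ Ideal.span {x}) (rs.map (Ideal.Quotient.mk (Ideal.span {x})))) :
    IsWeaklyRegular A (x :: rs) := by
  rw [isWeaklyRegular_ring_iff] at h ⊢
  intro i hi a ha
  cases i with
  | zero =>
    simp only [List.take_zero, Ideal.ofList_nil, Ideal.mem_bot, List.getElem_cons_zero] at ha ⊢
    exact hx a ha
  | succ i =>
    have hi' : i < rs.length := by simpa using hi
    simp only [List.take_succ_cons, Ideal.ofList_cons, List.getElem_cons_succ] at ha ⊢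
    have hmap : ∀ J : Ideal A, (Ideal.span {x} ⊔ J).map (Ideal.Quotient.mk (Ideal.span {x})) =
        J.map (Ideal.Quotient.mk (Ideal.span {x})) := by
      intro J
      rw [Ideal.map_sup, Ideal.map_quotient_self, bot_sup_eq]
    have h1 : Ideal.Quotient.mk (Ideal.span {x}) (rs[i] * a) ∈
        (Ideal.ofList (rs.take i)).map (Ideal.Quotient.mk (Ideal.span {x})) := by
      rw [← hmap]; exact Ideal.mem_map_of_mem _ ha
    have hi'' : i < (rs.map (Ideal.Quotient.mk (Ideal.span {x}))).length := by simpa using hi'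
    have h2 := h i hi'' (Ideal.Quotient.mk (Ideal.span {x}) a) (by
      rw [List.getElem_map, ← map_mul, ← List.map_take, ← Ideal.map_ofList]; exact h1)
    rw [← List.map_take, ← Ideal.map_ofList] at h2
    have h3 : a ∈ ((Ideal.ofList (rs.take i)).map (Ideal.Quotient.mk (Ideal.span {x}))).comap
        (Ideal.Quotient.mk (Ideal.span {x})) := h2
    rw [Ideal.comap_map_of_surjective _ Ideal.Quotient.mk_surjective, ← RingHom.ker_eq_comap_bot,
      Ideal.mk_ker] at h3
    rw [sup_comm]; exact h3

/-- If `A ⧸ (rs)` is regular for a weakly regular sequence `rs` generating a proper ideal,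
then `A` is regular. -/
theorem isRegularLocalRing_of_quotient_ofList {A : Type u} [CommRing A] [IsLocalRing A]
    [IsNoetherianRing A] :
    ∀ (n : ℕ) (rs : List A), rs.length = n → IsWeaklyRegular A rs → Ideal.ofList rs ≠ ⊤ →
      IsRegularLocalRing (A ⧸ Ideal.ofList rs) → IsRegularLocalRing A := by
  intro n
  induction n with
  | zero =>
    intro rs hlen _ _ hreg
    have : rs = [] := List.length_eq_zero_iff.mp hlen
    subst this
    have e : (A ⧸ Ideal.ofList ([] : List A)) ≃+* A :=
      (Ideal.quotEquivOfEq Ideal.ofList_nil).trans (RingEquiv.quotientBot A)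
    exact IsRegularLocalRing.of_ringEquiv e
  | succ n ih =>
    intro rs hlen hwr htop hreg
    obtain ⟨rs', r, rfl⟩ : ∃ rs' r, rs = rs' ++ [r] := by
      have hne : rs ≠ [] := by rintro rfl; simp at hlen
      exact ⟨rs.dropLast, rs.getLast hne, (List.dropLast_append_getLast hne).symm⟩
    have hlen' : rs'.length = n := by simpa using hlen
    rw [isWeaklyRegular_ring_iff] at hwr
    have hwr' : IsWeaklyRegular A rs' := by
      rw [isWeaklyRegular_ring_iff]
      intro i hi a ha
      have hi2 : i < (rs' ++ [r]).length := by simp; omega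
      have h := hwr i hi2 a
      rw [List.getElem_append_left hi, List.take_append_of_le_length hi.le] at h
      exact h ha
    have hr : ∀ a, r * a ∈ Ideal.ofList rs' → a ∈ Ideal.ofList rs' := by
      intro a ha
      have hi2 : rs'.length < (rs' ++ [r]).length := by simp
      have h := hwr rs'.length hi2 a
      simp only [List.getElem_concat_length, List.take_left'] at h
      exact h ha
    have hJtop : Ideal.ofList rs' ≠ ⊤ := fun h =>
      htop (by rw [Ideal.ofList_append, h, top_sup_eq])
    haveI : Nontrivial (A ⧸ Ideal.ofList rs') := Ideal.Quotient.nontrivial_iff.mpr hJtop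
    haveI : IsLocalRing (A ⧸ Ideal.ofList rs') :=
      IsLocalRing.of_surjective' (Ideal.Quotient.mk _) Ideal.Quotient.mk_surjective
    haveI hloc : IsLocalHom (Ideal.Quotient.mk (Ideal.ofList rs')) :=
      IsLocalHom.of_surjective _ Ideal.Quotient.mk_surjective
    have hrm : r ∈ maximalIdeal A := by
      have : Ideal.ofList (rs' ++ [r]) ≤ maximalIdeal A := le_maximalIdeal htop
      exact this (Ideal.subset_span (by simp))
    have hrm' : Ideal.Quotient.mk (Ideal.ofList rs') r ∈
        maximalIdeal (A ⧸ Ideal.ofList rs') := by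
      rw [mem_maximalIdeal, mem_nonunits_iff, isUnit_map_iff]
      exact (mem_maximalIdeal r).1 hrm
    have hnzd : Ideal.Quotient.mk (Ideal.ofList rs') r ∈
        nonZeroDivisors (A ⧸ Ideal.ofList rs') := by
      rw [mem_nonZeroDivisors_iff_right]
      intro b hb
      obtain ⟨a, rfl⟩ := Ideal.Quotient.mk_surjective b
      rw [← map_mul, Ideal.Quotient.eq_zero_iff_mem] at hb
      rw [Ideal.Quotient.eq_zero_iff_mem]
      exact hr a (by rwa [mul_comm])
    have hspan : (Ideal.span {r}).map (Ideal.Quotient.mk (Ideal.ofList rs')) =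
        Ideal.span {Ideal.Quotient.mk (Ideal.ofList rs') r} := by
      rw [Ideal.map_span, Set.image_singleton]
    have e1 : (A ⧸ Ideal.ofList rs') ⧸ Ideal.span {Ideal.Quotient.mk (Ideal.ofList rs') r} ≃+*
        A ⧸ Ideal.ofList (rs' ++ [r]) :=
      (Ideal.quotEquivOfEq hspan.symm).trans
        ((DoubleQuot.quotQuotEquivQuotSup (Ideal.ofList rs') (Ideal.span {r})).trans
          (Ideal.quotEquivOfEq (by rw [Ideal.ofList_append, Ideal.ofList_singleton])))
    haveI : IsRegularLocalRing
        ((A ⧸ Ideal.ofList rs') ⧸ Ideal.span {Ideal.Quotient.mk (Ideal.ofList rs') r}) :=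
      IsRegularLocalRing.of_ringEquiv e1.symm
    have hB : IsRegularLocalRing (A ⧸ Ideal.ofList rs') :=
      H3.isRegularLocalRing_of_quotient (A ⧸ Ideal.ofList rs') _ hrm' hnzd
    exact ih rs' hlen' hwr' hJtop hB

/-- If `A` and `A ⧸ I` are regular local rings, `I` is generated by a weakly regular sequence. -/
theorem exists_isWeaklyRegular_of_regular_quotient :
    ∀ (d : ℕ) (A : Type u) [CommRing A] [IsRegularLocalRing A],
      (maximalIdeal A).spanFinrank = d → ∀ I : Ideal A, I ≠ ⊤ → IsRegularLocalRing (A ⧸ I) →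
        ∃ rs : List A, IsWeaklyRegular A rs ∧ I = Ideal.ofList rs := by
  intro d
  induction d with
  | zero =>
    intro A _ _ h0 I hI _
    have hbot : maximalIdeal A = ⊥ :=
      (Submodule.spanFinrank_eq_zero_iff_eq_bot (maximalIdeal A).fg_of_isNoetherianRing).mp h0
    have : I = ⊥ := le_bot_iff.mp (hbot ▸ le_maximalIdeal hI)
    exact ⟨[], IsWeaklyRegular.nil A A, by rw [this, Ideal.ofList_nil]⟩
  | succ d ih =>
    intro A _ _ hd I hI hB
    classical
    by_cases hI0 : I = ⊥
    · exact ⟨[], IsWeaklyRegular.nil A A, by rw [hI0, Ideal.ofList_nil]⟩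
    have hdom : IsDomain A := H23.isDomain_of_isRegularLocalRing A
    have hAdim : ((maximalIdeal A).spanFinrank : WithBot ℕ∞) = ringKrullDim A :=
      IsRegularLocalRing.spanFinrank_maximalIdeal
    obtain ⟨x, hxI, hx2⟩ : ∃ x ∈ I, x ∉ maximalIdeal A ^ 2 := by
      by_contra hcon
      push Not at hcon
      have hIm2 : I ≤ maximalIdeal A ^ 2 := fun x hx => hcon x hx
      haveI hloc : IsLocalHom (Ideal.Quotient.mk I) :=
        IsLocalHom.of_surjective _ Ideal.Quotient.mk_surjective
      obtain ⟨T, hTcard, hTspan⟩ := Submodule.FG.exists_span_finset_card_eq_spanFinrank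
        (p := maximalIdeal (A ⧸ I)) (maximalIdeal (A ⧸ I)).fg_of_isNoetherianRing
      let g : A ⧸ I → A := Function.surjInv Ideal.Quotient.mk_surjective
      have hg : ∀ b, Ideal.Quotient.mk I (g b) = b := Function.surjInv_eq _
      let S : Finset A := T.image g
      have hSm : (S : Set A) ⊆ maximalIdeal A := by
        intro a ha
        obtain ⟨t, ht, rfl⟩ := Finset.mem_image.mp (Finset.mem_coe.mp ha)
        have htm : t ∈ maximalIdeal (A ⧸ I) := hTspan ▸ Submodule.subset_span ht
        rw [mem_maximalIdeal, mem_nonunits_iff] at htm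
        rw [SetLike.mem_coe, mem_maximalIdeal, mem_nonunits_iff]
        intro hu
        exact htm (hg t ▸ hu.map (Ideal.Quotient.mk I))
      have himg : (Ideal.Quotient.mk I) '' (S : Set A) = (T : Set (A ⧸ I)) := by
        ext b
        simp only [S, Finset.coe_image, Set.mem_image, Finset.mem_coe]
        constructor
        · rintro ⟨_, ⟨t, ht, rfl⟩, rfl⟩
          rwa [hg]
        · intro hb
          exact ⟨g b, ⟨b, hb, rfl⟩, hg b⟩
      have hle : maximalIdeal A ≤ Ideal.span (S : Set A) ⊔ I := by
        intro a ha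
        have h1 : Ideal.Quotient.mk I a ∈
            (Ideal.span (S : Set A)).map (Ideal.Quotient.mk I) := by
          rw [Ideal.map_span, himg]
          change Ideal.Quotient.mk I a ∈ Submodule.span (A ⧸ I) (T : Set (A ⧸ I))
          rw [hTspan, mem_maximalIdeal, mem_nonunits_iff, isUnit_map_iff]
          exact (mem_maximalIdeal a).1 ha
        have h2 : a ∈ ((Ideal.span (S : Set A)).map (Ideal.Quotient.mk I)).comap
            (Ideal.Quotient.mk I) := h1
        rwa [Ideal.comap_map_of_surjective _ Ideal.Quotient.mk_surjective,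
          ← RingHom.ker_eq_comap_bot, Ideal.mk_ker] at h2
      have hle2 : maximalIdeal A ≤ Ideal.span (S : Set A) ⊔ maximalIdeal A • maximalIdeal A :=
        hle.trans (sup_le_sup_left (by rw [smul_eq_mul, ← pow_two]; exact hIm2) _)
      have hmS : maximalIdeal A ≤ Ideal.span (S : Set A) :=
        Submodule.le_of_le_smul_of_le_jacobson_bot (maximalIdeal A).fg_of_isNoetherianRing
          (by rw [jacobson_eq_maximalIdeal ⊥ bot_ne_top]) hle2
      have hmS' : maximalIdeal A = Ideal.span (S : Set A) :=
        le_antisymm hmS (Ideal.span_le.mpr hSm)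
      have h3 : (maximalIdeal A).spanFinrank ≤ (maximalIdeal (A ⧸ I)).spanFinrank := by
        calc (maximalIdeal A).spanFinrank = (Ideal.span (S : Set A)).spanFinrank := by rw [← hmS']
          _ ≤ (S : Set A).ncard :=
            Submodule.spanFinrank_span_le_ncard_of_finite S.finite_toSet
          _ = S.card := Set.ncard_coe_finset S
          _ ≤ T.card := Finset.card_image_le
          _ = (maximalIdeal (A ⧸ I)).spanFinrank := hTcard
      obtain ⟨p, hpI, hp0⟩ := Submodule.exists_mem_ne_zero_of_ne_bot hI0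
      have hpnzd : p ∈ nonZeroDivisors A := mem_nonZeroDivisors_of_ne_zero hp0
      have h4 := ringKrullDim_quotient_succ_le_of_nonZeroDivisor hpnzd
      have hpI' : Ideal.span {p} ≤ I := (Ideal.span_singleton_le_iff_mem _).mpr hpI
      have h5 : ringKrullDim (A ⧸ I) ≤ ringKrullDim (A ⧸ Ideal.span {p}) :=
        ringKrullDim_le_of_surjective (Ideal.Quotient.factor hpI')
          (Ideal.Quotient.factor_surjective hpI')
      have hBdim : ((maximalIdeal (A ⧸ I)).spanFinrank : WithBot ℕ∞) = ringKrullDim (A ⧸ I) :=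
        IsRegularLocalRing.spanFinrank_maximalIdeal
      have h6 : ((maximalIdeal (A ⧸ I)).spanFinrank : WithBot ℕ∞) + 1 ≤
          ((maximalIdeal A).spanFinrank : WithBot ℕ∞) := by
        rw [hBdim, hAdim]
        exact (add_le_add_left h5 1).trans h4
      have h7 : (maximalIdeal (A ⧸ I)).spanFinrank + 1 ≤ (maximalIdeal A).spanFinrank := by
        exact_mod_cast h6
      omega
    have hx0 : x ≠ 0 := fun h => hx2 (h ▸ zero_mem _)
    have hxm : x ∈ maximalIdeal A := le_maximalIdeal hI hxI
    obtain ⟨hA'reg, hA'dim⟩ := regular_quotient_of_notMem_sq A x hxm hx2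
    haveI := hA'reg
    have hμ : (maximalIdeal (A ⧸ Ideal.span {x})).spanFinrank = d := by
      have h1 : ((maximalIdeal (A ⧸ Ideal.span {x})).spanFinrank : WithBot ℕ∞) =
          ringKrullDim (A ⧸ Ideal.span {x}) := IsRegularLocalRing.spanFinrank_maximalIdeal
      rw [← h1, ← hAdim, hd] at hA'dim
      have : (maximalIdeal (A ⧸ Ideal.span {x})).spanFinrank + 1 = d + 1 := by
        exact_mod_cast hA'dim
      omega
    have hxI' : Ideal.span {x} ≤ I := (Ideal.span_singleton_le_iff_mem _).mpr hxI
    have hcm : ∀ J : Ideal A, Ideal.span {x} ≤ J →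
        (J.map (Ideal.Quotient.mk (Ideal.span {x}))).comap (Ideal.Quotient.mk (Ideal.span {x})) =
          J := by
      intro J hJ
      rw [Ideal.comap_map_of_surjective _ Ideal.Quotient.mk_surjective,
        ← RingHom.ker_eq_comap_bot, Ideal.mk_ker, sup_eq_left.mpr hJ]
    have e : (A ⧸ Ideal.span {x}) ⧸ I.map (Ideal.Quotient.mk (Ideal.span {x})) ≃+* A ⧸ I :=
      DoubleQuot.quotQuotEquivQuotOfLE hxI'
    have hI'top : I.map (Ideal.Quotient.mk (Ideal.span {x})) ≠ ⊤ := by
      intro h
      have h2 := congrArg (Ideal.comap (Ideal.Quotient.mk (Ideal.span {x}))) h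
      rw [hcm I hxI', Ideal.comap_top] at h2
      exact hI h2
    have hreg' : IsRegularLocalRing
        ((A ⧸ Ideal.span {x}) ⧸ I.map (Ideal.Quotient.mk (Ideal.span {x}))) :=
      IsRegularLocalRing.of_ringEquiv e.symm
    obtain ⟨rs', hrs', hI'⟩ := ih (A ⧸ Ideal.span {x}) hμ
      (I.map (Ideal.Quotient.mk (Ideal.span {x}))) hI'top hreg'
    let g : A ⧸ Ideal.span {x} → A := Function.surjInv Ideal.Quotient.mk_surjective
    have hg : ∀ b, Ideal.Quotient.mk (Ideal.span {x}) (g b) = b := Function.surjInv_eq _
    have hmapg : (rs'.map g).map (Ideal.Quotient.mk (Ideal.span {x})) = rs' := by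
      rw [List.map_map]
      conv_rhs => rw [← List.map_id rs']
      exact List.map_congr_left (fun b _ => hg b)
    refine ⟨x :: rs'.map g, ?_, ?_⟩
    · apply isWeaklyRegular_cons_of_quotient
      · intro a ha; exact (mul_eq_zero.mp ha).resolve_left hx0
      · rw [hmapg]; exact hrs'
    · rw [Ideal.ofList_cons]
      have h1 : I.map (Ideal.Quotient.mk (Ideal.span {x})) =
          (Ideal.span {x} ⊔ Ideal.ofList (rs'.map g)).map (Ideal.Quotient.mk (Ideal.span {x})) := by
        rw [Ideal.map_sup, Ideal.map_quotient_self, bot_sup_eq, Ideal.map_ofList, hmapg]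
        exact hI'
      have h2 := congrArg (Ideal.comap (Ideal.Quotient.mk (Ideal.span {x}))) h1
      rwa [hcm I hxI', hcm _ le_sup_left] at h2

/-- For a Noetherian local ring `A` and a proper ideal `I` with `A ⧸ I` regular, `I` is generated
by a regular sequence iff `A` is regular. -/
theorem exists_isRegular_iff_isRegularLocalRing (A : Type u) [CommRing A] [IsLocalRing A]
    [IsNoetherianRing A] (I : Ideal A) (hI : I ≠ ⊤) [hB : IsRegularLocalRing (A ⧸ I)] :
    (∃ rs : List A, IsRegular A rs ∧ I = Ideal.ofList rs) ↔ IsRegularLocalRing A := by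
  constructor
  · rintro ⟨rs, hrs, rfl⟩
    exact isRegularLocalRing_of_quotient_ofList rs.length rs rfl hrs.toIsWeaklyRegular hI hB
  · intro hA
    obtain ⟨rs, hwr, hI'⟩ := exists_isWeaklyRegular_of_regular_quotient _ A rfl I hI hB
    exact ⟨rs, (isRegular_ring_iff rs).2 ⟨hwr, hI' ▸ hI⟩, hI'⟩

end Groth.Agent.H9
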