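import Groth.Prelude.Def_BlowUp2
import Mathlib.AlgebraicGeometry.Restrict
import Mathlib.AlgebraicGeometry.IdealSheaf.Functorial

set_option autoImplicit false
universe u

open CategoryTheory CategoryTheory.Limits AlgebraicGeometry TopologicalSpace

namespace Groth.Agent.H9

variable {X : Scheme.{u}}

theorem isEffCartierIdeal_top : BlowUp.IsEffCartierIdeal (⊤ : X.IdealSheafData) := by
  intro x
  obtain ⟨U, hU, hxU, -⟩ := exists_isAffineOpen_mem_and_subset (x := x) (U := ⊤) trivial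
  refine ⟨⟨U, hU⟩, hxU, 1, one_mem _, ?_⟩
  rw [Scheme.IdealSheafData.ideal_top]
  simp

theorem comap_eq_top_of_disjoint (𝓘 : X.IdealSheafData) {Y : Scheme.{u}} (g : Y ⟶ X)
    (h : ∀ y : Y, g y ∉ 𝓘.support) : 𝓘.comap g = ⊤ := by
  rw [← Scheme.IdealSheafData.support_eq_bot_iff, Scheme.IdealSheafData.support_comap]
  ext y
  simp only [Closeds.coe_preimage, Set.mem_preimage, SetLike.mem_coe, Closeds.coe_bot,
    Set.mem_empty_iff_false, iff_false]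
  exact h y

theorem isEffCartierIdeal_comap_of_disjoint (𝓘 : X.IdealSheafData) {Y : Scheme.{u}} (g : Y ⟶ X)
    (h : ∀ y : Y, g y ∉ 𝓘.support) : BlowUp.IsEffCartierIdeal (𝓘.comap g) := by
  rw [comap_eq_top_of_disjoint 𝓘 g h]
  exact isEffCartierIdeal_top

theorem isIso_morphismRestrict_compl_of_isBlowUp {X' : Scheme.{u}} (𝓘 : X.IdealSheafData)
    (b : X' ⟶ X) (hb : BlowUp.IsBlowUp b 𝓘) : IsIso (b ∣_ 𝓘.support.compl) := by
  set V : X.Opens := 𝓘.support.compl with hV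
  have hVmem : ∀ x : X, x ∈ V ↔ x ∉ 𝓘.support := fun x => Iff.rfl
  -- the section over V
  obtain ⟨s, hs, -⟩ := hb.2 V V.ι (isEffCartierIdeal_comap_of_disjoint 𝓘 V.ι (fun y => (hVmem _).1 y.2))
  have hrange : Set.range s ⊆ Set.range (b ⁻¹ᵁ V).ι := by
    rintro _ ⟨v, rfl⟩
    rw [Scheme.Opens.range_ι]
    show b (s v) ∈ V
    have : b (s v) = V.ι v := by
      rw [← hs]; rfl
    rw [this]
    exact v.2
  let t : (V : Scheme.{u}) ⟶ (b ⁻¹ᵁ V : X'.Opens) := IsOpenImmersion.lift (b ⁻¹ᵁ V).ι s hrange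
  have ht : t ≫ (b ⁻¹ᵁ V).ι = s := IsOpenImmersion.lift_fac _ _ _
  have h1 : t ≫ (b ∣_ V) = 𝟙 _ := by
    rw [← cancel_mono V.ι, Category.assoc, morphismRestrict_ι, ← Category.assoc, ht, hs,
      Category.id_comp]
  have h2 : (b ∣_ V) ≫ t = 𝟙 _ := by
    rw [← cancel_mono (b ⁻¹ᵁ V).ι, Category.assoc, ht, Category.id_comp]
    have hY : BlowUp.IsEffCartierIdeal (𝓘.comap ((b ⁻¹ᵁ V).ι ≫ b)) := by
      apply isEffCartierIdeal_comap_of_disjoint
      intro y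
      exact (hVmem _).1 y.2
    obtain ⟨u, -, hu⟩ := hb.2 _ ((b ⁻¹ᵁ V).ι ≫ b) hY
    have e1 : ((b ∣_ V) ≫ s) ≫ b = (b ⁻¹ᵁ V).ι ≫ b := by
      rw [Category.assoc, hs, morphismRestrict_ι]
    rw [hu ((b ∣_ V) ≫ s) e1, hu (b ⁻¹ᵁ V).ι rfl]
  exact ⟨t, h2, h1⟩

end Groth.Agent.H9
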