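import Mathlib.RingTheory.Flat.Tensor
import Mathlib.RingTheory.Flat.Equalizer
import Mathlib.LinearAlgebra.TensorProduct.RightExactness
import Mathlib.RingTheory.RingHom.Flat
import Mathlib.RingTheory.Ideal.Quotient.Operations

/-!
# Extensions of flat modules are flat; quotient by a product of nonzerodivisors
-/

set_option autoImplicit false

open TensorProduct LinearMap

namespace Groth.Agent.H9

/-- An extension of a flat module by a flat module is flat. -/
theorem flat_of_exact {R M' M M'' : Type*} [CommRing R] [AddCommGroup M'] [Module R M']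
    [AddCommGroup M] [Module R M] [AddCommGroup M''] [Module R M'']
    (i : M' →ₗ[R] M) (p : M →ₗ[R] M'') (hi : Function.Injective i) (hp : Function.Surjective p)
    (hex : Function.Exact i p) [Module.Flat R M'] [Module.Flat R M''] : Module.Flat R M := by
  rw [Module.Flat.iff_rTensor_injective']
  intro I
  rw [injective_iff_map_eq_zero]
  intro x hx
  -- image in `I ⊗ M''` vanishes
  have h1 : (I.subtype.rTensor M'') (p.lTensor I x) = 0 := by
    have : (I.subtype.rTensor M'') (p.lTensor I x) = p.lTensor R (I.subtype.rTensor M x) := by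
      rw [← LinearMap.comp_apply, ← LinearMap.comp_apply, LinearMap.rTensor_comp_lTensor,
        LinearMap.lTensor_comp_rTensor]
    rw [this, hx, map_zero]
  have h2 : p.lTensor I x = 0 :=
    (injective_iff_map_eq_zero _).1
      ((Module.Flat.iff_rTensor_injective' (R := R) (M := M'')).1 inferInstance I) _ h1
  obtain ⟨y, rfl⟩ := (lTensor_exact I hex hp _).1 h2
  have h3 : i.lTensor R (I.subtype.rTensor M' y) = 0 := by
    have : i.lTensor R (I.subtype.rTensor M' y) = I.subtype.rTensor M (i.lTensor I y) := by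
      rw [← LinearMap.comp_apply, ← LinearMap.comp_apply, LinearMap.rTensor_comp_lTensor,
        LinearMap.lTensor_comp_rTensor]
    rw [this, hx]
  have h4 : I.subtype.rTensor M' y = 0 :=
    (injective_iff_map_eq_zero _).1
      (Module.Flat.lTensor_preserves_injective_linearMap (M := R) i hi) _ h3
  have h5 : y = 0 :=
    (injective_iff_map_eq_zero _).1
      ((Module.Flat.iff_rTensor_injective' (R := R) (M := M')).1 inferInstance I) _ h4
  rw [h5, map_zero]

/-- If `B/(t₁)` and `B/(t₂)` are flat over `A` and `t₁` is a nonzerodivisor, then `B/(t₁t₂)` is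
flat over `A`. -/
theorem flat_quot_mul {A B : Type*} [CommRing A] [CommRing B] [Algebra A B] (t₁ t₂ : B)
    (h₁ : t₁ ∈ nonZeroDivisors B)
    [Module.Flat A (B ⧸ Ideal.span {t₁})] [Module.Flat A (B ⧸ Ideal.span {t₂})] :
    Module.Flat A (B ⧸ Ideal.span {t₁ * t₂}) := by
  have hle : (Ideal.span {t₂} : Ideal B) ≤
      Submodule.comap (LinearMap.mulLeft B t₁) (Ideal.span {t₁ * t₂} : Ideal B) := by
    intro b hb
    obtain ⟨c, rfl⟩ := Ideal.mem_span_singleton'.1 hb
    show t₁ * (c * t₂) ∈ Ideal.span {t₁ * t₂}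
    exact Ideal.mem_span_singleton'.2 ⟨c, by ring⟩
  have hle' : (Ideal.span {t₁ * t₂} : Ideal B) ≤
      Submodule.comap (LinearMap.id : B →ₗ[B] B) (Ideal.span {t₁} : Ideal B) := by
    intro b hb
    obtain ⟨c, rfl⟩ := Ideal.mem_span_singleton'.1 hb
    show c * (t₁ * t₂) ∈ Ideal.span {t₁}
    exact Ideal.mem_span_singleton'.2 ⟨c * t₂, by ring⟩
  let i : (B ⧸ Ideal.span {t₂}) →ₗ[A] (B ⧸ Ideal.span {t₁ * t₂}) :=
    (Submodule.mapQ _ _ (LinearMap.mulLeft B t₁) hle).restrictScalars A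
  let p : (B ⧸ Ideal.span {t₁ * t₂}) →ₗ[A] (B ⧸ Ideal.span {t₁}) :=
    (Submodule.mapQ _ _ (LinearMap.id : B →ₗ[B] B) hle').restrictScalars A
  have hi_mk : ∀ b : B, i (Ideal.Quotient.mk _ b) = Ideal.Quotient.mk _ (t₁ * b) := fun b => rfl
  have hp_mk : ∀ b : B, p (Ideal.Quotient.mk _ b) = Ideal.Quotient.mk _ b := fun b => rfl
  refine flat_of_exact i p ?_ ?_ ?_
  · rw [injective_iff_map_eq_zero]
    intro x hx
    obtain ⟨b, rfl⟩ := Ideal.Quotient.mk_surjective x
    rw [hi_mk, Ideal.Quotient.eq_zero_iff_mem] at hx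
    obtain ⟨c, hc⟩ := Ideal.mem_span_singleton'.1 hx
    have : t₁ * (c * t₂) = t₁ * b := by rw [← hc]; ring
    have hb : c * t₂ = b := by
      have h0 : t₁ * (c * t₂ - b) = 0 := by rw [mul_sub, this, sub_self]
      have := (mul_left_mem_nonZeroDivisors_eq_zero_iff h₁).1 h0
      exact sub_eq_zero.1 this
    rw [Ideal.Quotient.eq_zero_iff_mem, ← hb]
    exact Ideal.mem_span_singleton'.2 ⟨c, rfl⟩
  · intro y
    obtain ⟨b, rfl⟩ := Ideal.Quotient.mk_surjective y
    exact ⟨Ideal.Quotient.mk _ b, hp_mk b⟩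
  · intro y
    constructor
    · intro hy
      obtain ⟨b, rfl⟩ := Ideal.Quotient.mk_surjective y
      rw [hp_mk, Ideal.Quotient.eq_zero_iff_mem] at hy
      obtain ⟨c, rfl⟩ := Ideal.mem_span_singleton'.1 hy
      exact ⟨Ideal.Quotient.mk _ c, by rw [hi_mk, mul_comm t₁ c]⟩
    · rintro ⟨x, rfl⟩
      obtain ⟨b, rfl⟩ := Ideal.Quotient.mk_surjective x
      rw [hi_mk, hp_mk, Ideal.Quotient.eq_zero_iff_mem]
      exact Ideal.mem_span_singleton'.2 ⟨b, by ring⟩

/-- Ring-hom version of `flat_quot_mul`. -/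
theorem ringHom_flat_quot_mul {A B : Type*} [CommRing A] [CommRing B] (φ : A →+* B) (t₁ t₂ : B)
    (h₁ : t₁ ∈ nonZeroDivisors B)
    (hf₁ : ((Ideal.Quotient.mk (Ideal.span {t₁})).comp φ).Flat)
    (hf₂ : ((Ideal.Quotient.mk (Ideal.span {t₂})).comp φ).Flat) :
    ((Ideal.Quotient.mk (Ideal.span {t₁ * t₂})).comp φ).Flat := by
  algebraize [φ]
  have e : ∀ I : Ideal B, (Ideal.Quotient.mk I).comp φ = algebraMap A (B ⧸ I) := fun I => rfl
  rw [e, RingHom.flat_algebraMap_iff] at hf₁ hf₂ ⊢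
  exact flat_quot_mul t₁ t₂ h₁

end Groth.Agent.H9
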