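import Groth.Prelude.Def_BlowUp2
import Groth.Agent.H9.FlatExt
import Mathlib.AlgebraicGeometry.Morphisms.Flat
import Mathlib.AlgebraicGeometry.Morphisms.ClosedImmersion
import Mathlib.AlgebraicGeometry.IdealSheaf.Subscheme

/-!
# Affine-local API for effective Cartier divisors (`BlowUp.IsEffCartierIdeal`) and flatness of
closed subschemes over a base.
-/

set_option autoImplicit false
universe u

open CategoryTheory CategoryTheory.Limits AlgebraicGeometry TopologicalSpace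

namespace Groth.Agent.H9

variable {X : Scheme.{u}}

/-- The ideal of `𝓘` on the affine open `U` is generated by one nonzerodivisor. -/
def IsPrincipalNZD (𝓘 : X.IdealSheafData) (U : X.affineOpens) : Prop :=
  ∃ t : Γ(X, U.1), t ∈ nonZeroDivisors Γ(X, U.1) ∧ 𝓘.ideal U = Ideal.span {t}

theorem IsPrincipalNZD.basicOpen {𝓘 : X.IdealSheafData} {U : X.affineOpens}
    (h : IsPrincipalNZD 𝓘 U) (g : Γ(X, U.1)) : IsPrincipalNZD 𝓘 (X.affineBasicOpen g) := by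
  obtain ⟨t, ht, h⟩ := h
  haveI := U.2.isLocalization_basicOpen g
  have h1 : algebraMap Γ(X, U.1) Γ(X, X.basicOpen g) t ∈ nonZeroDivisors Γ(X, X.basicOpen g) :=
    IsLocalization.map_nonZeroDivisors_le (Submonoid.powers g) _
      (Submonoid.mem_map_of_mem _ ht)
  refine ⟨(algebraMap Γ(X, U.1) Γ(X, X.basicOpen g) t : Γ(X, X.basicOpen g)), h1, ?_⟩
  rw [← 𝓘.map_ideal_basicOpen U g, h, Ideal.map_span, Set.image_singleton]
  rfl

theorem exists_basicOpen_isPrincipalNZD {𝓘 : X.IdealSheafData} (h : BlowUp.IsEffCartierIdeal 𝓘)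
    (U : X.affineOpens) (x : X) (hx : x ∈ U.1) :
    ∃ g : Γ(X, U.1), x ∈ X.basicOpen g ∧ IsPrincipalNZD 𝓘 (X.affineBasicOpen g) := by
  obtain ⟨U₁, hxU₁, t, ht, hI⟩ := h x
  obtain ⟨g, g₁, hgg, hxg⟩ := exists_basicOpen_le_affine_inter U.2 U₁.2 x ⟨hx, hxU₁⟩
  refine ⟨g, hxg, ?_⟩
  have e : X.affineBasicOpen g = X.affineBasicOpen g₁ := Subtype.ext hgg
  rw [e]
  exact IsPrincipalNZD.basicOpen ⟨t, ht, hI⟩ g₁

theorem exists_affine_isPrincipalNZD {𝓘 : X.IdealSheafData} (h : BlowUp.IsEffCartierIdeal 𝓘)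
    (W : X.Opens) (x : X) (hx : x ∈ W) :
    ∃ U : X.affineOpens, x ∈ U.1 ∧ U.1 ≤ W ∧ IsPrincipalNZD 𝓘 U := by
  obtain ⟨U₀, hU₀, hxU₀, hU₀W⟩ := exists_isAffineOpen_mem_and_subset (x := x) (U := W) hx
  obtain ⟨g₁, hx₁, hp₁⟩ := exists_basicOpen_isPrincipalNZD h ⟨U₀, hU₀⟩ x hxU₀
  exact ⟨X.affineBasicOpen g₁, hx₁, (X.basicOpen_le g₁).trans hU₀W, hp₁⟩

theorem exists_affine_isPrincipalNZD₂ {𝓘₁ 𝓘₂ : X.IdealSheafData}
    (h₁ : BlowUp.IsEffCartierIdeal 𝓘₁) (h₂ : BlowUp.IsEffCartierIdeal 𝓘₂)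
    (W : X.Opens) (x : X) (hx : x ∈ W) :
    ∃ U : X.affineOpens, x ∈ U.1 ∧ U.1 ≤ W ∧ IsPrincipalNZD 𝓘₁ U ∧ IsPrincipalNZD 𝓘₂ U := by
  obtain ⟨U₀, hxU₀, hU₀W, hp₁⟩ := exists_affine_isPrincipalNZD h₁ W x hx
  obtain ⟨g₂, hx₂, hp₂⟩ := exists_basicOpen_isPrincipalNZD h₂ U₀ x hxU₀
  exact ⟨X.affineBasicOpen g₂, hx₂, (X.basicOpen_le g₂).trans hU₀W, hp₁.basicOpen g₂, hp₂⟩

section Flat

variable {S : Scheme.{u}} (f : X ⟶ S) (𝓘 : X.IdealSheafData)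

theorem preimage_le_comp_preimage (V : S.Opens) (U : X.Opens) (e : U ≤ f ⁻¹ᵁ V) :
    𝓘.subschemeι ⁻¹ᵁ U ≤ (𝓘.subschemeι ≫ f) ⁻¹ᵁ V :=
  fun _ hx => e hx

theorem flat_appLE_iff (V : S.affineOpens) (U : X.affineOpens) (e : U.1 ≤ f ⁻¹ᵁ V.1) :
    ((𝓘.subschemeι ≫ f).appLE V.1 (𝓘.subschemeι ⁻¹ᵁ U.1)
        (preimage_le_comp_preimage f 𝓘 V.1 U.1 e)).hom.Flat ↔
      ((Ideal.Quotient.mk (𝓘.ideal U)).comp (f.appLE V.1 U.1 e).hom).Flat := by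
  have h1 : (𝓘.subschemeι ≫ f).appLE V.1 (𝓘.subschemeι ⁻¹ᵁ U.1)
      (preimage_le_comp_preimage f 𝓘 V.1 U.1 e) =
      f.appLE V.1 U.1 e ≫ 𝓘.subschemeι.app U.1 := by
    rw [Scheme.Hom.app_eq_appLE, Scheme.Hom.appLE_comp_appLE]
  rw [h1, 𝓘.subschemeι_app U, CommRingCat.hom_comp, CommRingCat.hom_comp, CommRingCat.hom_ofHom,
    RingHom.comp_assoc]
  exact RingHom.Flat.comp_iff_of_bijective_left
    (𝓘.subschemeObjIso U).commRingCatIsoToRingEquiv.symm.bijective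

/-- If the closed subscheme of `𝓘` is flat over `S`, then `Γ(X,U)/𝓘(U)` is flat over `Γ(S,V)` for all
affine opens `U ⊆ f⁻¹ V`. -/
theorem flat_quotient_of_flat (h : Flat (𝓘.subschemeι ≫ f)) (V : S.affineOpens)
    (U : X.affineOpens) (e : U.1 ≤ f ⁻¹ᵁ V.1) :
    ((Ideal.Quotient.mk (𝓘.ideal U)).comp (f.appLE V.1 U.1 e).hom).Flat := by
  rw [← flat_appLE_iff]
  exact HasRingHomProperty.appLE (P := @Flat) _ h V
    ⟨𝓘.subschemeι ⁻¹ᵁ U.1, U.2.preimage 𝓘.subschemeι⟩ _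

/-- Local criterion for flatness of the closed subscheme of `𝓘` over `S`. -/
theorem flat_of_exists
    (h : ∀ x : X, x ∈ 𝓘.support → ∃ (V : S.affineOpens) (U : X.affineOpens) (_ : x ∈ U.1)
      (e : U.1 ≤ f ⁻¹ᵁ V.1),
      ((Ideal.Quotient.mk (𝓘.ideal U)).comp (f.appLE V.1 U.1 e).hom).Flat) :
    Flat (𝓘.subschemeι ≫ f) := by
  rw [HasRingHomProperty.iff_exists_appLE (P := @Flat)
    (RingHom.Flat.stableUnderComposition.stableUnderCompositionWithLocalizationAway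
      RingHom.Flat.holdsForLocalizationAway).left]
  intro d
  have hd : 𝓘.subschemeι d ∈ 𝓘.support := by
    rw [← SetLike.mem_coe, ← 𝓘.range_subschemeι]
    exact ⟨d, rfl⟩
  obtain ⟨V, U, hxU, e, hflat⟩ := h _ hd
  exact ⟨V, ⟨𝓘.subschemeι ⁻¹ᵁ U.1, U.2.preimage 𝓘.subschemeι⟩, hxU,
    preimage_le_comp_preimage f 𝓘 V.1 U.1 e, (flat_appLE_iff f 𝓘 V U e).2 hflat⟩

end Flat

end Groth.Agent.H9
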