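import Mathlib
import Groth.Agent.H17.BS.Defs
import Groth.Agent.H9.BS_A5
import Groth.Agent.S17753
import Groth.Agent.S0381
import Groth.Agent.S0326
import Groth.Agent.S0327

/-! # (B3) for helper17's S11668–S11670 -/

set_option autoImplicit false
set_option linter.style.haveILetI false
universe u
open Groth.Agent.H17.BS

namespace Groth.Agent.H9.BS

theorem exists_nat_ringKrullDim_eq (T : Type u) [CommRing T] [IsNoetherianRing T]
    [IsLocalRing T] : ∃ D : ℕ, ringKrullDim T = D := by
  have h1 : ringKrullDim T ≠ ⊤ := ringKrullDim_ne_top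
  have h2 : ringKrullDim T ≠ ⊥ := ringKrullDim_ne_bot
  obtain ⟨x, hx⟩ := WithBot.ne_bot_iff_exists.mp h2
  have hx' : x ≠ ⊤ := by
    rintro rfl
    exact h1 hx.symm
  obtain ⟨D, hD⟩ := ENat.ne_top_iff_exists.mp hx'
  exact ⟨D, by rw [← hx, ← hD]; rfl⟩

/-- (B3) -/
theorem ringKrullDim_le_cd_add_dim_quotient (T : Type u) [CommRing T] [IsNoetherianRing T]
    [IsLocalRing T] (J : Ideal T) (hJ : J ≠ ⊤) (k : ℕ) (hk : LocCoh.CdLE T J k) :
    ringKrullDim T ≤ (k : WithBot ℕ∞) + ringKrullDim (T ⧸ J) := by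
  classical
  set m := IsLocalRing.maximalIdeal T with hm
  have hJm : J ≤ m := IsLocalRing.le_maximalIdeal hJ
  haveI : Nontrivial (T ⧸ J) := Ideal.Quotient.nontrivial_iff.mpr hJ
  haveI : IsLocalRing (T ⧸ J) :=
    IsLocalRing.of_surjective' (Ideal.Quotient.mk J) Ideal.Quotient.mk_surjective
  haveI : IsLocalHom (Ideal.Quotient.mk J) :=
    IsLocalHom.of_surjective (Ideal.Quotient.mk J) Ideal.Quotient.mk_surjective
  obtain ⟨D, hD⟩ := exists_nat_ringKrullDim_eq T
  obtain ⟨δ, hδ⟩ := exists_nat_ringKrullDim_eq (T ⧸ J)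
  obtain ⟨f, -, hf⟩ := Groth.Agent.S17753.result (T ⧸ J) δ hδ (IsLocalRing.maximalIdeal (T ⧸ J))
    (Ideal.IsPrime.ne_top inferInstance)
  have hsurj : Function.Surjective (Ideal.Quotient.mk J) := Ideal.Quotient.mk_surjective
  choose g hg using fun i => hsurj (f i)
  let s : Finset T := Finset.image g Finset.univ
  have hcard : s.card ≤ δ := by
    refine (Finset.card_image_le).trans ?_
    simp
  have hspan : (Ideal.span (s : Set T)).map (Ideal.Quotient.mk J) = Ideal.span (Set.range f) := by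
    rw [Ideal.map_span]
    congr 1
    ext y
    simp only [s, Finset.coe_image, Finset.coe_univ, Set.image_univ, Set.mem_image, Set.mem_range]
    constructor
    · rintro ⟨x, ⟨i, rfl⟩, rfl⟩
      exact ⟨i, (hg i).symm⟩
    · rintro ⟨i, rfl⟩
      exact ⟨g i, ⟨i, rfl⟩, hg i⟩
  -- `m ≤ rad (J ⊔ span s)`
  have hle : m ≤ (J ⊔ Ideal.span (s : Set T)).radical := by
    intro x hx
    have hx' : Ideal.Quotient.mk J x ∈ IsLocalRing.maximalIdeal (T ⧸ J) := by
      rw [IsLocalRing.mem_maximalIdeal, mem_nonunits_iff] at hx ⊢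
      intro hu
      exact hx ((isUnit_map_iff (Ideal.Quotient.mk J) x).mp hu)
    have hx'' : Ideal.Quotient.mk J x ∈ (Ideal.span (Set.range f)).radical := by
      rw [← hf]
      exact Ideal.le_radical hx'
    obtain ⟨n, hn⟩ := hx''
    refine ⟨n, ?_⟩
    rw [← hspan, ← map_pow] at hn
    have h2 : x ^ n ∈ ((Ideal.span (s : Set T)).map (Ideal.Quotient.mk J)).comap
        (Ideal.Quotient.mk J) := hn
    rw [Ideal.comap_map_of_surjective _ hsurj, ← RingHom.ker_eq_comap_bot, Ideal.mk_ker] at h2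
    rw [sup_comm]
    exact h2
  have hsm : Ideal.span (s : Set T) ≤ m := by
    rw [Ideal.span_le]
    intro x hx
    simp only [s, Finset.coe_image, Finset.coe_univ, Set.image_univ, Set.mem_range] at hx
    obtain ⟨i, rfl⟩ := hx
    have hfi : f i ∈ IsLocalRing.maximalIdeal (T ⧸ J) := by
      have h1 : f i ∈ (Ideal.span (Set.range f)).radical :=
        Ideal.le_radical (Ideal.subset_span ⟨i, rfl⟩)
      rw [← hf, (Ideal.IsPrime.isRadical inferInstance).radical] at h1
      exact h1
    rw [SetLike.mem_coe, IsLocalRing.mem_maximalIdeal, mem_nonunits_iff]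
    intro hu
    rw [IsLocalRing.mem_maximalIdeal, mem_nonunits_iff] at hfi
    apply hfi
    rw [← hg i]
    exact hu.map _
  have hrad : (J ⊔ Ideal.span (s : Set T)).radical = m.radical := by
    apply le_antisymm
    · exact Ideal.radical_mono (sup_le hJm hsm)
    · rw [(Ideal.IsPrime.isRadical inferInstance).radical]
      exact hle
  have hcd : LocCoh.CdLE T (J ⊔ Ideal.span (s : Set T)) (k + s.card) :=
    Groth.Agent.S0381.result T J _ k s.card hk (Groth.Agent.S0326.result T s)
  have hDle : D ≤ k + s.card := by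
    by_contra hlt
    rw [not_le] at hlt
    have h1 : Subsingleton (LocCoh.H (J ⊔ Ideal.span (s : Set T)) D T) := hcd T D hlt
    have h2 : Subsingleton (LocCoh.H m D T) := subsingleton_of_radical_eq T hrad D T h1
    haveI := Groth.Agent.S0327.result T D hD
    exact not_subsingleton _ h2
  rw [hD, hδ]
  have : D ≤ k + δ := by omega
  exact_mod_cast this

end Groth.Agent.H9.BS
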