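import Mathlib

/-! # (C2) for helper17's S11668–S11670 -/

set_option autoImplicit false
set_option linter.style.haveILetI false
universe u

namespace Groth.Agent.H9.BS

theorem ringKrullDim_quotient_eq_of_radical_eq {R : Type u} [CommRing R] {I J : Ideal R}
    (h : I.radical = J.radical) : ringKrullDim (R ⧸ I) = ringKrullDim (R ⧸ J) := by
  rw [ringKrullDim_quotient, ringKrullDim_quotient, ← PrimeSpectrum.zeroLocus_radical, h,
    PrimeSpectrum.zeroLocus_radical]

/-- (C2) -/
theorem dim_quotient_minimalPrime_le_add_card (R : Type u) [CommRing R] [IsNoetherianRing R]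
    [IsLocalRing R] (a : Ideal R) (ha : a ≠ ⊤) (s : Finset R)
    (hs : (Ideal.span (s : Set R)).radical = a.radical) (p : Ideal R) (hp : p ∈ minimalPrimes R) :
    ringKrullDim (R ⧸ p) ≤ ringKrullDim (R ⧸ a) + (s.card : WithBot ℕ∞) := by
  classical
  haveI hpp : p.IsPrime := hp.1.1
  have ham : a ≤ IsLocalRing.maximalIdeal R := IsLocalRing.le_maximalIdeal ha
  have hsm : Ideal.span (s : Set R) ≤ IsLocalRing.maximalIdeal R := by
    refine Ideal.le_radical.trans ?_
    rw [hs]
    exact (Ideal.IsPrime.radical_le_iff inferInstance).mpr ham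
  haveI : Nontrivial (R ⧸ p) := Ideal.Quotient.nontrivial_iff.mpr hpp.ne_top
  haveI : IsLocalRing (R ⧸ p) :=
    IsLocalRing.of_surjective' (Ideal.Quotient.mk p) Ideal.Quotient.mk_surjective
  let s' : Finset (R ⧸ p) := s.image (Ideal.Quotient.mk p)
  have hs'span : Ideal.span (s' : Set (R ⧸ p)) =
      (Ideal.span (s : Set R)).map (Ideal.Quotient.mk p) := by
    rw [Ideal.map_span]
    congr 1
    simp [s']
  have hs'jac : (s' : Set (R ⧸ p)) ⊆ Ring.jacobson (R ⧸ p) := by
    intro x hx
    rw [IsLocalRing.ringJacobson_eq_maximalIdeal]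
    simp only [s', Finset.coe_image, Set.mem_image] at hx
    obtain ⟨y, hy, rfl⟩ := hx
    have hym : y ∈ IsLocalRing.maximalIdeal R := hsm (Ideal.subset_span hy)
    rw [IsLocalRing.mem_maximalIdeal, mem_nonunits_iff] at hym
    rw [SetLike.mem_coe, IsLocalRing.mem_maximalIdeal, mem_nonunits_iff]
    intro hu
    apply hym
    haveI : IsLocalHom (Ideal.Quotient.mk p) :=
      IsLocalHom.of_surjective (Ideal.Quotient.mk p) Ideal.Quotient.mk_surjective
    exact (isUnit_map_iff (Ideal.Quotient.mk p) y).mp hu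
  have h1 := ringKrullDim_le_ringKrullDim_quotient_add_card s' hs'jac
  have hcard : (s'.card : WithBot ℕ∞) ≤ (s.card : WithBot ℕ∞) := by
    exact_mod_cast Finset.card_image_le
  have h2 : ringKrullDim ((R ⧸ p) ⧸ Ideal.span (s' : Set (R ⧸ p))) ≤ ringKrullDim (R ⧸ a) := by
    rw [hs'span, ringKrullDim_eq_of_ringEquiv (DoubleQuot.quotQuotEquivQuotSup p _),
      ← ringKrullDim_quotient_eq_of_radical_eq hs]
    exact ringKrullDim_le_of_surjective (Ideal.Quotient.factor (le_sup_right))
      (Ideal.Quotient.factor_surjective _)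
  calc ringKrullDim (R ⧸ p)
      ≤ ringKrullDim ((R ⧸ p) ⧸ Ideal.span (s' : Set (R ⧸ p))) + s'.card := h1
    _ ≤ ringKrullDim (R ⧸ a) + (s.card : WithBot ℕ∞) := add_le_add h2 hcard

end Groth.Agent.H9.BS
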