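import Mathlib

/-! # (G1), (G5) for helper17's S3362 -/

set_option autoImplicit false
universe u

namespace Groth.Agent.H9.PS

/-- (G1) -/
theorem isClosed_image_union_pt {U T : Type u} [TopologicalSpace U] [TopologicalSpace T] (ι : U → T)
    (hι : Topology.IsOpenEmbedding ι) (pt : T) (hpt : Set.range ι = {pt}ᶜ)
    (Z : Set U) (hZ : IsClosed Z) : IsClosed (ι '' Z ∪ {pt}) := by
  obtain ⟨C, hC, rfl⟩ := hι.isInducing.isClosed_iff.mp hZ
  have hptc : IsClosed ({pt} : Set T) := by
    rw [← isOpen_compl_iff, ← hpt]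
    exact hι.isOpen_range
  have heq : ι '' (ι ⁻¹' C) ∪ {pt} = C ∪ {pt} := by
    rw [Set.image_preimage_eq_inter_range, hpt]
    ext x
    simp only [Set.mem_union, Set.mem_inter_iff, Set.mem_compl_iff, Set.mem_singleton_iff]
    tauto
  rw [heq]
  exact hC.union hptc

end Groth.Agent.H9.PS
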