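import Mathlib
import Groth.Agent.H9.PS_G1

/-! # (G5) for helper17's S3362 -/

set_option autoImplicit false
universe u

namespace Groth.Agent.H9.PS

/-- (G5) -/
theorem image_union_pt_mem_irreducibleComponents {U T : Type u} [TopologicalSpace U]
    [TopologicalSpace T] (ι : U → T) (hι : Topology.IsOpenEmbedding ι) (pt : T)
    (hpt : Set.range ι = {pt}ᶜ) (hloc : ∀ C : Set T, IsClosed C → C.Nonempty → pt ∈ C)
    (V : Set U) (hV : V ∈ irreducibleComponents U) :
    ι '' V ∪ {pt} ∈ irreducibleComponents T := by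
  have hVirr : IsIrreducible V := hV.1
  have hVcl : IsClosed V := isClosed_of_mem_irreducibleComponents V hV
  have hcl : IsClosed (ι '' V ∪ {pt}) := isClosed_image_union_pt ι hι pt hpt V hVcl
  -- `ι '' V ∪ {pt} = closure (ι '' V)`
  have himg : IsIrreducible (ι '' V) := hVirr.image ι hι.continuous.continuousOn
  have hclos : closure (ι '' V) = ι '' V ∪ {pt} := by
    apply le_antisymm
    · exact closure_minimal Set.subset_union_left hcl
    · apply Set.union_subset subset_closure
      rw [Set.singleton_subset_iff]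
      exact hloc _ isClosed_closure himg.nonempty.closure
  have hirr : IsIrreducible (ι '' V ∪ {pt}) := by
    rw [← hclos]
    exact himg.closure
  refine ⟨hirr, ?_⟩
  intro S hS hle
  -- `ι ⁻¹' S` is irreducible and contains `V`
  have hVS : V ⊆ ι ⁻¹' S := by
    intro v hv
    exact hle (Or.inl ⟨v, hv, rfl⟩)
  have hpre : IsIrreducible (ι ⁻¹' S) := by
    refine ⟨hVirr.nonempty.mono hVS, ?_⟩
    exact hS.isPreirreducible.preimage hι
  have hSV : ι ⁻¹' S ⊆ V := hV.2 hpre hVS
  intro x hx
  by_cases hxpt : x = pt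
  · right; exact hxpt
  · left
    have hxr : x ∈ Set.range ι := by
      rw [hpt]; exact hxpt
    obtain ⟨u, rfl⟩ := hxr
    exact ⟨u, hSV hx, rfl⟩

end Groth.Agent.H9.PS
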