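import Groth.Agent.H9.ComapIdeal
import Groth.Agent.H9.EffCartier

/-!
# Inverse image of products of ideal sheaves; flat pullback of effective Cartier divisors
-/

set_option autoImplicit false
universe u

open CategoryTheory CategoryTheory.Limits AlgebraicGeometry TopologicalSpace

namespace Groth.Agent.H9

variable {X Y : Scheme.{u}}

/-- The affine opens of `X` contained in the preimage of an affine open of `Y` cover `X`. -/
theorem iSup_affine_le_preimage (f : X ⟶ Y) :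
    ⨆ (i : {p : X.affineOpens × Y.affineOpens // p.1.1 ≤ f ⁻¹ᵁ p.2.1}), (i.1.1).1 = ⊤ := by
  rw [eq_top_iff]
  intro x _
  obtain ⟨U, hU, hxU, -⟩ := exists_isAffineOpen_mem_and_subset (x := f x) (U := ⊤) trivial
  obtain ⟨V, hV, hxV, hVU⟩ := exists_isAffineOpen_mem_and_subset (x := x) (U := f ⁻¹ᵁ U) hxU
  exact Opens.mem_iSup.2 ⟨⟨⟨⟨V, hV⟩, ⟨U, hU⟩⟩, hVU⟩, hxV⟩

theorem comap_mul (f : X ⟶ Y) (I J : Y.IdealSheafData) :
    (I * J).comap f = I.comap f * J.comap f := by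
  apply Scheme.IdealSheafData.ext_of_iSup_eq_top
    (fun i : {p : X.affineOpens × Y.affineOpens // p.1.1 ≤ f ⁻¹ᵁ p.2.1} => i.1.1)
    (iSup_affine_le_preimage f)
  rintro ⟨⟨V, U⟩, e⟩
  simp only
  rw [Scheme.IdealSheafData.ideal_mul, Pi.mul_apply, comap_ideal f _ U V e,
    comap_ideal f I U V e, comap_ideal f J U V e, Scheme.IdealSheafData.ideal_mul, Pi.mul_apply,
    Ideal.map_mul]

theorem map_mem_nonZeroDivisors_of_flat {A B : Type*} [CommRing A] [CommRing B] (φ : A →+* B)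
    (hφ : φ.Flat) {t : A} (ht : t ∈ nonZeroDivisors A) : φ t ∈ nonZeroDivisors B := by
  algebraize [φ]
  have h1 : IsSMulRegular A t := by
    rw [← isLeftRegular_iff, isLeftRegular_iff_isRegular, isRegular_iff_mem_nonZeroDivisors]
    exact ht
  have h2 : IsSMulRegular B (algebraMap A B t) := h1.of_flat
  rw [← isLeftRegular_iff, isLeftRegular_iff_isRegular, isRegular_iff_mem_nonZeroDivisors] at h2
  exact h2

/-- The inverse image of an effective Cartier divisor under a flat morphism is an effective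
Cartier divisor. -/
theorem isEffCartierIdeal_comap_of_flat (f : X ⟶ Y) [Flat f] (I : Y.IdealSheafData)
    (h : BlowUp.IsEffCartierIdeal I) : BlowUp.IsEffCartierIdeal (I.comap f) := by
  intro x
  obtain ⟨U, hfxU, t, ht, hI⟩ := h (f x)
  obtain ⟨V, hV, hxV, hVU⟩ := exists_isAffineOpen_mem_and_subset (x := x) (U := f ⁻¹ᵁ U.1) hfxU
  have hflat : (f.appLE U.1 V hVU).hom.Flat :=
    HasRingHomProperty.appLE (P := @Flat) f inferInstance U ⟨V, hV⟩ hVU
  refine ⟨⟨V, hV⟩, hxV, (f.appLE U.1 V hVU).hom t, map_mem_nonZeroDivisors_of_flat _ hflat ht, ?_⟩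
  rw [comap_ideal f I U ⟨V, hV⟩ hVU, hI, Ideal.map_span, Set.image_singleton]

/-- The product of two effective Cartier divisors is an effective Cartier divisor. -/
theorem isEffCartierIdeal_mul {𝓘₁ 𝓘₂ : X.IdealSheafData} (hc₁ : BlowUp.IsEffCartierIdeal 𝓘₁)
    (hc₂ : BlowUp.IsEffCartierIdeal 𝓘₂) : BlowUp.IsEffCartierIdeal (𝓘₁ * 𝓘₂) := by
  intro x
  obtain ⟨U, hxU, -, ⟨t₁, ht₁, hI₁⟩, ⟨t₂, ht₂, hI₂⟩⟩ :=
    exists_affine_isPrincipalNZD₂ hc₁ hc₂ ⊤ x trivial
  refine ⟨U, hxU, t₁ * t₂, mul_mem ht₁ ht₂, ?_⟩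
  rw [Scheme.IdealSheafData.ideal_mul, Pi.mul_apply, hI₁, hI₂,
    Ideal.span_singleton_mul_span_singleton]

end Groth.Agent.H9
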