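import Mathlib
import Groth.Agent.H8.DevPw
import Groth.Agent.H8.StalkExact
import Groth.Agent.H8.SectionsExact
import Groth.Agent.H22.QCohLimits

/-!
# (TF) for helper8's coherent dévissage cluster
-/

set_option autoImplicit false
set_option linter.style.haveILetI false
universe u
open CategoryTheory CategoryTheory.Limits AlgebraicGeometry TopologicalSpace Opposite
open scoped ZeroObject
open Groth.Agent.H8.Dev

namespace Groth.Agent.H9.Dev_TF

variable {X : Scheme.{u}}

/-- sections of a zero module vanish -/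
lemma sections_zero_of_isZero {M : X.Modules} (hz : IsZero M) (U : X.Opens) (s : Γ(M, U)) :
    s = 0 := by
  have h1 : (𝟙 M : M ⟶ M) = 0 := (IsZero.iff_id_eq_zero M).mp hz
  have := congrArg (fun φ : M ⟶ M => φ.app U s) h1
  exact this

/-- injectivity of a restriction map passes to powers -/
lemma pw_res_injective (G : X.Modules) {V U : X.Opens} (hVU : V ≤ U)
    (hG : ∀ a : Γ(G, U), G.presheaf.map (homOfLE hVU).op a = 0 → a = 0) (r : ℕ) :
    ∀ z : Γ(pw G r, U), (pw G r).presheaf.map (homOfLE hVU).op z = 0 → z = 0 := by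
  induction r with
  | zero =>
    intro z _
    exact sections_zero_of_isZero (isZero_zero _) U z
  | succ n ih =>
    intro z hz
    change Γ(G ⊞ pw G n, U) at z
    change (G ⊞ pw G n).presheaf.map (homOfLE hVU).op z = 0 at hz
    change z = 0
    have h1 : (biprod.fst : G ⊞ pw G n ⟶ G).app U z = 0 := by
      apply hG
      rw [← Groth.Agent.H8.app_res, hz, map_zero]
    have h2 : (biprod.snd : G ⊞ pw G n ⟶ pw G n).app U z = 0 := by
      apply ih
      rw [← Groth.Agent.H8.app_res, hz, map_zero]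
    rw [← Groth.Agent.H22.QCohLimits.biprod_total_app U z, h1, h2, map_zero, map_zero, add_zero]

/-- vanishing of sections passes to powers -/
lemma pw_sections_zero (G : X.Modules) (U : X.Opens) (hG : ∀ a : Γ(G, U), a = 0) (r : ℕ) :
    ∀ z : Γ(pw G r, U), z = 0 := by
  induction r with
  | zero =>
    intro z
    exact sections_zero_of_isZero (isZero_zero _) U z
  | succ n ih =>
    intro z
    change Γ(G ⊞ pw G n, U) at z
    change z = 0
    rw [← Groth.Agent.H22.QCohLimits.biprod_total_app U z,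
      hG ((biprod.fst : G ⊞ pw G n ⟶ G).app U z),
      ih ((biprod.snd : G ⊞ pw G n ⟶ pw G n).app U z), map_zero, map_zero, add_zero]

/-- abstract form -/
theorem TF_aux (G : X.Modules) (y : X)
    (h1 : ∀ (U V : X.Opens) (hVU : V ≤ U), y ∈ V →
      ∀ a : Γ(G, U), G.presheaf.map (homOfLE hVU).op a = 0 → a = 0)
    (h2 : ∀ U : X.Opens, y ∉ U → ∀ a : Γ(G, U), a = 0)
    (r : ℕ) (N : X.Modules) (g : N ⟶ pw G r) [Mono g]
    (h : Subsingleton ↑(N.presheaf.stalk y)) : IsZero N := by
  have key : ∀ (U : X.Opens) (s : Γ(N, U)), s = 0 := by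
    intro U s
    apply Groth.Agent.H8.app_injective_of_mono g U
    rw [map_zero]
    by_cases hy : y ∈ U
    · have h0 : N.presheaf.germ U y hy s = 0 := Subsingleton.elim _ _
      obtain ⟨V, hVU, hyV, hV⟩ :=
        Groth.Agent.H8.exists_res_eq_zero_of_germ_eq_zero y N hy s h0
      apply pw_res_injective G hVU (h1 U V hVU hyV) r
      rw [← Groth.Agent.H8.app_res, hV, map_zero]
    · exact pw_sections_zero G U (h2 U hy) r _
  rw [IsZero.iff_id_eq_zero]
  apply SheafOfModules.hom_ext
  apply PresheafOfModules.hom_ext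
  intro U
  ext s
  exact key U.unop s

/-- (TF) -/
theorem TF {Z : Scheme.{u}} (i : Z ⟶ X) [IsClosedImmersion i] [IsIntegral Z] (r : ℕ)
    (N : X.Modules) (g : N ⟶ pw ((Scheme.Modules.pushforward i).obj (Coh.structureModule Z)) r)
    [Mono g] (h : Subsingleton ↑(N.presheaf.stalk (i (genericPoint Z)))) : IsZero N := by
  refine TF_aux ((Scheme.Modules.pushforward i).obj (Coh.structureModule Z)) (i (genericPoint Z))
    ?_ ?_ r N g h
  · intro U V hVU hyV a ha
    haveI : Nonempty (i ⁻¹ᵁ V) := ⟨⟨genericPoint Z, hyV⟩⟩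
    have hinj' := AlgebraicGeometry.map_injective_of_isIntegral Z
      ((Opens.map i.base).map (homOfLE hVU))
    have ha' : Z.presheaf.map ((Opens.map i.base).map (homOfLE hVU)).op
        (show Γ(Z, i ⁻¹ᵁ U) from a) = 0 := ha
    have h0 : Z.presheaf.map ((Opens.map i.base).map (homOfLE hVU)).op
        (0 : Γ(Z, i ⁻¹ᵁ U)) = 0 := map_zero _
    exact hinj' (ha'.trans h0.symm)
  · intro U hy a
    have hempty : i ⁻¹ᵁ U = ⊥ := by
      by_contra hne
      apply hy
      have hne' : ((i ⁻¹ᵁ U : Z.Opens) : Set Z).Nonempty := (Opens.ne_bot_iff_nonempty _).mp hne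
      have hmem : genericPoint Z ∈ ((i ⁻¹ᵁ U : Z.Opens) : Set Z) :=
        ((genericPoint_spec Z).mem_open_set_iff (i ⁻¹ᵁ U).2).mpr (by simpa using hne')
      exact hmem
    have : Subsingleton Γ(Z, i ⁻¹ᵁ U) := by
      rw [hempty]; infer_instance
    exact Subsingleton.elim (α := Γ(Z, i ⁻¹ᵁ U)) a 0

end Groth.Agent.H9.Dev_TF
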