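import Mathlib.RingTheory.Ideal.AssociatedPrime.Basic
import Mathlib.RingTheory.Ideal.Quotient.Operations
import Mathlib.RingTheory.Noetherian.Basic

/-!
# An ideal of a Noetherian ring all of whose associated primes are principal is principal
-/

set_option autoImplicit false

namespace Groth.Agent.H9

theorem exists_eq_span_singleton_of_associatedPrimes {A : Type*} [CommRing A] [IsNoetherianRing A]
    (J : Ideal A) (h : ∀ 𝔮 ∈ associatedPrimes A (A ⧸ J), ∃ p : A, 𝔮 = Ideal.span {p}) :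
    ∃ b : A, J = Ideal.span {b} := by
  revert h
  refine IsNoetherian.induction (P := fun J : Ideal A =>
    (∀ 𝔮 ∈ associatedPrimes A (A ⧸ J), ∃ p : A, 𝔮 = Ideal.span {p}) →
      ∃ b : A, J = Ideal.span {b}) (fun J ih h => ?_) J
  by_cases hJ : J = ⊤
  · exact ⟨1, by rw [hJ, Ideal.span_singleton_one]⟩
  haveI : Nontrivial (A ⧸ J) := Ideal.Quotient.nontrivial_iff.2 hJ
  obtain ⟨𝔮, h𝔮⟩ := associatedPrimes.nonempty A (A ⧸ J)
  obtain ⟨p, hp⟩ := h 𝔮 h𝔮
  obtain ⟨h𝔮prime, m, hm⟩ := isAssociatedPrime_iff.1 h𝔮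
  obtain ⟨y, rfl⟩ := Ideal.Quotient.mk_surjective m
  have hmem : ∀ r, r ∈ 𝔮 ↔ r * y ∈ J := by
    intro r
    rw [hm, Submodule.mem_colon_singleton, Submodule.mem_bot]
    change Ideal.Quotient.mk J (r * y) = 0 ↔ _
    rw [Ideal.Quotient.eq_zero_iff_mem]
  have hpy : p * y ∈ J := (hmem p).1 (hp ▸ Ideal.mem_span_singleton_self p)
  have hyJ : y ∉ J := by
    intro hy
    apply h𝔮prime.ne_top
    rw [Ideal.eq_top_iff_one, hmem, one_mul]
    exact hy
  have hJ𝔮 : J ≤ 𝔮 := fun j hj => (hmem j).2 (Ideal.mul_mem_right y J hj)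
  obtain ⟨J', hJ'mem⟩ : ∃ J' : Ideal A, ∀ a, a ∈ J' ↔ p * a ∈ J :=
    ⟨Submodule.comap (LinearMap.mulLeft A p) J, fun a => Iff.rfl⟩
  have hlt : J < J' := by
    refine lt_of_le_of_ne (fun j hj => (hJ'mem j).2 (Ideal.mul_mem_left J p hj)) ?_
    intro heq
    exact hyJ (heq ▸ (hJ'mem y).2 hpy)
  have hJeq : J = Ideal.span {p} * J' := by
    apply le_antisymm
    · intro j hj
      have hjp : j ∈ Ideal.span {p} := hp ▸ hJ𝔮 hj
      obtain ⟨a, rfl⟩ := Ideal.mem_span_singleton'.1 hjp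
      rw [Ideal.mem_span_singleton_mul]
      exact ⟨a, (hJ'mem a).2 (by rwa [mul_comm]), mul_comm p a⟩
    · rw [Ideal.span_singleton_mul_le_iff]
      intro a ha
      exact (hJ'mem a).1 ha
  have hass : ∀ 𝔮₂ ∈ associatedPrimes A (A ⧸ J'), ∃ p₂ : A, 𝔮₂ = Ideal.span {p₂} := by
    intro 𝔮₂ h𝔮₂
    apply h
    obtain ⟨h2prime, m₂, hm₂⟩ := isAssociatedPrime_iff.1 h𝔮₂
    obtain ⟨y₂, rfl⟩ := Ideal.Quotient.mk_surjective m₂
    refine isAssociatedPrime_iff.2 ⟨h2prime, Ideal.Quotient.mk J (p * y₂), ?_⟩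
    ext r
    rw [hm₂, Submodule.mem_colon_singleton, Submodule.mem_colon_singleton, Submodule.mem_bot,
      Submodule.mem_bot]
    change Ideal.Quotient.mk J' (r * y₂) = 0 ↔ Ideal.Quotient.mk J (r * (p * y₂)) = 0
    rw [Ideal.Quotient.eq_zero_iff_mem, Ideal.Quotient.eq_zero_iff_mem, hJ'mem, mul_left_comm]
  obtain ⟨b, hb⟩ := ih J' hlt hass
  exact ⟨p * b, by rw [hJeq, hb, Ideal.span_singleton_mul_span_singleton]⟩

end Groth.Agent.H9
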