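import Groth.Prelude.Def_BlowUp2
import Mathlib.AlgebraicGeometry.IdealSheaf.Subscheme
import Mathlib.AlgebraicGeometry.Noetherian
import Mathlib.RingTheory.Localization.AtPrime.Basic
import Mathlib.RingTheory.Localization.Away.Basic

/-!
# Spreading out a principal generator of an ideal from a stalk to an affine neighbourhood

If on a Noetherian affine open `U` the ideal `𝓘(U)` becomes principal, generated by a
nonzerodivisor, in the local ring at `x ∈ U`, then `𝓘` is principal, generated by a nonzerodivisor,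
on a basic open neighbourhood of `x`.
-/

set_option autoImplicit false
universe u

open CategoryTheory AlgebraicGeometry TopologicalSpace

namespace Groth.Agent.H9

theorem exists_away_principal {R A : Type*} [CommRing R] [IsNoetherianRing R] (𝔭 : Ideal R)
    [𝔭.IsPrime] [CommRing A] [Algebra R A] [IsLocalization.AtPrime A 𝔭] (I : Ideal R) (a : A)
    (ha : a ∈ nonZeroDivisors A) (h : I.map (algebraMap R A) = Ideal.span {a}) :
    ∃ s : R, s ∉ 𝔭 ∧ ∃ r ∈ I, (∀ g ∈ I, ∃ b, s * g = b * r) ∧ (∀ k, k * r = 0 → s * k = 0) := by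
  classical
  have haI : a ∈ I.map (algebraMap R A) := h ▸ Ideal.mem_span_singleton_self a
  obtain ⟨⟨⟨r, hr⟩, ⟨m, hm⟩⟩, hrm⟩ :=
    (IsLocalization.mem_map_algebraMap_iff 𝔭.primeCompl A).1 haI
  simp only at hrm
  have hmu : IsUnit (algebraMap R A m) := IsLocalization.map_units A (⟨m, hm⟩ : 𝔭.primeCompl)
  have hrnzd : algebraMap R A r ∈ nonZeroDivisors A := by
    rw [← hrm]; exact mul_mem ha hmu.mem_nonZeroDivisors
  have hspan : I.map (algebraMap R A) = Ideal.span {algebraMap R A r} := by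
    rw [h, ← hrm]
    exact (Ideal.span_singleton_mul_right_unit hmu a).symm
  have h1 : ∀ g ∈ I, ∃ t : R, t ∉ 𝔭 ∧ ∃ b, t * g = b * r := by
    intro g hg
    have hg' : algebraMap R A g ∈ Ideal.span {algebraMap R A r} :=
      hspan ▸ Ideal.mem_map_of_mem _ hg
    obtain ⟨c, hc⟩ := Ideal.mem_span_singleton'.1 hg'
    obtain ⟨⟨b, ⟨t, ht⟩⟩, hbt⟩ := IsLocalization.surj 𝔭.primeCompl c
    simp only at hbt
    have heq : algebraMap R A (t * g) = algebraMap R A (b * r) := by
      rw [map_mul, map_mul, ← hc, ← hbt]; ring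
    obtain ⟨⟨u, hu⟩, hu'⟩ := (IsLocalization.eq_iff_exists 𝔭.primeCompl A).1 heq
    simp only at hu'
    refine ⟨u * t, 𝔭.primeCompl.mul_mem hu ht, u * b, ?_⟩
    rw [mul_assoc, hu', mul_assoc]
  have h2 : ∀ k, k * r = 0 → ∃ t : R, t ∉ 𝔭 ∧ t * k = 0 := by
    intro k hk
    have hk' : algebraMap R A k * algebraMap R A r = 0 := by rw [← map_mul, hk, map_zero]
    have hk0 : algebraMap R A k = 0 := (mem_nonZeroDivisors_iff_right.1 hrnzd) _ hk'
    obtain ⟨⟨u, hu⟩, hu'⟩ := (IsLocalization.map_eq_zero_iff 𝔭.primeCompl A k).1 hk0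
    exact ⟨u, hu, hu'⟩
  obtain ⟨S, hS⟩ := (isNoetherianRing_iff_ideal_fg R).1 inferInstance I
  obtain ⟨K, hK⟩ : ∃ K : Ideal R, ∀ k, k ∈ K ↔ k * r = 0 :=
    ⟨LinearMap.ker (LinearMap.toSpanSingleton R R r), fun k => by
      simp [LinearMap.mem_ker, LinearMap.toSpanSingleton_apply]⟩
  obtain ⟨S', hS'⟩ := (isNoetherianRing_iff_ideal_fg R).1 inferInstance K
  choose! t ht hb using h1
  have h2' : ∀ k ∈ K, ∃ t : R, t ∉ 𝔭 ∧ t * k = 0 := fun k hk => h2 k ((hK k).1 hk)
  choose! t' ht' hb' using h2'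
  have hSI : ∀ g ∈ S, g ∈ I := fun g hg => hS ▸ Ideal.subset_span hg
  have hS'K : ∀ k ∈ S', k ∈ K := fun k hk => hS' ▸ Ideal.subset_span hk
  obtain ⟨s, hs⟩ : ∃ s : R, s = (∏ g ∈ S, t g) * (∏ k ∈ S', t' k) := ⟨_, rfl⟩
  refine ⟨s, ?_, r, hr, ?_, ?_⟩
  · have : s ∈ 𝔭.primeCompl := by
      rw [hs]
      exact mul_mem (Submonoid.prod_mem _ (fun g hg => ht g (hSI g hg)))
        (Submonoid.prod_mem _ fun k hk => ht' k (hS'K k hk))
    exact this
  · have hle : I ≤ Submodule.comap (LinearMap.mulLeft R s) (Ideal.span {r}) := by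
      rw [← hS, Ideal.span_le]
      intro g hg
      change s * g ∈ Ideal.span {r}
      obtain ⟨b, hb⟩ := hb g (hSI g hg)
      obtain ⟨c, hc⟩ : t g ∣ s := hs ▸ (Finset.dvd_prod_of_mem t hg).mul_right _
      refine Ideal.mem_span_singleton'.2 ⟨c * b, ?_⟩
      rw [hc]
      linear_combination (-c) * hb
    intro g hg
    obtain ⟨b, hb⟩ := Ideal.mem_span_singleton'.1 (hle hg)
    exact ⟨b, hb.symm⟩
  · have hle : K ≤ LinearMap.ker (LinearMap.mulLeft R s) := by
      rw [← hS', Ideal.span_le]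
      intro k hk
      change s * k = 0
      obtain ⟨c, hc⟩ : t' k ∣ s := hs ▸ (Finset.dvd_prod_of_mem t' hk).mul_left _
      rw [hc, mul_comm (t' k) c, mul_assoc, hb' k (hS'K k hk), mul_zero]
    intro k hk
    exact hle ((hK k).2 hk)

theorem away_principal {R R' : Type*} [CommRing R] [CommRing R'] [Algebra R R'] (s r : R)
    [IsLocalization.Away s R'] (I : Ideal R) (hr : r ∈ I) (h1 : ∀ g ∈ I, ∃ b, s * g = b * r)
    (h2 : ∀ k, k * r = 0 → s * k = 0) :
    algebraMap R R' r ∈ nonZeroDivisors R' ∧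
      I.map (algebraMap R R') = Ideal.span {algebraMap R R' r} := by
  have hsu : IsUnit (algebraMap R R' s) := IsLocalization.Away.algebraMap_isUnit s
  constructor
  · rw [mem_nonZeroDivisors_iff_right]
    intro y hy
    obtain ⟨⟨k, ⟨_, n, rfl⟩⟩, hk⟩ := IsLocalization.surj (Submonoid.powers s) y
    simp only at hk
    have hkr : algebraMap R R' (k * r) = 0 := by
      rw [map_mul, ← hk, mul_right_comm, hy, zero_mul]
    obtain ⟨⟨_, m, rfl⟩, hm⟩ := (IsLocalization.map_eq_zero_iff (Submonoid.powers s) R' _).1 hkr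
    simp only at hm
    have h3 : s * (s ^ m * k) = 0 := h2 _ (by rw [mul_assoc]; exact hm)
    have hk0 : algebraMap R R' k = 0 := by
      have h4 : algebraMap R R' s * (algebraMap R R' s ^ m * algebraMap R R' k) = 0 := by
        rw [← map_pow, ← map_mul, ← map_mul, h3, map_zero]
      exact ((hsu.pow m).mul_right_eq_zero).1 ((hsu.mul_right_eq_zero).1 h4)
    rw [hk0, map_pow] at hk
    exact ((hsu.pow n).mul_left_eq_zero).1 hk
  · apply le_antisymm
    · rw [Ideal.map_le_iff_le_comap]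
      intro g hg
      obtain ⟨b, hb⟩ := h1 g hg
      rw [Ideal.mem_comap, Ideal.mem_span_singleton']
      refine ⟨↑hsu.unit⁻¹ * algebraMap R R' b, ?_⟩
      have hsg : algebraMap R R' s * algebraMap R R' g =
          algebraMap R R' b * algebraMap R R' r := by
        rw [← map_mul, hb, map_mul]
      calc ↑hsu.unit⁻¹ * algebraMap R R' b * algebraMap R R' r
          = ↑hsu.unit⁻¹ * (algebraMap R R' s * algebraMap R R' g) := by rw [mul_assoc, hsg]
        _ = algebraMap R R' g := by rw [← mul_assoc, IsUnit.val_inv_mul, one_mul]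
    · rw [Ideal.span_singleton_le_iff_mem]
      exact Ideal.mem_map_of_mem _ hr

theorem mem_primeIdealOf_iff {X : Scheme.{u}} {W : X.Opens} (hW : IsAffineOpen W) (x : X)
    (hx : x ∈ W) (f : Γ(X, W)) :
    f ∈ (hW.primeIdealOf ⟨x, hx⟩).asIdeal ↔ x ∉ X.basicOpen f := by
  rw [hW.primeIdealOf_eq_map_closedPoint, Scheme.mem_basicOpen _ _ _ hx]
  change X.presheaf.germ W x hx f ∈ IsLocalRing.maximalIdeal _ ↔ _
  rw [IsLocalRing.mem_maximalIdeal, mem_nonunits_iff]

/-- Spreading out: if `𝓘(U)` generates a principal ideal with nonzerodivisor generator in the local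
ring at `x`, with `Γ(X, U)` Noetherian, then `𝓘` is principal with a nonzerodivisor generator on an
affine open neighbourhood of `x`. -/
theorem exists_affine_principal_of_stalk {X : Scheme.{u}} (𝓘 : X.IdealSheafData)
    (U : X.affineOpens) [IsNoetherianRing Γ(X, U.1)] (x : X) (hxU : x ∈ U.1)
    (a : X.presheaf.stalk x) (ha : a ∈ nonZeroDivisors (X.presheaf.stalk x))
    (h : (𝓘.ideal U).map (X.presheaf.germ U.1 x hxU).hom = Ideal.span {a}) :
    ∃ V : X.affineOpens, x ∈ V.1 ∧ V.1 ≤ U.1 ∧ ∃ f : Γ(X, V.1), f ∈ nonZeroDivisors Γ(X, V.1) ∧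
      𝓘.ideal V = Ideal.span {f} := by
  have hU : IsAffineOpen U.1 := U.2
  letI : Algebra Γ(X, U.1) (X.presheaf.stalk x) := X.presheaf.algebra_section_stalk ⟨x, hxU⟩
  haveI : IsLocalization.AtPrime (X.presheaf.stalk x) (hU.primeIdealOf ⟨x, hxU⟩).asIdeal :=
    hU.isLocalization_stalk ⟨x, hxU⟩
  obtain ⟨s, hs, r, hr, h1, h2⟩ :=
    exists_away_principal (hU.primeIdealOf ⟨x, hxU⟩).asIdeal (𝓘.ideal U) a ha h
  have hxs : x ∈ X.basicOpen s := by
    by_contra hx
    exact hs ((mem_primeIdealOf_iff hU x hxU s).2 hx)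
  haveI : IsLocalization.Away s Γ(X, X.basicOpen s) := hU.isLocalization_basicOpen s
  obtain ⟨hnzd, hmap⟩ := away_principal (R' := Γ(X, X.basicOpen s)) s r (𝓘.ideal U) hr h1 h2
  refine ⟨X.affineBasicOpen s, hxs, X.basicOpen_le s,
    (algebraMap Γ(X, U.1) Γ(X, X.basicOpen s) r : Γ(X, X.basicOpen s)), hnzd, ?_⟩
  exact (𝓘.map_ideal_basicOpen U s).symm.trans hmap

end Groth.Agent.H9
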