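import Mathlib
set_option autoImplicit false
set_option linter.style.haveILetI false
universe u
open CategoryTheory CategoryTheory.Limits AlgebraicGeometry
namespace Groth.Agent.H9.EtalePt

/-- An étale morphism is locally quasi-finite. -/
theorem locallyQuasiFinite_of_etale {X Y : Scheme.{u}} (f : X ⟶ Y) [Etale f] :
    LocallyQuasiFinite f := by
  refine ⟨fun {U} hU {V} hV e => ?_⟩
  have h : (f.appLE U V e).hom.Etale := f.etale_appLE hU hV e
  algebraize [(f.appLE U V e).hom]
  show @Algebra.QuasiFinite _ _ _ _ (f.appLE U V e).hom.toAlgebra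
  infer_instance

/-- Points of an étale `k`-scheme are open. -/
theorem isOpen_singleton_of_etale {k : Type u} [Field k] {Y : AlgebraicGeometry.Scheme.{u}}
    (g : Y ⟶ AlgebraicGeometry.Spec (CommRingCat.of k)) [AlgebraicGeometry.Etale g] (y : Y) :
    IsOpen ({y} : Set Y) := by
  haveI : LocallyQuasiFinite g := locallyQuasiFinite_of_etale g
  haveI : IsLocallyArtinian Y := IsLocallyArtinian.of_locallyQuasiFinite g
  exact isOpen_discrete _

end Groth.Agent.H9.EtalePt
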