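import Mathlib
import Groth.Agent.H24.QFStrat.Defs

/-! # (PT) for helper24's S0170: the point case of `TS` -/

set_option autoImplicit false
set_option linter.style.haveILetI false
universe u
open CategoryTheory CategoryTheory.Limits AlgebraicGeometry
open Groth.Agent.H24.QFStrat Groth.Agent.H24.RadStrat

namespace Groth.Agent.H9.QFStrat_PT

/-- the statement of piece (PT1) -/
def PT1Statement : Prop :=
  ∀ {K : Type u} [Field K] {V : Scheme.{u}} (p : V ⟶ Spec (CommRingCat.of K)) [IsFinite p],
    ∃ (L : Type u) (_ : Field L) (φ : K →+* L), φ.Finite ∧ ∃ (Z : Scheme.{u})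
      (c : Z ⟶ pullback (Spec.map (CommRingCat.ofHom φ)) p), IsClosedImmersion c ∧ Surjective c ∧
      IsFinite (c ≫ pullback.fst (Spec.map (CommRingCat.ofHom φ)) p) ∧
      Etale (c ≫ pullback.fst (Spec.map (CommRingCat.ofHom φ)) p)

/-- a finite extension of fields gives a `QC` morphism of spectra -/
theorem QC_specMap_of_finite {K L : Type u} [Field K] [Field L] (φ : K →+* L) (hφ : φ.Finite) :
    QC (Spec.map (CommRingCat.ofHom φ)) := by
  refine ⟨?_, ?_, ?_, ?_⟩
  · rw [IsFinite.SpecMap_iff]
    exact hφ
  · constructor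
    intro y
    haveI : Nonempty (Spec (CommRingCat.of L)) := inferInstance
    obtain ⟨z⟩ := (inferInstance : Nonempty (Spec (CommRingCat.of L)))
    exact ⟨z, Subsingleton.elim _ _⟩
  · rw [Flat.SpecMap_iff]
    letI := φ.toAlgebra
    show Module.Flat K L
    infer_instance
  · rw [LocallyOfFinitePresentation.SpecMap_iff]
    exact RingHom.FinitePresentation.of_finiteType.mp hφ.finiteType

/-- repackaging: a closed subscheme of `W' ×_W (W ×_X Y)` as a datum over `g ≫ w` -/
theorem TS_of_data {Y X W W' : Scheme.{u}} (f : Y ⟶ X) (w : W ⟶ X) (g : W' ⟶ W) (hg : QC g)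
    (Z : Scheme.{u}) (c : Z ⟶ pullback g (pullback.fst w f)) (hc1 : IsClosedImmersion c)
    (hc2 : Surjective c) (hc3 : IsFinite (c ≫ pullback.fst g (pullback.fst w f)))
    (hc4 : Etale (c ≫ pullback.fst g (pullback.fst w f))) : TS f w := by
  refine ⟨W', g, hg, ?_⟩
  have hσ : (c ≫ pullback.fst g (pullback.fst w f)) ≫ (g ≫ w) =
      (c ≫ pullback.snd g (pullback.fst w f) ≫ pullback.snd w f) ≫ f := by
    rw [Category.assoc, Category.assoc, Category.assoc, ← pullback.condition,
      pullback.condition_assoc]
  refine ⟨Z, c ≫ pullback.fst g (pullback.fst w f),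
    c ≫ pullback.snd g (pullback.fst w f) ≫ pullback.snd w f, hσ, hc3, hc4, ?_⟩
  have hlift : pullback.lift (c ≫ pullback.fst g (pullback.fst w f))
      (c ≫ pullback.snd g (pullback.fst w f) ≫ pullback.snd w f) hσ =
      c ≫ (pullbackRightPullbackFstIso w f g).hom := by
    apply pullback.hom_ext
    · rw [pullback.lift_fst, Category.assoc, pullbackRightPullbackFstIso_hom_fst]
    · rw [pullback.lift_snd, Category.assoc, pullbackRightPullbackFstIso_hom_snd]
  rw [hlift]
  exact ⟨inferInstance, inferInstance⟩

/-- (PT) modulo (PT1) -/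
theorem TS_point_of (hPT1 : PT1Statement.{u}) {Y X : Scheme.{u}} (f : Y ⟶ X)
    [LocallyOfFiniteType f] [LocallyQuasiFinite f] [QuasiCompact f] (x : X) :
    TS f (X.fromSpecResidueField x) := by
  -- the fibre is finite over the residue field
  have hfin : IsFinite (pullback.fst (X.fromSpecResidueField x) f) := by
    haveI : LocallyQuasiFinite (pullback.fst (X.fromSpecResidueField x) f) :=
      MorphismProperty.pullback_fst (P := @LocallyQuasiFinite) _ _ inferInstance
    haveI : QuasiCompact (pullback.fst (X.fromSpecResidueField x) f) :=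
      MorphismProperty.pullback_fst (P := @QuasiCompact) _ _ inferInstance
    haveI : IsLocallyArtinian (Spec (X.residueField x)) := inferInstance
    exact IsFinite.of_locallyQuasiFinite (pullback.fst (X.fromSpecResidueField x) f)
  obtain ⟨L, hL, φ, hφ, Z, c, hc1, hc2, hc3, hc4⟩ :=
    @hPT1 (X.residueField x) _ (pullback (X.fromSpecResidueField x) f)
      (pullback.fst (X.fromSpecResidueField x) f) hfin
  exact TS_of_data f (X.fromSpecResidueField x) (Spec.map (CommRingCat.ofHom φ))
    (QC_specMap_of_finite φ hφ) Z c hc1 hc2 hc3 hc4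

end Groth.Agent.H9.QFStrat_PT
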