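import Mathlib.AlgebraicGeometry.IdealSheaf.Subscheme
import Mathlib.AlgebraicGeometry.Morphisms.ClosedImmersion
import Mathlib.RingTheory.Localization.AtPrime.Basic

/-!
# The kernel of the stalk map of a closed immersion

For a closed immersion `i : Z ⟶ X`, an affine open `U ⊆ X` and `z : Z` with `i z ∈ U`, the kernel of
`i.stalkMap z` is the ideal generated by the germs of `i.ker.ideal U`.
-/

set_option autoImplicit false
universe u

open CategoryTheory AlgebraicGeometry TopologicalSpace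

namespace Groth.Agent.H9

variable {X Z : Scheme.{u}}

/-- The prime of `Γ(X, U)` at `i z` is the preimage of the prime of `Γ(Z, i⁻¹U)` at `z`. -/
theorem comap_primeIdealOf_app (i : Z ⟶ X) (U : X.affineOpens) (hW : IsAffineOpen (i ⁻¹ᵁ U.1))
    (z : Z) (hz : i z ∈ U.1) :
    (hW.primeIdealOf ⟨z, hz⟩).asIdeal.comap (i.app U.1).hom =
      (U.2.primeIdealOf ⟨i z, hz⟩).asIdeal := by
  have h := IsAffineOpen.comap_primeIdealOf_appLE U.1 U.2 (i ⁻¹ᵁ U.1) hW le_rfl hz
  rw [Scheme.Hom.appLE_eq_app] at h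
  exact congrArg PrimeSpectrum.asIdeal h

/-- Sections in the kernel ideal of `i` lie in the prime ideal of any point of the image. -/
theorem ker_ideal_le_primeIdealOf (i : Z ⟶ X) [IsClosedImmersion i] (U : X.affineOpens)
    (z : Z) (hz : i z ∈ U.1) :
    i.ker.ideal U ≤ (U.2.primeIdealOf ⟨i z, hz⟩).asIdeal := by
  have hW : IsAffineOpen (i ⁻¹ᵁ U.1) := U.2.preimage i
  intro r hr
  rw [Scheme.Hom.ker_apply, RingHom.mem_ker] at hr
  rw [← comap_primeIdealOf_app i U hW z hz, Ideal.mem_comap, hr]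
  exact Ideal.zero_mem _

theorem ker_stalkMap_of_isClosedImmersion (i : Z ⟶ X) [IsClosedImmersion i] (U : X.affineOpens)
    (d : Z) (hd : i d ∈ U.1) :
    RingHom.ker (i.stalkMap d).hom =
      (i.ker.ideal U).map (X.presheaf.germ U.1 (i d) hd).hom := by
  have hU : IsAffineOpen U.1 := U.2
  have hW : IsAffineOpen (i ⁻¹ᵁ U.1) := hU.preimage i
  have hdW : d ∈ i ⁻¹ᵁ U.1 := hd
  have hφsurj : Function.Surjective (i.app U.1).hom := i.app_surjective U.1 hU
  have hφker : RingHom.ker (i.app U.1).hom = i.ker.ideal U := (Scheme.Hom.ker_apply i U).symm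
  have hgerm : ∀ r : Γ(X, U.1), (i.stalkMap d).hom
      (X.presheaf.germ U.1 (i d) hd r) =
      Z.presheaf.germ (i ⁻¹ᵁ U.1) d hdW (i.app U.1 r) :=
    fun r => Scheme.Hom.germ_stalkMap_apply i U.1 d hd r
  apply le_antisymm
  · intro a ha
    rw [RingHom.mem_ker] at ha
    letI : Algebra Γ(X, U.1) (X.presheaf.stalk (i d)) :=
      X.presheaf.algebra_section_stalk ⟨i d, hd⟩
    haveI : IsLocalization.AtPrime (X.presheaf.stalk (i d))
        (hU.primeIdealOf ⟨i d, hd⟩).asIdeal := hU.isLocalization_stalk ⟨_, hd⟩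
    letI : Algebra Γ(Z, i ⁻¹ᵁ U.1) (Z.presheaf.stalk d) :=
      Z.presheaf.algebra_section_stalk ⟨d, hdW⟩
    haveI : IsLocalization.AtPrime (Z.presheaf.stalk d)
        (hW.primeIdealOf ⟨d, hdW⟩).asIdeal := hW.isLocalization_stalk ⟨d, hdW⟩
    obtain ⟨⟨r, ⟨s, hs⟩⟩, hrs⟩ := IsLocalization.surj
      (hU.primeIdealOf ⟨i d, hd⟩).asIdeal.primeCompl a
    simp only at hrs
    have hsu : IsUnit (algebraMap Γ(X, U.1) (X.presheaf.stalk (i d)) s) :=
      IsLocalization.map_units _ (⟨s, hs⟩ : (hU.primeIdealOf ⟨i d, hd⟩).asIdeal.primeCompl)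
    have hr0 : algebraMap Γ(Z, i ⁻¹ᵁ U.1) (Z.presheaf.stalk d)
        (i.app U.1 r) = 0 := by
      have h1 := hgerm r
      have h2 : X.presheaf.germ U.1 (i d) hd r =
          a * X.presheaf.germ U.1 (i d) hd s := hrs.symm
      rw [h2, map_mul, ha, zero_mul] at h1
      exact h1.symm
    obtain ⟨⟨u, hu⟩, hur⟩ := (IsLocalization.map_eq_zero_iff
      (hW.primeIdealOf ⟨d, hdW⟩).asIdeal.primeCompl (Z.presheaf.stalk d) _).1 hr0
    simp only at hur
    obtain ⟨v, rfl⟩ := hφsurj u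
    have hcomap : (hW.primeIdealOf ⟨d, hdW⟩).asIdeal.comap (i.app U.1).hom =
        (hU.primeIdealOf ⟨i d, hd⟩).asIdeal := comap_primeIdealOf_app i U hW d hd
    have hv : v ∉ (hU.primeIdealOf ⟨i d, hd⟩).asIdeal := by
      rw [← hcomap, Ideal.mem_comap]
      exact hu
    have hvr : v * r ∈ i.ker.ideal U := by
      rw [← hφker, RingHom.mem_ker, map_mul]
      exact hur
    have hvu : IsUnit (algebraMap Γ(X, U.1) (X.presheaf.stalk (i d)) v) :=
      IsLocalization.map_units _ (⟨v, hv⟩ : (hU.primeIdealOf ⟨i d, hd⟩).asIdeal.primeCompl)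
    have hmem : algebraMap Γ(X, U.1) (X.presheaf.stalk (i d)) v *
        algebraMap Γ(X, U.1) (X.presheaf.stalk (i d)) r ∈
        (i.ker.ideal U).map (X.presheaf.germ U.1 (i d) hd).hom := by
      rw [← map_mul]
      exact Ideal.mem_map_of_mem _ hvr
    have hrmem : algebraMap Γ(X, U.1) (X.presheaf.stalk (i d)) r ∈
        (i.ker.ideal U).map (X.presheaf.germ U.1 (i d) hd).hom := by
      have := Ideal.mul_mem_left _ (↑hvu.unit⁻¹ : X.presheaf.stalk (i d)) hmem
      rwa [← mul_assoc, IsUnit.val_inv_mul, one_mul] at this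
    have ha' : a = algebraMap Γ(X, U.1) (X.presheaf.stalk (i d)) r *
        (↑hsu.unit⁻¹ : X.presheaf.stalk (i d)) := by
      have h3 : a * algebraMap Γ(X, U.1) (X.presheaf.stalk (i d)) s =
          algebraMap Γ(X, U.1) (X.presheaf.stalk (i d)) r := hrs
      rw [← h3, mul_assoc, IsUnit.mul_val_inv, mul_one]
    rw [ha']
    exact Ideal.mul_mem_right _ _ hrmem
  · rw [Ideal.map_le_iff_le_comap]
    intro r hr
    rw [Ideal.mem_comap, RingHom.mem_ker, hgerm]
    have : (i.app U.1).hom r = 0 := by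
      rw [← RingHom.mem_ker, hφker]; exact hr
    change Z.presheaf.germ (i ⁻¹ᵁ U.1) d hdW ((i.app U.1).hom r) = 0
    rw [this, map_zero]

end Groth.Agent.H9
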