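import Mathlib
import Groth.Agent.H57.NoEmb.Defs
import Groth.Agent.H57.RelAssSU.Key
import Groth.Agent.H57.RelAssSU.Bridge
import Groth.Agent.H57.RelAssBC2
import Groth.Agent.H57.RelAssGen.Chart
import Groth.Agent.H8.PullbackStalk
set_option autoImplicit false
set_option linter.style.haveILetI false
universe u
open AlgebraicGeometry CategoryTheory Limits TopologicalSpace
open Groth.Agent.H57.NoEmb
open IsLocalRing TensorProduct

namespace Groth.Agent.H9.NEChart

/-- elementwise socle condition -/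
def Soc (A : Type*) [CommRing A] [IsLocalRing A] (I : Ideal A) (M : Type*) [AddCommGroup M]
    [Module A M] : Prop :=
  ∃ n : M, n ∉ I • (⊤ : Submodule A M) ∧ ∀ b ∈ maximalIdeal A, b • n ∈ I • (⊤ : Submodule A M)

theorem soc_iff_of_bijective {A B : Type*} [CommRing A] [CommRing B] [IsLocalRing A]
    [IsLocalRing B] [Algebra A B] (hbij : Function.Bijective (algebraMap A B))
    (I : Ideal A) {M N : Type*} [AddCommGroup M] [Module A M] [AddCommGroup N] [Module B N]
    (e : N ≃ₗ[B] B ⊗[A] M) :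
    Soc B (I.map (algebraMap A B)) N ↔ Soc A I M := by
  -- the semilinear bijection θ : M → N
  let eAB : A ≃ₗ[A] B := LinearEquiv.ofBijective (Algebra.linearMap A B) hbij
  let χ : M ≃ₗ[A] B ⊗[A] M :=
    (TensorProduct.lid A M).symm ≪≫ₗ TensorProduct.congr eAB (LinearEquiv.refl A M)
  have hχ : ∀ m, χ m = (1 : B) ⊗ₜ[A] m := by
    intro m
    simp [χ, eAB]
  let θ : M → N := fun m => e.symm (χ m)
  have hθadd : ∀ m m', θ (m + m') = θ m + θ m' := fun m m' => by simp [θ]
  have hθsmul : ∀ (a : A) (m : M), θ (a • m) = algebraMap A B a • θ m := by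
    intro a m
    simp only [θ]
    rw [← e.symm.map_smul, hχ, hχ]
    congr 1
    rw [TensorProduct.smul_tmul', ← TensorProduct.smul_tmul, Algebra.smul_def, mul_one]
    rw [← TensorProduct.smul_tmul', TensorProduct.smul_tmul']
    simp
  have hθbij : Function.Bijective θ := e.symm.bijective.comp χ.bijective
  -- units / maximal ideals
  have hmax : ∀ a : A, a ∈ maximalIdeal A ↔ algebraMap A B a ∈ maximalIdeal B := by
    intro a
    rw [mem_maximalIdeal, mem_maximalIdeal, mem_nonunits_iff, mem_nonunits_iff, not_iff_not]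
    constructor
    · exact fun h => h.map _
    · intro h
      obtain ⟨c, hc⟩ := hbij.2 (h.unit⁻¹ : Bˣ)
      refine IsUnit.of_mul_eq_one c (hbij.1 ?_)
      rw [map_mul, hc, map_one]
      exact h.mul_val_inv
  -- the submodules
  have hsub : ∀ m : M, m ∈ I • (⊤ : Submodule A M) ↔
      θ m ∈ I.map (algebraMap A B) • (⊤ : Submodule B N) := by
    intro m
    constructor
    · intro hm
      refine Submodule.smul_induction_on (p := fun m => θ m ∈ I.map (algebraMap A B) •
        (⊤ : Submodule B N)) hm (fun a ha m _ => ?_) (fun x y hx hy => ?_)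
      · show θ (a • m) ∈ _
        rw [hθsmul]
        exact Submodule.smul_mem_smul (Ideal.mem_map_of_mem _ ha) trivial
      · show θ (x + y) ∈ _
        rw [hθadd]; exact Submodule.add_mem _ hx hy
    · intro hm
      have key : ∀ n ∈ I.map (algebraMap A B) • (⊤ : Submodule B N),
          ∀ m, θ m = n → m ∈ I • (⊤ : Submodule A M) := by
        intro n hn
        refine Submodule.smul_induction_on (p := fun n => ∀ m, θ m = n →
          m ∈ I • (⊤ : Submodule A M)) hn (fun b hb n _ => ?_) (fun x y hx hy => ?_)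
        · intro m hm
          obtain ⟨a, ha, rfl⟩ := (Ideal.mem_map_iff_of_surjective _ hbij.2).1 hb
          obtain ⟨m', rfl⟩ := hθbij.2 n
          rw [← hθsmul] at hm
          rw [hθbij.1 hm]
          exact Submodule.smul_mem_smul ha trivial
        · intro m hm
          obtain ⟨mx, rfl⟩ := hθbij.2 x
          obtain ⟨my, rfl⟩ := hθbij.2 y
          rw [← hθadd] at hm
          rw [hθbij.1 hm]
          exact Submodule.add_mem _ (hx mx rfl) (hy my rfl)
      exact key _ hm m rfl
  constructor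
  · rintro ⟨n, hn, hn'⟩
    obtain ⟨m, rfl⟩ := hθbij.2 n
    refine ⟨m, fun h => hn ((hsub m).1 h), fun a ha => ?_⟩
    rw [hsub, hθsmul]
    exact hn' _ ((hmax a).1 ha)
  · rintro ⟨m, hm, hm'⟩
    refine ⟨θ m, fun h => hm ((hsub m).2 h), fun b hb => ?_⟩
    obtain ⟨a, rfl⟩ := hbij.2 b
    rw [← hθsmul, ← hsub]
    exact hm' a ((hmax a).2 hb)

open Groth.Agent.H7.AssTensorFlat in
/-- `FibAss` is local on the source. -/
theorem fibAss_opens_iff {X S : Scheme.{u}} (f : X ⟶ S) (F : X.Modules) [F.IsQuasicoherent]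
    (U : X.Opens) (y : ↥U) :
    FibAss (U.ι ≫ f) ((Scheme.Modules.pullback U.ι).obj F) y ↔ FibAss f F (U.ι y) := by
  letI alg : Algebra (X.presheaf.stalk (U.ι y)) ((U : Scheme.{u}).presheaf.stalk y) :=
    (U.ι.stalkMap y).hom.toAlgebra
  obtain ⟨e⟩ := Groth.Agent.H8.nonempty_stalk_pullback_equiv U.ι F y
  have hbij : Function.Bijective (algebraMap (X.presheaf.stalk (U.ι y))
      ((U : Scheme.{u}).presheaf.stalk y)) :=
    ConcreteCategory.bijective_of_isIso (U.ι.stalkMap y)
  have key := soc_iff_of_bijective hbij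
    (Ideal.map (f.stalkMap (U.ι y)).hom (maximalIdeal (S.presheaf.stalk (f (U.ι y))))) e
  have hI : Ideal.map ((U.ι ≫ f).stalkMap y).hom
        (maximalIdeal (S.presheaf.stalk ((U.ι ≫ f) y))) =
      (Ideal.map (f.stalkMap (U.ι y)).hom (maximalIdeal (S.presheaf.stalk (f (U.ι y))))).map
        (algebraMap (X.presheaf.stalk (U.ι y)) ((U : Scheme.{u}).presheaf.stalk y)) := by
    rw [Ideal.map_map]
    have := Scheme.Hom.stalkMap_comp U.ι f y
    rw [this]
    rfl
  unfold FibAss
  rw [hI]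
  exact key

end Groth.Agent.H9.NEChart

namespace Groth.Agent.H9.NEChart

open Groth.Agent.H57.RelAssSU

/-- pointwise form of `NE`. -/
theorem mem_NE_iff {X S : Scheme.{u}} (f : X ⟶ S) [LocallyOfFiniteType f]
    (F : X.Modules) [F.IsQuasicoherent] (s : S) :
    s ∈ NE f F ↔ ∀ x x' : X, f x = s → f x' = s → x ∈ MoreMor.relAss f F →
      x' ∈ MoreMor.relAss f F → x' ⤳ x → x = x' := by
  constructor
  · intro h x x' hx hx' hxa hxa' hsp
    obtain ⟨z, rfl⟩ := exists_fiberι_eq f s x hx
    obtain ⟨z', rfl⟩ := exists_fiberι_eq f s x' hx'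
    have h1 := (mem_ass_fiber_iff f F s z).2 hxa
    have h2 := (mem_ass_fiber_iff f F s z').2 hxa'
    have h3 := (fiberι_specializes_iff f s z z').1 hsp
    rw [h z h1 z' h2 h3]
  · intro h z hz z' hz' hsp
    apply fiberι_injective f s
    exact h _ _ (fiberι_apply_fiber f s z) (fiberι_apply_fiber f s z')
      ((mem_ass_fiber_iff f F s z).1 hz) ((mem_ass_fiber_iff f F s z').1 hz')
      ((fiberι_specializes_iff f s z z').2 hsp)

/-- the relative assassin is local on the source. -/
theorem mem_relAss_opens_iff {X S : Scheme.{u}} (f : X ⟶ S) [LocallyOfFiniteType f]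
    (F : X.Modules) [F.IsQuasicoherent] (U : X.Opens) (y : (U : Scheme.{u})) :
    y ∈ MoreMor.relAss (U.ι ≫ f) ((Scheme.Modules.pullback U.ι).obj F) ↔
      U.ι y ∈ MoreMor.relAss f F :=
  (Groth.Agent.H57.RelAssGen.mem_relAss_iff_fibAss (U.ι ≫ f) _ y).trans
    ((fibAss_opens_iff f F U y).trans
      (Groth.Agent.H57.RelAssGen.mem_relAss_iff_fibAss f F (U.ι y)).symm)

/-- (CHART) -/
theorem ne_eq_iInter_of_iSup_eq_top {X S : Scheme.{u}} (f : X ⟶ S) [LocallyOfFiniteType f]
    (F : X.Modules) [F.IsQuasicoherent] {ι : Type*} (W : ι → X.Opens) (hW : ⨆ i, W i = ⊤) :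
    NE f F = ⋂ i, NE ((W i).ι ≫ f) ((Scheme.Modules.pullback (W i).ι).obj F) := by
  ext s
  rw [Set.mem_iInter]
  constructor
  · intro hs i
    haveI : ((Scheme.Modules.pullback (W i).ι).obj F).IsQuasicoherent :=
      Groth.Agent.H8.isQuasicoherent_pullback _ F
    rw [mem_NE_iff] at hs ⊢
    intro y y' hy hy' hya hya' hsp
    have h1 := (mem_relAss_opens_iff f F (W i) y).1 hya
    have h2 := (mem_relAss_opens_iff f F (W i) y').1 hya'
    have h3 : (W i).ι y' ⤳ (W i).ι y := hsp.map (W i).ι.continuous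
    have := hs _ _ hy hy' h1 h2 h3
    exact (W i).ι.isOpenEmbedding.injective this
  · intro hs
    rw [mem_NE_iff]
    intro x x' hx hx' hxa hxa' hsp
    have hxtop : x ∈ (⨆ i, W i : X.Opens) := by rw [hW]; trivial
    obtain ⟨i, hi⟩ := Opens.mem_iSup.1 hxtop
    have hi' : x' ∈ W i := hsp.mem_open (W i).2 hi
    haveI : ((Scheme.Modules.pullback (W i).ι).obj F).IsQuasicoherent :=
      Groth.Agent.H8.isQuasicoherent_pullback _ F
    have hsi := (mem_NE_iff _ _ s).1 (hs i)
    have h1 := (mem_relAss_opens_iff f F (W i) ⟨x, hi⟩).2 hxa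
    have h2 := (mem_relAss_opens_iff f F (W i) ⟨x', hi'⟩).2 hxa'
    have h3 : (⟨x', hi'⟩ : ↥(W i)) ⤳ ⟨x, hi⟩ :=
      ((W i).ι.isOpenEmbedding.isInducing.specializes_iff).1 hsp
    have := hsi ⟨x, hi⟩ ⟨x', hi'⟩ hx hx' h1 h2 h3
    exact congrArg Subtype.val this

end Groth.Agent.H9.NEChart
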