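import Mathlib
import Groth.Agent.H32.QCBC.Defs
universe u v₁ u₁
open CategoryTheory Opposite Groth.Agent.H32.QCBC

namespace Groth.Agent.H9.FPres

/-- (SPAN) the image of `M(E)` spans `M(E')` when `M` has base change along `g`. -/
theorem span_range_eq_top_of_isBC {C : Type u₁} [Category.{v₁} C] (O : Cᵒᵖ ⥤ CommRingCat.{u})
    (M : PresheafOfModules.{u} (O ⋙ forget₂ CommRingCat RingCat)) {E E' : C} (g : E' ⟶ E)
    (hg : IsBC O M g) :
    Submodule.span (O.obj (op E'))
      (Set.range (fun t : M.obj (op E) => (M.map g.op t : M.obj (op E')))) = ⊤ := by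
  set N : Submodule (O.obj (op E')) (M.obj (op E')) := Submodule.span (O.obj (op E'))
      (Set.range (fun t : M.obj (op E) => (M.map g.op t : M.obj (op E')))) with hN
  obtain ⟨ψ', -, huniq⟩ := hg (M.obj (op E') ⧸ N) 0 (by intro a s; simp)
  have h1 : N.mkQ = ψ' := huniq N.mkQ (by
    intro s
    simp only [AddMonoidHom.zero_apply]
    rw [Submodule.mkQ_apply, Submodule.Quotient.mk_eq_zero]
    exact Submodule.subset_span ⟨s, rfl⟩)
  have h2 : (0 : M.obj (op E') →ₗ[O.obj (op E')] (M.obj (op E') ⧸ N)) = ψ' :=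
    huniq 0 (by intro s; simp)
  have h3 : N.mkQ = 0 := h1.trans h2.symm
  show N = ⊤
  rw [← Submodule.ker_mkQ N, h3, LinearMap.ker_zero]

end Groth.Agent.H9.FPres
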