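import Mathlib
universe u
open TensorProduct

namespace Groth.Agent.H9.FPres

/-- (FLATKER) flat base change of the kernel of `A^n → M`. -/
theorem mem_span_of_flat {A B : Type u} [CommRing A] [CommRing B] [Algebra A B] [Module.Flat A B]
    {M M' : Type u} [AddCommGroup M] [Module A M] [AddCommGroup M'] [Module A M'] [Module B M']
    [IsScalarTower A B M'] (ρ : M →ₗ[A] M') (hρ : IsBaseChange B ρ) {n : ℕ} (m : Fin n → M)
    (c : Fin n → B) (hc : ∑ j, c j • ρ (m j) = 0) :
    c ∈ Submodule.span B ((fun (a : Fin n → A) (j : Fin n) => algebraMap A B (a j)) ''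
      {a : Fin n → A | ∑ j, a j • m j = 0}) := by
  classical
  set T : Set (Fin n → B) := (fun (a : Fin n → A) (j : Fin n) => algebraMap A B (a j)) ''
      {a : Fin n → A | ∑ j, a j • m j = 0} with hT
  let π : (Fin n → A) →ₗ[A] M := Fintype.linearCombination A m
  have hπ : ∀ a, π a = ∑ j, a j • m j := fun a => Fintype.linearCombination_apply A m a
  let K := LinearMap.ker π
  have hex : Function.Exact K.subtype π := LinearMap.exact_subtype_ker_map π
  have hex' : Function.Exact (K.subtype.lTensor B) (π.lTensor B) :=
    Module.Flat.lTensor_exact B hex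
  let Φ : B ⊗[A] (Fin n → A) ≃ₗ[B] (Fin n → B) := TensorProduct.piScalarRight A B B (Fin n)
  have hΦ : ∀ (b : B) (a : Fin n → A), Φ (b ⊗ₜ[A] a) = fun j => a j • b := fun b a => by
    simp only [Φ, TensorProduct.piScalarRight_apply, TensorProduct.piScalarRightHom_tmul]
  let z : B ⊗[A] (Fin n → A) := ∑ j, c j ⊗ₜ[A] (Pi.single j (1 : A) : Fin n → A)
  have hz : Φ z = c := by
    simp only [z, map_sum, hΦ]
    ext i
    simp only [Finset.sum_apply]
    rw [Finset.sum_eq_single i]
    · simp
    · intro j _ hji
      simp [hji]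
    · intro h; exact absurd (Finset.mem_univ i) h
  have hπz : π.lTensor B z = 0 := by
    apply hρ.equiv.injective
    rw [map_zero]
    simp only [z, map_sum, LinearMap.lTensor_tmul, IsBaseChange.equiv_tmul]
    rw [← hc]
    refine Finset.sum_congr rfl (fun j _ => ?_)
    congr 2
    rw [hπ, Finset.sum_eq_single j]
    · simp
    · intro i _ hij
      simp [hij]
    · intro h; exact absurd (Finset.mem_univ j) h
  obtain ⟨y, hy⟩ := (hex' z).1 hπz
  have key : ∀ y : B ⊗[A] K, Φ (K.subtype.lTensor B y) ∈ Submodule.span B T := by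
    intro y
    induction y using TensorProduct.induction_on with
    | zero => simp
    | tmul b κ =>
      rw [LinearMap.lTensor_tmul, hΦ]
      have h1 : (fun j => (K.subtype κ) j • b) =
          b • (fun j => algebraMap A B ((κ : Fin n → A) j)) := by
        ext j
        simp [Algebra.smul_def, mul_comm]
      rw [h1]
      refine Submodule.smul_mem _ _ (Submodule.subset_span ⟨(κ : Fin n → A), ?_, rfl⟩)
      have := κ.2
      rw [LinearMap.mem_ker, hπ] at this
      exact this
    | add x y hx hy =>
      rw [map_add, map_add]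
      exact Submodule.add_mem _ hx hy
  rw [← hz, ← hy]
  exact key y

end Groth.Agent.H9.FPres
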