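import Mathlib
import Groth.Prelude.Def_FlatCA

/-!
# Weakly associated primes: transport lemmas

* `weakAss_congr`: invariance under linear equivalences.
* `ann_map_of_isLocalizedModule`, `mem_weakAss_map_iff`: weakly associated primes and localization,
  for arbitrary models (`IsLocalization`, `IsLocalizedModule`).
* `ann_tmul_of_flat`: the annihilator of `1 ⊗ m` in a flat base change.
* `mem_weakAss_tensor_of_flat_of_quasiFinite`: a prime over a weakly associated prime is weakly
  associated to the base change, for flat quasi-finite algebras.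
-/

set_option autoImplicit false
universe u v w

namespace Groth.Agent.H9.WeakAss

open Submodule TensorProduct

section Congr

variable {R : Type u} [CommRing R] {N : Type v} {N' : Type w} [AddCommGroup N] [Module R N]
  [AddCommGroup N'] [Module R N']

theorem ann_congr (e : N ≃ₗ[R] N') (m : N) :
    (span R {e m}).annihilator = (span R {m}).annihilator := by
  ext r
  rw [mem_annihilator_span_singleton, mem_annihilator_span_singleton, ← map_smul,
    LinearEquiv.map_eq_zero_iff]

theorem weakAss_subset_of_linearEquiv (e : N ≃ₗ[R] N') :
    FlatCA.weakAss R N ⊆ FlatCA.weakAss R N' := by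
  rintro p ⟨m, hm⟩
  exact ⟨e m, by rwa [ann_congr]⟩

theorem weakAss_congr (e : N ≃ₗ[R] N') : FlatCA.weakAss R N = FlatCA.weakAss R N' :=
  Set.Subset.antisymm (weakAss_subset_of_linearEquiv e) (weakAss_subset_of_linearEquiv e.symm)

theorem ann_unit_smul {u : R} (hu : IsUnit u) (m : N) :
    (span R {u • m}).annihilator = (span R {m}).annihilator := by
  ext r
  rw [mem_annihilator_span_singleton, mem_annihilator_span_singleton, smul_comm,
    hu.smul_eq_zero]

end Congr

section Loc

variable {R : Type u} [CommRing R] (S : Submonoid R) (A : Type v) [CommRing A] [Algebra R A]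
  [IsLocalization S A] {N : Type w} {N' : Type w} [AddCommGroup N] [Module R N]
  [AddCommGroup N'] [Module R N'] [Module A N'] [IsScalarTower R A N']
  (f : N →ₗ[R] N') [IsLocalizedModule S f]

include S in
theorem ann_map_of_isLocalizedModule (m : N) :
    (span A {f m}).annihilator = ((span R {m}).annihilator).map (algebraMap R A) := by
  ext x
  obtain ⟨r, s, rfl⟩ := IsLocalization.exists_mk'_eq S x
  rw [mem_annihilator_span_singleton, IsLocalization.mk'_mem_map_algebraMap_iff S]
  have h1 : IsLocalization.mk' A r s • f m = 0 ↔ r • f m = 0 := by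
    constructor
    · intro h
      have := congrArg (fun y => (algebraMap R A s) • y) h
      simp only [smul_zero, ← mul_smul] at this
      rwa [mul_comm, IsLocalization.mk'_spec, algebraMap_smul] at this
    · intro h
      rw [IsLocalization.mk'_eq_mul_mk'_one, mul_comm, mul_smul, algebraMap_smul, h, smul_zero]
  rw [h1, ← map_smul, IsLocalizedModule.eq_zero_iff S]
  constructor
  · rintro ⟨c, hc⟩
    refine ⟨c, c.2, ?_⟩
    rw [mem_annihilator_span_singleton, mul_smul]
    exact hc
  · rintro ⟨c, hc, h⟩
    refine ⟨⟨c, hc⟩, ?_⟩
    rw [mem_annihilator_span_singleton, mul_smul] at h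
    exact h

include S f in
theorem exists_ann_eq (y : N') :
    ∃ m : N, (span A {y}).annihilator = (span A {f m}).annihilator := by
  obtain ⟨⟨m, s⟩, hs⟩ := IsLocalizedModule.surj S f y
  refine ⟨m, ?_⟩
  have hu : IsUnit (algebraMap R A s) := IsLocalization.map_units A s
  have : f m = (algebraMap R A s) • y := by
    rw [algebraMap_smul]; exact hs.symm
  rw [this, ann_unit_smul hu]

include S f in
/-- Weakly associated primes and localization, for arbitrary models of the localizations. -/
theorem mem_weakAss_map_iff (p : Ideal R) [p.IsPrime] (hS : Disjoint (S : Set R) (p : Set R)) :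
    p ∈ FlatCA.weakAss R N ↔ p.map (algebraMap R A) ∈ FlatCA.weakAss A N' := by
  have hunder : Ideal.under R (Ideal.map (algebraMap R A) p) = p :=
    IsLocalization.under_map_of_isPrime_disjoint S A inferInstance hS
  constructor
  · rintro ⟨m, hp⟩
    refine ⟨f m, ?_⟩
    rw [ann_map_of_isLocalizedModule S A f, IsLocalization.minimalPrimes_map S, Set.mem_preimage,
      hunder]
    exact hp
  · rintro ⟨y, hq⟩
    obtain ⟨m, hm⟩ := exists_ann_eq S A f y
    rw [hm, ann_map_of_isLocalizedModule S A f, IsLocalization.minimalPrimes_map S,
      Set.mem_preimage, hunder] at hq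
    exact ⟨m, hq⟩

end Loc

section Flat

variable {A : Type u} {B : Type v} [CommRing A] [CommRing B] [Algebra A B]
  (M : Type w) [AddCommGroup M] [Module A M]

/-- For a flat `A`-algebra `B`, the annihilator of `1 ⊗ m` in `B ⊗ M` is the extension of the
annihilator of `m`. -/
theorem ann_tmul_of_flat [Module.Flat A B] (m : M) :
    (span B {(1 : B) ⊗ₜ[A] m}).annihilator = ((span A {m}).annihilator).map (algebraMap A B) := by
  set I : Ideal A := (span A {m}).annihilator with hI
  apply le_antisymm
  · intro b hb
    rw [mem_annihilator_span_singleton, TensorProduct.smul_tmul', smul_eq_mul, mul_one] at hb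
    let g : A →ₗ[A] M := LinearMap.toSpanSingleton A M m
    have hker : LinearMap.ker g = I := by
      ext a
      rw [LinearMap.mem_ker, hI, mem_annihilator_span_singleton]
      rfl
    have hex : Function.Exact ((LinearMap.ker g).subtype.lTensor B) (g.lTensor B) :=
      Module.Flat.lTensor_exact B (LinearMap.exact_subtype_ker_map g)
    have hb' : g.lTensor B (b ⊗ₜ[A] (1 : A)) = 0 := by
      rw [LinearMap.lTensor_tmul]
      simpa [g] using hb
    obtain ⟨x, hx⟩ := (hex _).mp hb'
    have key : ∀ x : B ⊗[A] (LinearMap.ker g),
        (TensorProduct.rid A B) ((LinearMap.ker g).subtype.lTensor B x) ∈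
          I.map (algebraMap A B) := by
      intro x
      induction x using TensorProduct.induction_on with
      | zero => simp
      | tmul b' a =>
        rw [LinearMap.lTensor_tmul, TensorProduct.rid_tmul, Submodule.subtype_apply,
          Algebra.smul_def]
        apply Ideal.mul_mem_right
        apply Ideal.mem_map_of_mem
        rw [← hker]; exact a.2
      | add x y hx hy =>
        rw [map_add, map_add]
        exact Ideal.add_mem _ hx hy
    have := key x
    rwa [hx, TensorProduct.rid_tmul, one_smul] at this
  · rw [Ideal.map_le_iff_le_comap]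
    intro a ha
    rw [Ideal.mem_comap, mem_annihilator_span_singleton, Algebra.algebraMap_eq_smul_one,
      smul_assoc, one_smul, TensorProduct.smul_tmul', TensorProduct.smul_tmul, 
      (mem_annihilator_span_singleton _ _).mp ha, TensorProduct.tmul_zero]

/-- A prime of a flat quasi-finite algebra lying over a weakly associated prime of `M` is weakly
associated to the base change of `M`. -/
theorem mem_weakAss_tensor_of_flat_of_quasiFinite [Module.Flat A B] [Algebra.QuasiFinite A B]
    (p : Ideal A) [p.IsPrime] (t : Ideal B) [t.IsPrime] [t.LiesOver p]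
    (hp : p ∈ FlatCA.weakAss A M) : t ∈ FlatCA.weakAss B (B ⊗[A] M) := by
  obtain ⟨m, hm⟩ := hp
  refine ⟨(1 : B) ⊗ₜ[A] m, ?_⟩
  rw [ann_tmul_of_flat]
  have hpt : p = t.under A := Ideal.LiesOver.over
  refine ⟨⟨inferInstance, ?_⟩, ?_⟩
  · rw [Ideal.map_le_iff_le_comap]
    have := hm.1.2
    rw [hpt] at this
    exact this
  · rintro t' ⟨ht', hle⟩ htt'
    have h1 : (span A {m}).annihilator ≤ t'.under A := by
      rw [Ideal.map_le_iff_le_comap] at hle
      exact hle
    have h2 : t'.under A ≤ p := by
      rw [hpt]; exact Ideal.comap_mono htt'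
    have := ht'
    have h3 : p ≤ t'.under A := hm.2 ⟨inferInstance, h1⟩ h2
    have h4 : t'.under A = t.under A := by
      rw [← hpt]; exact le_antisymm h2 h3
    exact (Algebra.QuasiFinite.eq_of_le_of_under_eq (R := A) t' t htt' h4).ge

end Flat

end Groth.Agent.H9.WeakAss
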