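import Mathlib

/-! # (TR2), (INJ) for helper95's S7894 -/

set_option autoImplicit false
set_option linter.style.haveILetI false
universe u
open CategoryTheory CategoryTheory.Limits AlgebraicGeometry

namespace Groth.Agent.H9.FB

/-- a point of an affine open outside the support of `L`, where `L = (t)`, lies in `D(t)` -/
theorem mem_basicOpen_of_not_mem_support {Y : Scheme.{u}} (L : Y.IdealSheafData)
    (U : Y.affineOpens) (t : Γ(Y, U.1)) (ht : L.ideal U = Ideal.span {t}) (y : Y) (hyU : y ∈ U.1)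
    (hy : y ∉ L.support) : y ∈ Y.basicOpen t := by
  rw [Scheme.IdealSheafData.mem_support_iff_of_mem hyU, ht, Scheme.zeroLocus_span,
    Scheme.mem_zeroLocus_iff] at hy
  push_neg at hy
  obtain ⟨g, hg, hyg⟩ := hy
  rw [Set.mem_singleton_iff] at hg
  subst hg
  exact hyg

/-- (TR2) -/
theorem TR2 {X Y : Scheme.{u}} [IsReduced X] (f : X ⟶ Y) (L : Y.IdealSheafData)
    (hdense : Dense (f.base ⁻¹' ((L.support : Set Y)ᶜ))) (U : Y.affineOpens)
    (hV : IsAffineOpen (f ⁻¹ᵁ U.1)) (t : Γ(Y, U.1)) (ht : L.ideal U = Ideal.span {t}) :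
    (f.app U.1).hom t ∈ nonZeroDivisors Γ(X, f ⁻¹ᵁ U.1) := by
  rw [mem_nonZeroDivisors_iff_right]
  intro a ha
  rw [← basicOpen_eq_bot_iff]
  by_contra hne
  have hne' : ((X.basicOpen a : X.Opens) : Set X).Nonempty :=
    (TopologicalSpace.Opens.ne_bot_iff_nonempty _).mp hne
  obtain ⟨x, hxa, hxL⟩ := hdense.inter_open_nonempty _ (X.basicOpen a).2 hne'
  have hxU : x ∈ f ⁻¹ᵁ U.1 := X.basicOpen_le a hxa
  have hfx : f.base x ∈ Y.basicOpen t :=
    mem_basicOpen_of_not_mem_support L U t ht (f.base x) hxU hxL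
  have hx2 : x ∈ X.basicOpen ((f.app U.1).hom t) := by
    have : x ∈ f ⁻¹ᵁ Y.basicOpen t := hfx
    rw [Scheme.preimage_basicOpen] at this
    exact this
  have hx3 : x ∈ X.basicOpen (a * (f.app U.1).hom t) := by
    rw [Scheme.basicOpen_mul]
    exact ⟨hxa, hx2⟩
  rw [ha, Scheme.basicOpen_zero] at hx3
  exact hx3

end Groth.Agent.H9.FB
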