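import Mathlib
import Groth.Agent.H9.FB_TR2

/-! # (INJ) for helper95's S7894 -/

set_option autoImplicit false
set_option linter.style.haveILetI false
universe u
open CategoryTheory CategoryTheory.Limits AlgebraicGeometry

namespace Groth.Agent.H9.FB

/-- if `f` is an isomorphism over `W` then `f.app O` is bijective for `O ≤ W` -/
theorem app_bijective_of_le {X Y : Scheme.{u}} (f : X ⟶ Y) (W : Y.Opens) (hiso : IsIso (f ∣_ W))
    (O : Y.Opens) (hO : O ≤ W) : Function.Bijective (f.app O).hom := by
  have key : W.ι ''ᵁ (W.ι ⁻¹ᵁ O) = O := by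
    simpa [Scheme.Hom.image_preimage_eq_opensRange_inf] using hO
  obtain ⟨V, hV⟩ : ∃ V : W.toScheme.Opens, W.ι ''ᵁ V = O := ⟨_, key⟩
  subst hV
  have h1 := morphismRestrict_app f W V
  have hb1 : Function.Bijective ((f ∣_ W).app V).hom :=
    (ConcreteCategory.isIso_iff_bijective ((f ∣_ W).app V)).mp inferInstance
  have e := image_morphismRestrict_preimage f W V
  have hb2 : Function.Bijective (X.presheaf.map (eqToHom e).op).hom :=
    (ConcreteCategory.isIso_iff_bijective (X.presheaf.map (eqToHom e).op)).mp inferInstance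
  rw [h1] at hb1
  have hb3 : Function.Bijective ((X.presheaf.map (eqToHom e).op).hom ∘ (f.app (W.ι ''ᵁ V)).hom) := by
    rw [← RingHom.coe_comp, ← CommRingCat.hom_comp]
    exact hb1
  exact (Function.Bijective.of_comp_iff' hb2 _).mp hb3

/-- (INJ) -/
theorem INJ {X Y : Scheme.{u}} (f : X ⟶ Y) (L : Y.IdealSheafData)
    (hiso : IsIso (f ∣_ L.support.compl)) (U : Y.affineOpens) (t : Γ(Y, U.1))
    (htn : t ∈ nonZeroDivisors Γ(Y, U.1)) (ht : L.ideal U = Ideal.span {t}) :
    Function.Injective (f.app U.1).hom := by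
  rw [injective_iff_map_eq_zero]
  intro b hb
  -- `D(t) ≤ (supp L)ᶜ`
  have hO : Y.basicOpen t ≤ L.support.compl := by
    intro y hy
    have hyU : y ∈ U.1 := Y.basicOpen_le t hy
    show y ∉ L.support
    rw [Scheme.IdealSheafData.mem_support_iff_of_mem hyU, ht, Scheme.zeroLocus_span,
      Scheme.mem_zeroLocus_iff]
    intro h
    exact h t rfl hy
  have hinj := (app_bijective_of_le f _ hiso (Y.basicOpen t) hO).1
  -- `b` vanishes on `D(t)`
  have hres : Y.presheaf.map (homOfLE (Y.basicOpen_le t)).op b = 0 := by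
    apply hinj
    rw [map_zero]
    have hnat := f.naturality (homOfLE (Y.basicOpen_le t)).op
    have := congrArg (fun ψ => ψ.hom b) hnat
    simp only [CommRingCat.hom_comp, RingHom.coe_comp, Function.comp_apply] at this
    rw [this, hb, map_zero]
  -- localization
  haveI := U.2.isLocalization_basicOpen t
  have hres' : algebraMap Γ(Y, U.1) Γ(Y, Y.basicOpen t) b = 0 := hres
  rw [IsLocalization.map_eq_zero_iff (Submonoid.powers t)] at hres'
  obtain ⟨⟨_, k, rfl⟩, hk⟩ := hres'
  have hnz : t ^ k ∈ nonZeroDivisors Γ(Y, U.1) := pow_mem htn k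
  exact (mul_left_mem_nonZeroDivisors_eq_zero_iff hnz).mp hk

end Groth.Agent.H9.FB
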