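import Mathlib

/-! # (RING) for helper95's S7894 -/

set_option autoImplicit false
set_option linter.style.haveILetI false
universe u

namespace Groth.Agent.H9.FB

/-- (RING) -/
theorem RING {B A : Type u} [CommRing B] [CommRing A] (φ : B →+* A) (hfin : φ.Finite) (t : B)
    (hloc : ∀ a : A, ∃ (k : ℕ) (b : B), φ t ^ k * a = φ b) :
    ∃ n₀ : ℕ, ∀ n : ℕ, n₀ ≤ n → ∀ a : A, ∃ b : B, φ b = φ t ^ n * a := by
  classical
  letI : Algebra B A := φ.toAlgebra
  have hfin' : Module.Finite B A := hfin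
  obtain ⟨S, hS⟩ := hfin'.fg_top
  choose k b hkb using hloc
  refine ⟨S.sup k, fun n hn => ?_⟩
  let N : Submodule B A :=
    { carrier := {a | ∃ c : B, φ c = φ t ^ n * a}
      zero_mem' := ⟨0, by simp⟩
      add_mem' := by
        rintro x y ⟨c, hc⟩ ⟨d, hd⟩
        exact ⟨c + d, by rw [map_add, hc, hd, mul_add]⟩
      smul_mem' := by
        rintro r x ⟨c, hc⟩
        refine ⟨r * c, ?_⟩
        rw [map_mul, hc, Algebra.smul_def]
        change φ r * (φ t ^ n * x) = φ t ^ n * (φ r * x)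
        ring }
  have hSN : (S : Set A) ⊆ N := by
    intro s hs
    have hks : k s ≤ n := (Finset.le_sup (f := k) hs).trans hn
    refine ⟨t ^ (n - k s) * b s, ?_⟩
    rw [map_mul, map_pow, ← hkb s, ← mul_assoc, ← pow_add, Nat.sub_add_cancel hks]
  have hle : (⊤ : Submodule B A) ≤ N := by
    rw [← hS]
    exact Submodule.span_le.mpr hSN
  intro a
  exact hle (Submodule.mem_top : a ∈ (⊤ : Submodule B A))

end Groth.Agent.H9.FB
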