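import Mathlib

/-!
# The generic point of `Spec A₁` goes to the generic point of `Y` (helper9, piece (CGEN) for
helper38 / S0420)
-/

set_option autoImplicit false
set_option linter.style.haveILetI false
universe u
open TensorProduct AlgebraicGeometry CategoryTheory Limits

namespace Groth.Agent.H9.ConnCGEN

/-- (CGEN) the generic point of `Spec A₁` goes to the generic point of `Y`. -/
theorem map_genericPoint_eq {Y : Scheme.{u}} [IrreducibleSpace ↑Y] {W : Y.Opens}
    (hW : IsAffineOpen W) {A₁ : CommRingCat.{u}} [IsDomain A₁] (φ : Γ(Y, W) ⟶ A₁)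
    (hker : ∀ P : Ideal Γ(Y, W), P.IsPrime → RingHom.ker φ.hom ≤ P) :
    (Spec.map φ ≫ hW.fromSpec) (genericPoint ↑(Spec A₁)) = genericPoint ↑Y := by
  set ξ := genericPoint ↑(Spec A₁) with hξ
  set η := genericPoint ↑Y with hη
  have hy : (Spec.map φ ≫ hW.fromSpec) ξ = hW.fromSpec (Spec.map φ ξ) := rfl
  -- `η ∈ W`
  have hyW : hW.fromSpec (Spec.map φ ξ) ∈ W := by
    have : hW.fromSpec (Spec.map φ ξ) ∈ Set.range hW.fromSpec := ⟨_, rfl⟩
    rw [hW.range_fromSpec] at this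
    exact this
  have hηW : η ∈ W :=
    ((genericPoint_spec ↑Y).mem_open_set_iff W.2).mpr ⟨_, Set.mem_univ _, hyW⟩
  obtain ⟨η', hη'⟩ : ∃ η' : Spec Γ(Y, W), hW.fromSpec η' = η := by
    have : η ∈ Set.range hW.fromSpec := by rw [hW.range_fromSpec]; exact hηW
    exact this
  -- specialization in `Spec Γ(Y, W)`
  let ζ : Spec A₁ := (⟨⊥, Ideal.isPrime_bot⟩ : PrimeSpectrum A₁)
  have h1 : ξ ⤳ ζ := (genericPoint_spec ↑(Spec A₁)).specializes (Set.mem_univ _)
  have h2 : Spec.map φ ξ ⤳ Spec.map φ ζ := h1.map (Spec.map φ).continuous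
  have h3 : Spec.map φ ζ ⤳ η' := by
    refine (PrimeSpectrum.le_iff_specializes (PrimeSpectrum.comap φ.hom ζ)
      (η' : PrimeSpectrum Γ(Y, W))).mp ?_
    show (PrimeSpectrum.comap φ.hom ζ).asIdeal ≤ (η' : PrimeSpectrum Γ(Y, W)).asIdeal
    exact hker _ (η' : PrimeSpectrum Γ(Y, W)).2
  have h4 : hW.fromSpec (Spec.map φ ξ) ⤳ η := by
    rw [← hη']
    exact (h2.trans h3).map hW.fromSpec.continuous
  have h5 : η ⤳ hW.fromSpec (Spec.map φ ξ) :=
    (genericPoint_spec ↑Y).specializes (Set.mem_univ _)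
  rw [hy]
  exact (h4.antisymm h5).eq

end Groth.Agent.H9.ConnCGEN
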