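import Groth.Prelude.Def_RegImm
import Groth.Agent.S1679

/-!
# Regular immersions (`RegImm.IsRegularImmersionAt`, kind regular) and stalks

* `exists_isRegular_ker_stalkMap_of_isRegularImmersionAt`: regular at `z` ⟹ the kernel of the
  stalk map at `z` is generated by a regular sequence;
* `isRegularImmersionAt_of_exists_isRegular_ker_stalkMap`: the converse over a locally Noetherian
  target, given an open over which the morphism is a closed immersion;
* `exists_affine_isClosedImmersion_restrict`: an immersion restricts to a closed immersion over a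
  small affine open around any point of the image.
-/

set_option autoImplicit false
universe u

open CategoryTheory AlgebraicGeometry TopologicalSpace RingTheory.Sequence

namespace Groth.Agent.H9

/-- Transfer of "kernel generated by a regular sequence" along a commuting square of ring isos. -/
theorem exists_isRegular_ker_of_equiv {A B A' B' : Type u} [CommRing A] [CommRing B] [CommRing A']
    [CommRing B'] (φ : A →+* B) (φ' : A' →+* B') (σ : A ≃+* A') (τ : B ≃+* B')
    (hcomm : ∀ a, φ' (σ a) = τ (φ a))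
    (h : ∃ rs : List A, IsRegular A rs ∧ RingHom.ker φ = Ideal.ofList rs) :
    ∃ rs : List A', IsRegular A' rs ∧ RingHom.ker φ' = Ideal.ofList rs := by
  obtain ⟨rs, hrs, hker⟩ := h
  refine ⟨rs.map σ.toRingHom, ?_, ?_⟩
  · exact (AddEquiv.isRegular_congr (e := σ.toAddEquiv)
      (List.forall₂_map_right_iff.mpr (List.forall₂_same.mpr fun r _ x => map_mul σ r x))).1 hrs
  · rw [← Ideal.map_ofList, ← hker]
    apply le_antisymm
    · intro a' ha'
      rw [RingHom.mem_ker] at ha'
      have h1 : φ (σ.symm a') = 0 := by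
        apply τ.injective
        rw [← hcomm, σ.apply_symm_apply, ha', map_zero]
      have h2 : σ.symm a' ∈ RingHom.ker φ := h1
      have h3 := Ideal.mem_map_of_mem σ.toRingHom h2
      have h4 : σ.toRingHom (σ.symm a') = a' := σ.apply_symm_apply a'
      rwa [h4] at h3
    · rw [Ideal.map_le_iff_le_comap]
      intro a ha
      rw [RingHom.mem_ker] at ha
      rw [Ideal.mem_comap, RingHom.mem_ker]
      change φ' (σ a) = 0
      rw [hcomm, ha, map_zero]

/-- The same transfer along an isomorphism of arrows of commutative rings. -/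
theorem exists_isRegular_ker_of_arrow_iso {A B A' B' : CommRingCat.{u}} (φ : A ⟶ B) (φ' : A' ⟶ B')
    (e : Arrow.mk φ ≅ Arrow.mk φ')
    (h : ∃ rs : List A, IsRegular A rs ∧ RingHom.ker φ.hom = Ideal.ofList rs) :
    ∃ rs : List A', IsRegular A' rs ∧ RingHom.ker φ'.hom = Ideal.ofList rs := by
  refine exists_isRegular_ker_of_equiv φ.hom φ'.hom
    (Arrow.leftFunc.mapIso e).commRingCatIsoToRingEquiv
    (Arrow.rightFunc.mapIso e).commRingCatIsoToRingEquiv ?_ h
  intro a
  have hw : e.hom.left ≫ φ' = φ ≫ e.hom.right := Arrow.w e.hom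
  exact congrArg (fun f => f.hom a) hw

theorem ker_morphismRestrict_app {X Y : Scheme.{u}} (f : X ⟶ Y) (U : Y.Opens)
    (V : U.toScheme.Opens) :
    RingHom.ker ((f ∣_ U).app V).hom = RingHom.ker (f.app (U.ι ''ᵁ V)).hom := by
  ext x
  simpa [Scheme.Hom.appLE] using! map_eq_zero_iff _
    (ConcreteCategory.bijective_of_isIso
      (X.presheaf.map (eqToHom (image_morphismRestrict_preimage f U V)).op)).1

/-- A morphism regular at `z` (kind regular) has stalk-map kernel generated by a regular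
sequence. -/
theorem exists_isRegular_ker_stalkMap_of_isRegularImmersionAt {Z X : Scheme.{u}} (i : Z ⟶ X)
    (z : Z) (h : RegImm.IsRegularImmersionAt RegImm.Kind.regular i z) :
    ∃ rs : List (X.presheaf.stalk (i z)), IsRegular (X.presheaf.stalk (i z)) rs ∧
      RingHom.ker (i.stalkMap z).hom = Ideal.ofList rs := by
  obtain ⟨U, hzU, hcl, rs, hrs, hker⟩ := h
  have hzU' : z ∈ i ⁻¹ᵁ U.1 := hzU
  haveI : IsAffine U.1.toScheme := U.2
  have hT : IsAffineOpen (⊤ : U.1.toScheme.Opens) := isAffineOpen_top _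
  have key : ∀ U' : X.Opens, U' = U.1 → ∃ rs' : List Γ(X, U'), IsRegular Γ(X, U') rs' ∧
      RingHom.ker (i.app U').hom = Ideal.ofList rs' := by
    rintro _ rfl; exact ⟨rs, hrs, hker⟩
  obtain ⟨rs', hrs', hker'⟩ := key (U.1.ι ''ᵁ ⊤) (Scheme.Opens.ι_image_top _)
  have hjker : (i ∣_ U.1).ker.ideal ⟨⊤, hT⟩ = Ideal.ofList rs' := by
    refine Eq.trans ?_ hker'
    rw [Scheme.Hom.ker_apply]
    exact ker_morphismRestrict_app i U.1 ⊤
  have h1 := Groth.Agent.S1679.forward (i ∣_ U.1) ⟨z, hzU'⟩ ⟨⊤, hT⟩ trivial rs' hrs' hjker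
  exact exists_isRegular_ker_of_arrow_iso _ _ (morphismRestrictStalkMap i U.1 ⟨z, hzU'⟩) h1

/-- Over a locally Noetherian scheme: if `i` restricts to a closed immersion over an open `U₀`
containing `i z` and the kernel of the stalk map at `z` is generated by a regular sequence, then `i`
is regular at `z`. -/
theorem isRegularImmersionAt_of_exists_isRegular_ker_stalkMap {Z X : Scheme.{u}}
    [IsLocallyNoetherian X] (i : Z ⟶ X) (z : Z) (U₀ : X.Opens) (hzU₀ : i z ∈ U₀)
    [IsClosedImmersion (i ∣_ U₀)]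
    (h : ∃ rs : List (X.presheaf.stalk (i z)), IsRegular (X.presheaf.stalk (i z)) rs ∧
      RingHom.ker (i.stalkMap z).hom = Ideal.ofList rs) :
    RegImm.IsRegularImmersionAt RegImm.Kind.regular i z := by
  have hz' : z ∈ i ⁻¹ᵁ U₀ := hzU₀
  have h' := exists_isRegular_ker_of_arrow_iso _ _ (morphismRestrictStalkMap i U₀ ⟨z, hz'⟩).symm h
  obtain ⟨V, hV, -, hreg⟩ := (Groth.Agent.S1679.result (i ∣_ U₀) ⟨z, hz'⟩).2 h'
  obtain ⟨U₁, hU₁, hzU₁, rs, hrs, hker⟩ := hreg ⟨⟨z, hz'⟩, hV⟩
  have hW : IsAffineOpen (V.ι ''ᵁ U₁) := hU₁.image_of_isOpenImmersion V.ι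
  have hU : IsAffineOpen (U₀.ι ''ᵁ (V.ι ''ᵁ U₁)) := hW.image_of_isOpenImmersion U₀.ι
  refine ⟨⟨U₀.ι ''ᵁ (V.ι ''ᵁ U₁), hU⟩, ?_, ?_, rs, hrs, ?_⟩
  · refine ⟨(i ∣_ U₀) ⟨z, hz'⟩, ⟨((i ∣_ U₀) ∣_ V) ⟨⟨z, hz'⟩, hV⟩, hzU₁, ?_⟩, ?_⟩
    · exact morphismRestrict_base_coe (i ∣_ U₀) V ⟨⟨z, hz'⟩, hV⟩
    · exact morphismRestrict_base_coe i U₀ ⟨z, hz'⟩
  · exact (MorphismProperty.arrow_mk_iso_iff @IsClosedImmersion
      (morphismRestrictRestrict i U₀ (V.ι ''ᵁ U₁))).1 inferInstance
  · refine Eq.trans ?_ hker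
    rw [Scheme.ker_morphismRestrict_ideal (i ∣_ U₀) V ⟨U₁, hU₁⟩, Scheme.Hom.ker_apply]
    exact (ker_morphismRestrict_app i U₀ (V.ι ''ᵁ U₁)).symm

/-- An immersion restricts to a closed immersion over a small affine open around a point of its
image. -/
theorem exists_affine_isClosedImmersion_restrict {Z X : Scheme.{u}} (i : Z ⟶ X) [IsImmersion i]
    (z : Z) : ∃ U₀ : X.Opens, IsAffineOpen U₀ ∧ i z ∈ U₀ ∧ IsClosedImmersion (i ∣_ U₀) := by
  have hz : i z ∈ i.coborderRange := subset_coborder (Set.mem_range_self z)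
  obtain ⟨U₀, hU₀, hzU₀, hle⟩ :=
    exists_isAffineOpen_mem_and_subset (x := i z) (U := i.coborderRange) hz
  refine ⟨U₀, hU₀, hzU₀, ?_⟩
  refine IsClosedImmersion.of_isPreimmersion _ ?_
  have h0 : Set.range (i ∣_ U₀) = (Subtype.val ⁻¹' Set.range i : Set U₀) := by
    ext u
    simp only [Set.mem_range, Set.mem_preimage]
    constructor
    · rintro ⟨w, rfl⟩
      exact ⟨w.1, (morphismRestrict_base_coe i U₀ w).symm⟩
    · rintro ⟨z₀, hz₀⟩
      have hz₀' : z₀ ∈ i ⁻¹ᵁ U₀ := by
        change i z₀ ∈ U₀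
        rw [hz₀]; exact u.2
      exact ⟨⟨z₀, hz₀'⟩, Subtype.ext ((morphismRestrict_base_coe i U₀ ⟨z₀, hz₀'⟩).trans hz₀)⟩
  rw [h0]
  have h1 : (Subtype.val ⁻¹' Set.range i : Set U₀) = Subtype.val ⁻¹' closure (Set.range i) := by
    ext u
    simp only [Set.mem_preimage]
    constructor
    · intro hu; exact subset_closure hu
    · intro hu
      have h2 : u.1 ∈ coborder (Set.range i) ∩ closure (Set.range i) := ⟨hle u.2, hu⟩
      rwa [coborder_inter_closure] at h2
  rw [h1]
  exact isClosed_closure.preimage continuous_subtype_val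

end Groth.Agent.H9
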