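import Groth.Agent.H9.CMFlatRing
import Groth.Agent.H9.FibDimTop
import Groth.Agent.H29.FiberStalkAt
import Groth.Prelude.Def_MoreMor

/-!
# Scheme-level charts for EGA IV 15.4.3 (S4949): fibre stalks vs fibre local rings, local dimension,
flatness of stalk maps, and the standard morphisms `W → 𝔸ⁿ_Y` attached to ring maps `R[t] → Γ(X, W)`.
-/
set_option autoImplicit false
set_option linter.style.haveILetI false
universe u
open TensorProduct Algebra.TensorProduct Ideal AlgebraicGeometry CategoryTheory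

namespace Groth.Agent.H9.CMFlatSch


attribute [local instance] Groth.Agent.H15.FlatLoc.isLocalRing_fibLocRing

theorem map_maximalIdeal_of_ringEquiv {A A' : Type*} [CommRing A] [CommRing A'] [IsLocalRing A]
    [IsLocalRing A'] (α : A ≃+* A') :
    (IsLocalRing.maximalIdeal A).map (α : A →+* A') = IsLocalRing.maximalIdeal A' := by
  haveI : IsLocalHom (α : A →+* A') := ⟨fun a ha => (isUnit_map_iff α a).mp ha⟩
  have h := ((IsLocalRing.local_hom_TFAE (α : A →+* A')).out 0 4 rfl rfl).mp inferInstance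
  rw [← h]
  exact Ideal.map_comap_of_surjective (α : A →+* A') α.surjective _

/-- An isomorphism of arrows of local rings induces an isomorphism of the closed-fibre rings. -/
noncomputable def quotEquivOfArrow {A B A' B' : Type*} [CommRing A] [CommRing B] [CommRing A']
    [CommRing B'] [IsLocalRing A] [IsLocalRing A'] (g : A →+* B) (g' : A' →+* B')
    (α : A ≃+* A') (β : B ≃+* B') (h : ∀ a, β (g a) = g' (α a)) :
    (B ⧸ (IsLocalRing.maximalIdeal A).map g) ≃+* (B' ⧸ (IsLocalRing.maximalIdeal A').map g') :=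
  Ideal.quotientEquiv _ _ β (by
    rw [← map_maximalIdeal_of_ringEquiv α, Ideal.map_map, Ideal.map_map]
    congr 1
    ext a
    exact (h a).symm)

variable {X Y : Scheme.{u}}

theorem nonempty_fibreStalk_equiv (f : X ⟶ Y) (x : X) {V : Y.Opens} (hV : IsAffineOpen V)
    {W : X.Opens} (hW : IsAffineOpen W) (hWV : W ≤ f ⁻¹ᵁ V) (hx : x ∈ W) :
    letI := (f.appLE V W hWV).hom.toAlgebra
    Nonempty ((f.fiber (f x)).presheaf.stalk (f.asFiber x) ≃+*
      EGA4.FibLocRing Γ(Y, V) Γ(X, W) (hW.primeIdealOf ⟨x, hx⟩).asIdeal) := by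
  letI := (f.appLE V W hWV).hom.toAlgebra
  obtain ⟨e0⟩ := Groth.Agent.H29.FiberStalkAt.nonempty_fiberStalkEquiv f x
  have hpq : (hV.primeIdealOf ⟨f x, hWV hx⟩).asIdeal =
      (hW.primeIdealOf ⟨x, hx⟩).asIdeal.comap (f.appLE V W hWV).hom :=
    congr($(IsAffineOpen.comap_primeIdealOf_appLE V hV W hW hWV hx).1).symm
  let ar := IsAffineOpen.arrowStalkMapIso f V hV W hW hWV hx
  let α : Y.presheaf.stalk (f x) ≃+* Localization.AtPrime (hV.primeIdealOf ⟨f x, hWV hx⟩).asIdeal :=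
    (Arrow.leftFunc.mapIso ar).commRingCatIsoToRingEquiv
  let β : X.presheaf.stalk x ≃+* Localization.AtPrime (hW.primeIdealOf ⟨x, hx⟩).asIdeal :=
    (Arrow.rightFunc.mapIso ar).commRingCatIsoToRingEquiv
  have h : ∀ a, β ((f.stalkMap x).hom a) =
      Localization.localRingHom _ _ (f.appLE V W hWV).hom hpq (α a) := by
    intro a
    have := ar.hom.w
    exact (congr($(this) a)).symm
  let e1 := quotEquivOfArrow (f.stalkMap x).hom
    (Localization.localRingHom _ _ (f.appLE V W hWV).hom hpq) α β h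
  have hI : (IsLocalRing.maximalIdeal (Localization.AtPrime (hV.primeIdealOf ⟨f x, hWV hx⟩).asIdeal)).map
      (Localization.localRingHom _ _ (f.appLE V W hWV).hom hpq) =
      ((hW.primeIdealOf ⟨x, hx⟩).asIdeal.comap (algebraMap Γ(Y, V) Γ(X, W))).map
        (algebraMap Γ(Y, V) (Localization.AtPrime (hW.primeIdealOf ⟨x, hx⟩).asIdeal)) := by
    rw [← Localization.AtPrime.map_eq_maximalIdeal, Ideal.map_map]
    have h2 : (Localization.localRingHom _ _ (f.appLE V W hWV).hom hpq).comp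
        (algebraMap Γ(Y, V) (Localization.AtPrime (hV.primeIdealOf ⟨f x, hWV hx⟩).asIdeal)) =
        algebraMap Γ(Y, V) (Localization.AtPrime (hW.primeIdealOf ⟨x, hx⟩).asIdeal) := by
      ext r
      simp only [RingHom.comp_apply]
      rw [Localization.localRingHom_to_map,
        IsScalarTower.algebraMap_apply Γ(Y, V) Γ(X, W) (Localization.AtPrime _)]
      rfl
    rw [h2]
    congr 1
  exact ⟨e0.symm.trans (e1.trans (Ideal.quotEquivOfEq hI))⟩



open Groth.Agent.H9.FibDim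

variable {X Y : Scheme.{u}}

theorem ringKrullDim_lt_top_of_finiteType (k T : Type u) [Field k] [CommRing T] [Algebra k T]
    [Algebra.FiniteType k T] : ringKrullDim T < ⊤ := by
  obtain ⟨m, φ, hφ⟩ := Algebra.FiniteType.iff_quotient_mvPolynomial''.mp
    (inferInstance : Algebra.FiniteType k T)
  refine lt_of_le_of_lt (ringKrullDim_le_of_surjective φ.toRingHom hφ) ?_
  rw [Groth.Agent.H54.ringKrullDim_mvPolynomial_field]
  exact WithBot.coe_lt_coe.mpr (ENat.coe_lt_top m)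

theorem localDim_fiber_eq_fibreDimAt (f : X ⟶ Y) (x : X) {V : Y.Opens} (hV : IsAffineOpen V)
    {W : X.Opens} (hW : IsAffineOpen W) (hWV : W ≤ f ⁻¹ᵁ V) (hx : x ∈ W) :
    letI := (f.appLE V W hWV).hom.toAlgebra
    ∀ (p : Ideal Γ(Y, V)) [p.IsPrime]
      (_ : (hW.primeIdealOf ⟨x, hx⟩).asIdeal.under Γ(Y, V) = p)
      (Q : PrimeSpectrum (p.Fiber Γ(X, W)))
      (_ : Q.asIdeal.comap (includeRight : Γ(X, W) →ₐ[Γ(Y, V)] p.Fiber Γ(X, W)) =
        (hW.primeIdealOf ⟨x, hx⟩).asIdeal),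
      FlatMor.localDim (PrimeSpectrum (p.Fiber Γ(X, W))) Q = FlatMor.fibreDimAt f x := by
  letI := (f.appLE V W hWV).hom.toAlgebra
  intro p _ hp Q hQ
  rw [localDim_fiber_eq_tfd p (hW.primeIdealOf ⟨x, hx⟩) hp Q hQ]
  have h1 := fibreDimAt_fromSpec f hW hV hWV (hW.primeIdealOf ⟨x, hx⟩)
  rw [hW.fromSpec_primeIdealOf ⟨x, hx⟩] at h1
  exact h1.symm

theorem exists_nat_fibreDimAt (f : X ⟶ Y) [LocallyOfFiniteType f] (x : X) :
    ∃ n : ℕ, FlatMor.fibreDimAt f x = (n : WithBot ℕ∞) := by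
  obtain ⟨V, hV, hxV, -⟩ :=
    exists_isAffineOpen_mem_and_subset (X := Y) (x := f.base x) (U := ⊤) trivial
  obtain ⟨W, hW, hxW, e⟩ :=
    exists_isAffineOpen_mem_and_subset (X := X) (x := x) (U := f ⁻¹ᵁ V) hxV
  letI : Algebra Γ(Y, V) Γ(X, W) := (f.appLE V W e).hom.toAlgebra
  haveI : Algebra.FiniteType Γ(Y, V) Γ(X, W) := f.finiteType_appLE hV hW e
  obtain ⟨Q, hQ⟩ := exists_fiber_prime ((hW.primeIdealOf ⟨x, hxW⟩).asIdeal.under Γ(Y, V))
    (hW.primeIdealOf ⟨x, hxW⟩).asIdeal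
  have h1 := localDim_fiber_eq_fibreDimAt f x hV hW e hxW _ rfl Q hQ
  have h2 : FlatMor.fibreDimAt f x < ⊤ := by
    rw [← h1]
    refine lt_of_le_of_lt (localDim_le_dim _ Q) ?_
    rw [PrimeSpectrum.topologicalKrullDim_eq_ringKrullDim]
    exact ringKrullDim_lt_top_of_finiteType
      ((hW.primeIdealOf ⟨x, hxW⟩).asIdeal.under Γ(Y, V)).ResidueField _
  have h3 : FlatMor.fibreDimAt f x ≠ ⊥ := by
    rw [← h1]; exact localDim_ne_bot _ Q
  obtain ⟨d, hd⟩ := WithBot.ne_bot_iff_exists.mp h3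
  rw [← hd] at h2 ⊢
  have hd' : d ≠ ⊤ := by
    intro h; rw [h] at h2; exact lt_irrefl _ h2
  obtain ⟨m, hm⟩ := ENat.ne_top_iff_exists.mp hd'
  exact ⟨m, by rw [← hm]; rfl⟩



variable {X Y : Scheme.{u}}

open Groth.Agent.H9.CMFlatRing Groth.Agent.H29.FiberStalkAt

theorem flat_stalkMap_comp_right {A B C : Scheme.{u}} (h : A ⟶ B) (j : B ⟶ C) [IsOpenImmersion j]
    (z : A) : ((h ≫ j).stalkMap z).hom.Flat ↔ (h.stalkMap z).hom.Flat := by
  rw [stalkMap_comp_hom]
  exact RingHom.Flat.respectsIso.cancel_left_isIso (j.stalkMap (h z)) (h.stalkMap z)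

theorem flat_stalkMap_comp_left {A B C : Scheme.{u}} (a : A ⟶ B) [IsOpenImmersion a] (h : B ⟶ C)
    (z : A) : ((a ≫ h).stalkMap z).hom.Flat ↔ (h.stalkMap (a z)).hom.Flat := by
  rw [stalkMap_comp_hom]
  exact RingHom.Flat.respectsIso.cancel_right_isIso (h.stalkMap (a z)) (a.stalkMap z)

/-- Flatness of a localized ring hom in terms of module flatness. -/
theorem flat_localRingHom_iff {A B : Type u} [CommRing A] [CommRing B] [Algebra A B]
    (q : Ideal B) [q.IsPrime] (p : Ideal A) [p.IsPrime]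
    (hpq : p = q.comap (algebraMap A B)) :
    (Localization.localRingHom p q (algebraMap A B) hpq).Flat ↔
      Module.Flat A (Localization.AtPrime q) := by
  have hχ : (Localization.localRingHom p q (algebraMap A B) hpq).comp
      (algebraMap A (Localization.AtPrime p)) = algebraMap A (Localization.AtPrime q) := by
    ext r
    simp only [RingHom.comp_apply]
    rw [Localization.localRingHom_to_map, ← IsScalarTower.algebraMap_apply]
  exact flat_compHom_iff (C := Localization.AtPrime q) p _ hχ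

theorem flat_SpecMap_stalkMap_iff {A B : CommRingCat.{u}} (Ψ : A ⟶ B) (pt : PrimeSpectrum B) :
    ((Spec.map Ψ).stalkMap pt).hom.Flat ↔
      (letI := Ψ.hom.toAlgebra; Module.Flat A (Localization.AtPrime pt.asIdeal)) := by
  letI := Ψ.hom.toAlgebra
  rw [RingHom.Flat.respectsIso.arrow_mk_iso_iff (Scheme.arrowStalkMapSpecIso Ψ pt)]
  exact flat_localRingHom_iff (A := A) (B := B) pt.asIdeal _ rfl



variable {X Y : Scheme.{u}}

instance isOpenImmersion_affineSpace_map {S T : Scheme.{u}} (n : Type u) (f : S ⟶ T)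
    [IsOpenImmersion f] : IsOpenImmersion (AffineSpace.map n f) :=
  MorphismProperty.of_isPullback (P := @IsOpenImmersion) (AffineSpace.isPullback_map f).flip
    inferInstance

/-- The standard open chart `Spec R[t₁..tₙ] → 𝔸ⁿ_Y` over an affine open `V = Spec R` of `Y`. -/
noncomputable def chartJ {V : Y.Opens} (hV : IsAffineOpen V) (n : ℕ) :
    Spec (.of (MvPolynomial (ULift.{u} (Fin n)) Γ(Y, V))) ⟶ 𝔸(ULift.{u} (Fin n); Y) :=
  (AffineSpace.SpecIso (ULift.{u} (Fin n)) Γ(Y, V)).inv ≫ AffineSpace.map _ hV.fromSpec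

instance {V : Y.Opens} (hV : IsAffineOpen V) (n : ℕ) : IsOpenImmersion (chartJ hV n) := by
  unfold chartJ; infer_instance

theorem chartJ_over {V : Y.Opens} (hV : IsAffineOpen V) (n : ℕ) :
    chartJ hV n ≫ (𝔸(ULift.{u} (Fin n); Y) ↘ Y) =
      Spec.map (CommRingCat.ofHom MvPolynomial.C) ≫ hV.fromSpec := by
  unfold chartJ
  rw [Category.assoc, AffineSpace.map_over, ← Category.assoc, AffineSpace.SpecIso_inv_over]

/-- The morphism `W → 𝔸ⁿ_Y` attached to a ring map `R[t] → Γ(X, W)`. -/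
noncomputable def chartG {V : Y.Opens} (hV : IsAffineOpen V) {W : X.Opens} (hW : IsAffineOpen W)
    (n : ℕ) (Ψ : CommRingCat.of (MvPolynomial (ULift.{u} (Fin n)) Γ(Y, V)) ⟶ Γ(X, W)) :
    (W : Scheme.{u}) ⟶ 𝔸(ULift.{u} (Fin n); Y) :=
  hW.isoSpec.hom ≫ Spec.map Ψ ≫ chartJ hV n

theorem chartG_over (f : X ⟶ Y) {V : Y.Opens} (hV : IsAffineOpen V) {W : X.Opens}
    (hW : IsAffineOpen W) (hWV : W ≤ f ⁻¹ᵁ V) (n : ℕ)
    (Ψ : CommRingCat.of (MvPolynomial (ULift.{u} (Fin n)) Γ(Y, V)) ⟶ Γ(X, W))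
    (hΨ : CommRingCat.ofHom MvPolynomial.C ≫ Ψ = f.appLE V W hWV) :
    chartG hV hW n Ψ ≫ (𝔸(ULift.{u} (Fin n); Y) ↘ Y) = W.ι ≫ f := by
  unfold chartG
  rw [Category.assoc, Category.assoc, chartJ_over, ← Category.assoc (Spec.map Ψ), ← Spec.map_comp,
    hΨ, IsAffineOpen.SpecMap_appLE_fromSpec f hV hW hWV, ← Category.assoc,
    IsAffineOpen.isoSpec_hom_fromSpec]

theorem locallyQuasiFinite_chartG {V : Y.Opens} (hV : IsAffineOpen V) {W : X.Opens}
    (hW : IsAffineOpen W) (n : ℕ)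
    (Ψ : CommRingCat.of (MvPolynomial (ULift.{u} (Fin n)) Γ(Y, V)) ⟶ Γ(X, W))
    (hqf : Ψ.hom.QuasiFinite) : LocallyQuasiFinite (chartG hV hW n Ψ) := by
  haveI : LocallyQuasiFinite (Spec.map Ψ) :=
    (HasRingHomProperty.Spec_iff (P := @LocallyQuasiFinite)).mpr hqf
  unfold chartG
  infer_instance


open Groth.Agent.H9.FibDim

attribute [local instance] Groth.Agent.H15.FlatLoc.isLocalRing_fibLocRing

open Groth.Agent.H49 in
set_option maxHeartbeats 1600000 in
theorem chart_flat_iff (H : FibreCrit.Core.{u}) (f : X ⟶ Y) [LocallyOfFinitePresentation f] (x : X)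
    {V : Y.Opens} (hV : IsAffineOpen V) {W : X.Opens} (hW : IsAffineOpen W) (hWV : W ≤ f ⁻¹ᵁ V)
    (hx : x ∈ W) (n : ℕ)
    (Ψ : CommRingCat.of (MvPolynomial (ULift.{u} (Fin n)) Γ(Y, V)) ⟶ Γ(X, W))
    (hΨ : CommRingCat.ofHom MvPolynomial.C ≫ Ψ = f.appLE V W hWV)
    (hqf : Ψ.hom.QuasiFinite) :
    ((chartG hV hW n Ψ).stalkMap ⟨x, hx⟩).hom.Flat ↔
      (MoreMor.IsCMAt f x ∧ FlatMor.fibreDimAt f x = (n : WithBot ℕ∞)) := by
  have s1 : ((chartG hV hW n Ψ).stalkMap ⟨x, hx⟩).hom.Flat ↔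
      ((Spec.map Ψ).stalkMap (hW.primeIdealOf ⟨x, hx⟩)).hom.Flat := by
    unfold chartG
    exact (flat_stalkMap_comp_left hW.isoSpec.hom (Spec.map Ψ ≫ chartJ hV n) _).trans
      (flat_stalkMap_comp_right (Spec.map Ψ) (chartJ hV n) _)
  rw [s1, flat_SpecMap_stalkMap_iff]
  letI algRS : Algebra Γ(Y, V) Γ(X, W) := (f.appLE V W hWV).hom.toAlgebra
  haveI : Algebra.FinitePresentation Γ(Y, V) Γ(X, W) := f.finitePresentation_appLE hV hW hWV
  let ren : MvPolynomial (Fin n) Γ(Y, V) ≃ₐ[Γ(Y, V)] MvPolynomial (ULift.{u} (Fin n)) Γ(Y, V) :=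
    MvPolynomial.renameEquiv _ Equiv.ulift.symm
  letI algPp : Algebra (MvPolynomial (ULift.{u} (Fin n)) Γ(Y, V)) Γ(X, W) := Ψ.hom.toAlgebra
  letI algP : Algebra (MvPolynomial (Fin n) Γ(Y, V)) Γ(X, W) :=
    (Ψ.hom.comp ren.toRingHom).toAlgebra
  have hΨC : ∀ r : Γ(Y, V), Ψ.hom (MvPolynomial.C r) = algebraMap Γ(Y, V) Γ(X, W) r := by
    intro r
    exact congr($(hΨ) r)
  haveI : IsScalarTower Γ(Y, V) (MvPolynomial (Fin n) Γ(Y, V)) Γ(X, W) :=
    IsScalarTower.of_algebraMap_eq (fun r => by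
      show _ = Ψ.hom (ren (MvPolynomial.C r))
      rw [← hΨC]
      congr 1
      simp [ren])
  haveI : Algebra.QuasiFinite (MvPolynomial (ULift.{u} (Fin n)) Γ(Y, V)) Γ(X, W) := hqf
  letI : Algebra (MvPolynomial (Fin n) Γ(Y, V)) (MvPolynomial (ULift.{u} (Fin n)) Γ(Y, V)) :=
    ren.toRingHom.toAlgebra
  haveI : IsScalarTower (MvPolynomial (Fin n) Γ(Y, V)) (MvPolynomial (ULift.{u} (Fin n)) Γ(Y, V))
      Γ(X, W) := IsScalarTower.of_algebraMap_eq' rfl
  haveI : Module.Finite (MvPolynomial (Fin n) Γ(Y, V)) (MvPolynomial (ULift.{u} (Fin n)) Γ(Y, V)) :=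
    Module.Finite.of_surjective (Algebra.linearMap _ _) ren.surjective
  haveI : Algebra.QuasiFinite (MvPolynomial (Fin n) Γ(Y, V)) Γ(X, W) :=
    Algebra.QuasiFinite.trans _ (MvPolynomial (ULift.{u} (Fin n)) Γ(Y, V)) _
  obtain ⟨Q, hQ⟩ := exists_fiber_prime ((hW.primeIdealOf ⟨x, hx⟩).asIdeal.under Γ(Y, V))
    (hW.primeIdealOf ⟨x, hx⟩).asIdeal
  have key := flat_iff_cm' H Γ(Y, V) Γ(X, W) n _ (hW.primeIdealOf ⟨x, hx⟩).asIdeal Q hQ
  have hsm : ∀ (a : MvPolynomial (Fin n) Γ(Y, V))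
      (m : Localization.AtPrime (hW.primeIdealOf ⟨x, hx⟩).asIdeal), a • m = ren a • m := by
    intro a m
    have e1 : algebraMap (MvPolynomial (Fin n) Γ(Y, V))
        (Localization.AtPrime (hW.primeIdealOf ⟨x, hx⟩).asIdeal) a =
        algebraMap (MvPolynomial (ULift.{u} (Fin n)) Γ(Y, V))
          (Localization.AtPrime (hW.primeIdealOf ⟨x, hx⟩).asIdeal) (ren a) := by
      rw [IsScalarTower.algebraMap_apply (MvPolynomial (Fin n) Γ(Y, V)) Γ(X, W)
        (Localization.AtPrime _),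
        IsScalarTower.algebraMap_apply (MvPolynomial (ULift.{u} (Fin n)) Γ(Y, V)) Γ(X, W)
        (Localization.AtPrime _)]
      rfl
    exact (Algebra.smul_def a m).trans ((congrArg (· * m) e1).trans (Algebra.smul_def (ren a) m).symm)
  have hfl : Module.Flat (MvPolynomial (ULift.{u} (Fin n)) Γ(Y, V))
        (Localization.AtPrime (hW.primeIdealOf ⟨x, hx⟩).asIdeal) ↔
      Module.Flat (MvPolynomial (Fin n) Γ(Y, V))
        (Localization.AtPrime (hW.primeIdealOf ⟨x, hx⟩).asIdeal) :=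
    ⟨fun h => flat_of_ringEquiv ren.toRingEquiv hsm h,
      fun h => flat_of_ringEquiv ren.symm.toRingEquiv (fun a m => by
        have := hsm (ren.symm a) m
        rw [AlgEquiv.apply_symm_apply] at this
        exact this.symm) h⟩
  rw [hfl, key]
  have hpq : (hV.primeIdealOf ⟨f x, hWV hx⟩).asIdeal =
      (hW.primeIdealOf ⟨x, hx⟩).asIdeal.comap (algebraMap Γ(Y, V) Γ(X, W)) :=
    congr($(IsAffineOpen.comap_primeIdealOf_appLE V hV W hW hWV hx).1).symm
  have hflat : (f.stalkMap x).hom.Flat ↔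
      Module.Flat Γ(Y, V) (Localization.AtPrime (hW.primeIdealOf ⟨x, hx⟩).asIdeal) := by
    rw [RingHom.Flat.respectsIso.arrow_mk_iso_iff
      (IsAffineOpen.arrowStalkMapIso f V hV W hW hWV hx)]
    exact flat_localRingHom_iff (hW.primeIdealOf ⟨x, hx⟩).asIdeal _ hpq
  obtain ⟨e⟩ := nonempty_fibreStalk_equiv f x hV hW hWV hx
  have hcm : LocCoh.IsCohenMacaulayLocalRing ((f.fiber (f x)).presheaf.stalk (f.asFiber x)) ↔
      LocCoh.IsCohenMacaulayLocalRing
        (EGA4.FibLocRing Γ(Y, V) Γ(X, W) (hW.primeIdealOf ⟨x, hx⟩).asIdeal) :=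
    ⟨fun h => Groth.Agent.H29.FlatCM.isCM_ringEquiv e h,
      fun h => Groth.Agent.H29.FlatCM.isCM_ringEquiv e.symm h⟩
  have hdim := localDim_fiber_eq_fibreDimAt f x hV hW hWV hx _ rfl Q hQ
  unfold MoreMor.IsCMAt
  rw [hflat, hcm, hdim, and_assoc]


end Groth.Agent.H9.CMFlatSch
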