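import Mathlib
import Groth.Agent.H9.CMFlatSch
import Groth.Agent.H29.FlatCM
import Groth.Agent.H57.GenFlatSch

/-!
# Fibre stalks and Cohen–Macaulayness under open immersions; generic flatness (scheme form)
(helper9; used for the constructibility of the Cohen–Macaulay locus of the fibres, S3421.)
-/

set_option autoImplicit false
set_option linter.style.haveILetI false
universe u
open AlgebraicGeometry CategoryTheory Limits TopologicalSpace

namespace Groth.Agent.H9.CMCons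

open Groth.Agent.H9.CMFlatSch Groth.Agent.H29.FiberStalkAt

/-- Transport of the fibre stalk along an equality of points. -/
theorem cm_fibre_congr {Y S : Scheme.{u}} (g : Y ⟶ S) {y₁ y₂ : Y} (h : y₁ = y₂) :
    LocCoh.IsCohenMacaulayLocalRing ((g.fiber (g y₁)).presheaf.stalk (g.asFiber y₁)) ↔
      LocCoh.IsCohenMacaulayLocalRing ((g.fiber (g y₂)).presheaf.stalk (g.asFiber y₂)) := by
  subst h
  rfl

/-- The fibre stalk is insensitive to open immersions into the source. -/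
theorem cm_fibre_comp_openImmersion {U X S : Scheme.{u}} (j : U ⟶ X) [IsOpenImmersion j]
    (f : X ⟶ S) (u : U) :
    LocCoh.IsCohenMacaulayLocalRing (((j ≫ f).fiber ((j ≫ f) u)).presheaf.stalk ((j ≫ f).asFiber u)) ↔
      LocCoh.IsCohenMacaulayLocalRing ((f.fiber (f (j u))).presheaf.stalk (f.asFiber (j u))) := by
  obtain ⟨e1⟩ := nonempty_fiberStalkEquiv (j ≫ f) u
  obtain ⟨e2⟩ := nonempty_fiberStalkEquiv f (j u)
  let β : X.presheaf.stalk (j u) ≃+* U.presheaf.stalk u :=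
    (asIso (j.stalkMap u)).commRingCatIsoToRingEquiv
  have h : ∀ a, β ((f.stalkMap (j u)).hom a) = ((j ≫ f).stalkMap u).hom ((RingEquiv.refl _) a) := by
    intro a
    rw [stalkMap_comp_hom]
    rfl
  let e3 := quotEquivOfArrow (f.stalkMap (j u)).hom ((j ≫ f).stalkMap u).hom (RingEquiv.refl _) β h
  let e : ((j ≫ f).fiber ((j ≫ f) u)).presheaf.stalk ((j ≫ f).asFiber u) ≃+*
      (f.fiber (f (j u))).presheaf.stalk (f.asFiber (j u)) :=
    (e1.symm.trans e3.symm).trans e2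
  exact ⟨fun h => Groth.Agent.H29.FlatCM.isCM_ringEquiv e h,
    fun h => Groth.Agent.H29.FlatCM.isCM_ringEquiv e.symm h⟩

/-- The fibre stalk is insensitive to open immersions out of the target. -/
theorem cm_fibre_comp_openImmersion_right {X V S : Scheme.{u}} (f : X ⟶ V) (j : V ⟶ S)
    [IsOpenImmersion j] (x : X) :
    LocCoh.IsCohenMacaulayLocalRing (((f ≫ j).fiber ((f ≫ j) x)).presheaf.stalk ((f ≫ j).asFiber x)) ↔
      LocCoh.IsCohenMacaulayLocalRing ((f.fiber (f x)).presheaf.stalk (f.asFiber x)) := by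
  obtain ⟨e1⟩ := nonempty_fiberStalkEquiv (f ≫ j) x
  obtain ⟨e2⟩ := nonempty_fiberStalkEquiv f x
  let α : S.presheaf.stalk (j (f x)) ≃+* V.presheaf.stalk (f x) :=
    (asIso (j.stalkMap (f x))).commRingCatIsoToRingEquiv
  have h : ∀ a, (RingEquiv.refl _) (((f ≫ j).stalkMap x).hom a) = (f.stalkMap x).hom (α a) := by
    intro a
    rw [stalkMap_comp_hom]
    rfl
  let e3 := quotEquivOfArrow ((f ≫ j).stalkMap x).hom (f.stalkMap x).hom α (RingEquiv.refl _) h
  let e : ((f ≫ j).fiber ((f ≫ j) x)).presheaf.stalk ((f ≫ j).asFiber x) ≃+*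
      (f.fiber (f x)).presheaf.stalk (f.asFiber x) :=
    (e1.symm.trans e3).trans e2
  exact ⟨fun h => Groth.Agent.H29.FlatCM.isCM_ringEquiv e h,
    fun h => Groth.Agent.H29.FlatCM.isCM_ringEquiv e.symm h⟩

theorem cm_fibre_hom_congr {X S : Scheme.{u}} {φ ψ : X ⟶ S} (h : φ = ψ) (x : X) :
    LocCoh.IsCohenMacaulayLocalRing ((φ.fiber (φ x)).presheaf.stalk (φ.asFiber x)) ↔
      LocCoh.IsCohenMacaulayLocalRing ((ψ.fiber (ψ x)).presheaf.stalk (ψ.asFiber x)) := by
  subst h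
  rfl

/-- Stalks of a fibre, at a point `z` and at the canonical point through its image. -/
theorem cm_fibre_stalk_iff {X S : Scheme.{u}} (f : X ⟶ S) (s : S) (z : f.fiber s) :
    LocCoh.IsCohenMacaulayLocalRing ((f.fiber s).presheaf.stalk z) ↔
      LocCoh.IsCohenMacaulayLocalRing
        ((f.fiber (f (f.fiberι s z))).presheaf.stalk (f.asFiber (f.fiberι s z))) := by
  obtain ⟨e1⟩ := nonempty_fiberStalkEquiv_of_eq f s z _ rfl
  obtain ⟨e2⟩ := nonempty_fiberStalkEquiv f (f.fiberι s z)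
  exact ⟨fun h => Groth.Agent.H29.FlatCM.isCM_ringEquiv (e1.symm.trans e2) h,
    fun h => Groth.Agent.H29.FlatCM.isCM_ringEquiv (e2.symm.trans e1) h⟩



/-- Affine-local generic flatness. -/
theorem exists_ne_zero_flat {Y S : Scheme.{u}} (g : Y ⟶ S) {V : S.Opens} (hV : IsAffineOpen V)
    [IsDomain Γ(S, V)] {W : Y.Opens} (hW : IsAffineOpen W) (e : W ≤ g ⁻¹ᵁ V)
    (hft : (g.appLE V W e).hom.FiniteType) :
    ∃ f : Γ(S, V), f ≠ 0 ∧
      ∀ y : Y, y ∈ W → g y ∈ S.basicOpen f → (g.stalkMap y).hom.Flat := by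
  letI : Algebra Γ(S, V) Γ(Y, W) := (g.appLE V W e).hom.toAlgebra
  haveI : Algebra.FiniteType Γ(S, V) Γ(Y, W) := hft
  obtain ⟨f, hf0, hfree, -, -, -⟩ :=
    Groth.Agent.S0389.result (R := Γ(S, V)) (S := Γ(Y, W)) (M := Γ(Y, W))
  refine ⟨f, hf0, fun y hyW hyf => ?_⟩
  have hyV : g y ∈ V := e hyW
  have hfq : algebraMap Γ(S, V) Γ(Y, W) f ∉ (hW.primeIdealOf ⟨y, hyW⟩).asIdeal := by
    have h1 : y ∈ Y.basicOpen ((g.appLE V W e).hom f) := by
      rw [Scheme.mem_basicOpen _ _ _ hyW, ← Groth.Agent.H57.stalkMap_germ_appLE g e y hyW f]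
      exact ((Scheme.mem_basicOpen _ _ _ hyV).mp hyf).map (g.stalkMap y).hom
    exact (Groth.Agent.H8.mem_basicOpen_iff_notMem_primeIdealOf hW y hyW _).mp h1
  have hflatA : Module.Flat Γ(S, V) (Localization.AtPrime (hW.primeIdealOf ⟨y, hyW⟩).asIdeal) :=
    Groth.Agent.H57.flat_of_isLocalizedModule_of_free f hfree
      (hW.primeIdealOf ⟨y, hyW⟩).asIdeal hfq
      (Algebra.linearMap Γ(Y, W) (Localization.AtPrime (hW.primeIdealOf ⟨y, hyW⟩).asIdeal))
  have hpq : (hV.primeIdealOf ⟨g y, hyV⟩).asIdeal =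
      (hW.primeIdealOf ⟨y, hyW⟩).asIdeal.comap (algebraMap Γ(S, V) Γ(Y, W)) :=
    congr($(IsAffineOpen.comap_primeIdealOf_appLE V hV W hW e hyW).1).symm
  rw [RingHom.Flat.respectsIso.arrow_mk_iso_iff
    (IsAffineOpen.arrowStalkMapIso g V hV W hW e hyW)]
  exact (flat_localRingHom_iff (hW.primeIdealOf ⟨y, hyW⟩).asIdeal _ hpq).mpr hflatA

/-- **Generic flatness**, scheme form. -/
theorem exists_open_flat_of_integral {Y S : Scheme.{u}} [IsIntegral S] (g : Y ⟶ S)
    [LocallyOfFiniteType g] [QuasiCompact g] :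
    ∃ V : S.Opens, (V : Set S).Nonempty ∧ ∀ y : Y, g y ∈ V → (g.stalkMap y).hom.Flat := by
  classical
  obtain ⟨s₀⟩ : Nonempty S := inferInstance
  obtain ⟨_, ⟨V, hV, rfl⟩, hs₀V, -⟩ := S.isBasis_affineOpens.exists_subset_of_mem_open
    (Set.mem_univ s₀) isOpen_univ
  haveI : Nonempty V := ⟨⟨s₀, hs₀V⟩⟩
  haveI : IsDomain Γ(S, V) := inferInstance
  have hcpt : IsCompact ((g ⁻¹ᵁ V : Y.Opens) : Set Y) := g.isCompact_preimage hV.isCompact
  obtain ⟨s, hsfin, hs⟩ := isCompact_iff_finite_and_eq_biUnion_affineOpens.mp hcpt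
  have hle : ∀ W ∈ s, (W : Y.Opens) ≤ g ⁻¹ᵁ V := by
    intro W hW
    rw [hs]
    exact le_iSup₂ (f := fun (i : Y.affineOpens) (_ : i ∈ s) => (i : Y.Opens)) W hW
  have key : ∀ t : Finset Y.affineOpens, (∀ W ∈ t, (W : Y.Opens) ≤ g ⁻¹ᵁ V) →
      ∃ f : Γ(S, V), f ≠ 0 ∧ ∀ W ∈ t, ∀ y : Y, y ∈ (W : Y.Opens) → g y ∈ S.basicOpen f →
        (g.stalkMap y).hom.Flat := by
    intro t
    induction t using Finset.induction_on with
    | empty => exact fun _ => ⟨1, one_ne_zero, fun W hW => absurd hW (Finset.notMem_empty W)⟩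
    | insert W t hWt ih =>
      intro hall
      obtain ⟨f₁, hf₁, h₁⟩ := ih (fun W' hW' => hall W' (Finset.mem_insert_of_mem hW'))
      have eW := hall W (Finset.mem_insert_self W t)
      obtain ⟨f₂, hf₂, h₂⟩ := exists_ne_zero_flat g hV W.2 eW (g.finiteType_appLE hV W.2 eW)
      refine ⟨f₂ * f₁, mul_ne_zero hf₂ hf₁, fun W' hW' y hy hyf => ?_⟩
      rw [Scheme.basicOpen_mul] at hyf
      rcases Finset.mem_insert.mp hW' with rfl | hW'
      · exact h₂ y hy hyf.1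
      · exact h₁ W' hW' y hy hyf.2
  obtain ⟨f, hf0, hf⟩ := key hsfin.toFinset (fun W hW => hle W (hsfin.mem_toFinset.mp hW))
  refine ⟨S.basicOpen f, ?_, fun y hy => ?_⟩
  · by_contra hne
    have hbot : S.basicOpen f = ⊥ := by
      rw [← Opens.not_nonempty_iff_eq_bot]
      exact hne
    exact hf0 ((basicOpen_eq_bot_iff f).mp hbot)
  · have hyV : y ∈ g ⁻¹ᵁ V := S.basicOpen_le f hy
    rw [hs] at hyV
    simp only [Opens.mem_iSup] at hyV
    obtain ⟨W, hW, hyW⟩ := hyV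
    exact hf W (hsfin.mem_toFinset.mpr hW) y hyW hy

end Groth.Agent.H9.CMCons
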