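import Groth.Agent.S4949
import Groth.Agent.H9.Equidim
import Groth.Agent.S0386
import Groth.Agent.H49.SmoothFibreMap

/-!
# Consequences of S4949 (EGA IV 15.4.3): openness of the Cohen–Macaulay locus, local constancy of
the fibre dimension on it.
-/
set_option autoImplicit false
set_option linter.style.haveILetI false
open CategoryTheory AlgebraicGeometry
universe u

namespace Groth.Agent.H9.CMFlatApp

open Groth.Agent.H9.CMFlatSch Groth.Agent.H9.CMFlatRing Groth.Agent.H9.FibDim TensorProduct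

set_option maxHeartbeats 1600000 in
theorem backward_dim {X Y : Scheme.{u}} (f : X ⟶ Y) [LocallyOfFinitePresentation f] (x : X)
    (n : ℕ) (U : X.Opens) (hx : x ∈ U) (g : (U : Scheme.{u}) ⟶ 𝔸(ULift.{u} (Fin n); Y))
    (hover : g ≫ (𝔸(ULift.{u} (Fin n); Y) ↘ Y) = U.ι ≫ f) (hlqf : LocallyQuasiFinite g)
    (hflat : (g.stalkMap ⟨x, hx⟩).hom.Flat) :
    MoreMor.IsCMAt f x ∧ FlatMor.fibreDimAt f x = (n : WithBot ℕ∞) := by
  let f' : (U : Scheme.{u}) ⟶ Y := U.ι ≫ f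
  let x' : (U : Scheme.{u}) := ⟨x, hx⟩
  obtain ⟨V, hV, hxV, -⟩ :=
    exists_isAffineOpen_mem_and_subset (X := Y) (x := f'.base x') (U := ⊤) trivial
  obtain ⟨W, hW, hxW, e⟩ :=
    exists_isAffineOpen_mem_and_subset (X := (U : Scheme.{u})) (x := x') (U := f' ⁻¹ᵁ V) hxV
  let k : (W : Scheme.{u}) ⟶ Spec Γ(Y, V) := hW.isoSpec.hom ≫ Spec.map (f'.appLE V W e)
  have hk : (W.ι ≫ g) ≫ (𝔸(ULift.{u} (Fin n); Y) ↘ Y) = k ≫ hV.fromSpec := by
    rw [Category.assoc, hover, Category.assoc, IsAffineOpen.SpecMap_appLE_fromSpec f' hV hW e,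
      IsAffineOpen.isoSpec_hom_fromSpec_assoc]
  let l := (AffineSpace.isPullback_map (n := ULift.{u} (Fin n)) hV.fromSpec).lift (W.ι ≫ g) k hk
  have hl1 : l ≫ AffineSpace.map _ hV.fromSpec = W.ι ≫ g := IsPullback.lift_fst _ _ _ _
  have hl2 : l ≫ (𝔸(ULift.{u} (Fin n); Spec Γ(Y, V)) ↘ Spec Γ(Y, V)) = k :=
    IsPullback.lift_snd _ _ _ _
  let Ψ : CommRingCat.of (MvPolynomial (ULift.{u} (Fin n)) Γ(Y, V)) ⟶ Γ((U : Scheme.{u}), W) :=
    Spec.preimage (hW.isoSpec.inv ≫ l ≫ (AffineSpace.SpecIso (ULift.{u} (Fin n)) Γ(Y, V)).hom)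
  have hΨ0 : Spec.map Ψ =
      hW.isoSpec.inv ≫ l ≫ (AffineSpace.SpecIso (ULift.{u} (Fin n)) Γ(Y, V)).hom :=
    Spec.map_preimage _
  have hG : chartG hV hW n Ψ = W.ι ≫ g := by
    unfold chartG chartJ
    rw [hΨ0, ← hl1]
    simp
  have hΨ : CommRingCat.ofHom MvPolynomial.C ≫ Ψ = f'.appLE V W e := by
    apply Spec.map_injective
    rw [Spec.map_comp, hΨ0, Category.assoc, Category.assoc, ← AffineSpace.SpecIso_inv_over,
      Iso.hom_inv_id_assoc, hl2]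
    simp [k]
  have hqf : Ψ.hom.QuasiFinite := by
    haveI : LocallyQuasiFinite (W.ι ≫ g) := inferInstance
    haveI : LocallyQuasiFinite (chartG hV hW n Ψ) := by rw [hG]; infer_instance
    haveI : LocallyQuasiFinite (Spec.map Ψ ≫ chartJ hV n) := by
      have : Spec.map Ψ ≫ chartJ hV n = hW.isoSpec.inv ≫ chartG hV hW n Ψ := by
        unfold chartG; simp
      rw [this]; infer_instance
    haveI : LocallyQuasiFinite (Spec.map Ψ) := LocallyQuasiFinite.of_comp _ (chartJ hV n)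
    exact (HasRingHomProperty.Spec_iff (P := @LocallyQuasiFinite)).mp inferInstance
  have key := chart_flat_iff Groth.Agent.H49.FibreCrit.core f' x' hV hW e hxW n Ψ hΨ hqf
  have hfl : ((chartG hV hW n Ψ).stalkMap ⟨x', hxW⟩).hom.Flat :=
    Groth.Agent.S4949.flat_stalkMap_congr hG.symm _ ((flat_stalkMap_comp_left W.ι g _).mpr hflat)
  have hcm' : MoreMor.IsCMAt f' x' := (key.mp hfl).1
  have hdim' : FlatMor.fibreDimAt f' x' = (n : WithBot ℕ∞) := (key.mp hfl).2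
  have hflι : (U.ι.stalkMap x').hom.Flat :=
    RingHom.Flat.of_bijective (ConcreteCategory.bijective_of_isIso (U.ι.stalkMap x'))
  refine ⟨(Groth.Agent.S9767.result U.ι f x' (Groth.Agent.S4949.isLocallyNoetherian_fiber' _ _)
    (Groth.Agent.S4949.isLocallyNoetherian_fiber' _ _) hcm' hflι).2, ?_⟩
  rw [← hdim']
  exact (Groth.Agent.H9.Equidim.fibreDimAt_comp_of_isOpenImmersion U.ι f x').symm


theorem forward_nat {X Y : Scheme.{u}} (f : X ⟶ Y) [LocallyOfFinitePresentation f] (x : X)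
    (n : ℕ) (hn : FlatMor.fibreDimAt f x = (n : WithBot ℕ∞)) (hCM : MoreMor.IsCMAt f x) :
    ∃ (U : X.Opens) (hx : x ∈ U) (g : (U : Scheme.{u}) ⟶ 𝔸(ULift.{u} (Fin n); Y)),
      g ≫ (𝔸(ULift.{u} (Fin n); Y) ↘ Y) = U.ι ≫ f ∧ LocallyQuasiFinite g ∧
        (g.stalkMap ⟨x, hx⟩).hom.Flat := by
  obtain ⟨n', U, hx, g, h1, h2, h3⟩ := Groth.Agent.S4949.forward f x hCM
  have h4 := (backward_dim f x n' U hx g h1 h2 h3).2
  have hnn : n' = n := by
    rw [hn] at h4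
    exact_mod_cast h4.symm
  subst hnn
  exact ⟨U, hx, g, h1, h2, h3⟩

theorem lfp_of_over {X Y : Scheme.{u}} (f : X ⟶ Y) [LocallyOfFinitePresentation f] {n : ℕ}
    (U : X.Opens) (g : (U : Scheme.{u}) ⟶ 𝔸(ULift.{u} (Fin n); Y))
    (hover : g ≫ (𝔸(ULift.{u} (Fin n); Y) ↘ Y) = U.ι ≫ f) : LocallyOfFinitePresentation g :=
  Groth.Agent.H49.SmoothFibreMap.lfp_of_comp_of_lft g (𝔸(ULift.{u} (Fin n); Y) ↘ Y)
    (by rw [hover]; infer_instance) inferInstance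

theorem exists_open_flat {X Y : Scheme.{u}} (f : X ⟶ Y) [LocallyOfFinitePresentation f] (x : X)
    {n : ℕ} (U : X.Opens) (hx : x ∈ U) (g : (U : Scheme.{u}) ⟶ 𝔸(ULift.{u} (Fin n); Y))
    (hover : g ≫ (𝔸(ULift.{u} (Fin n); Y) ↘ Y) = U.ι ≫ f)
    (hflat : (g.stalkMap ⟨x, hx⟩).hom.Flat) :
    ∃ U' : X.Opens, x ∈ U' ∧ ∃ hle : U' ≤ U,
      ∀ z (hz : z ∈ U'), (g.stalkMap ⟨z, hle hz⟩).hom.Flat := by
  haveI := lfp_of_over f U g hover
  have hopen := Groth.Agent.S0386.result g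
  refine ⟨U.ι ''ᵁ ⟨_, hopen⟩, ⟨⟨x, hx⟩, hflat, rfl⟩, ?_, ?_⟩
  · rintro _ ⟨w, -, rfl⟩
    exact w.2
  · rintro _ ⟨w, hw, rfl⟩
    exact hw

/-- Around a point where `f` is Cohen–Macaulay, `f` is Cohen–Macaulay with constant fibre dimension. -/
theorem exists_open_cm {X Y : Scheme.{u}} (f : X ⟶ Y) [LocallyOfFinitePresentation f] (x : X)
    (hCM : MoreMor.IsCMAt f x) :
    ∃ (n : ℕ) (U' : X.Opens), x ∈ U' ∧
      ∀ z ∈ U', MoreMor.IsCMAt f z ∧ FlatMor.fibreDimAt f z = (n : WithBot ℕ∞) := by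
  obtain ⟨n, U, hx, g, h1, h2, h3⟩ := Groth.Agent.S4949.forward f x hCM
  obtain ⟨U', hxU', hle, hfl⟩ := exists_open_flat f x U hx g h1 h3
  exact ⟨n, U', hxU', fun z hz => backward_dim f z n U (hle hz) g h1 h2 (hfl z hz)⟩

end Groth.Agent.H9.CMFlatApp
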