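import Mathlib

import Groth.Agent.H9.CMConsAB
import Groth.Agent.H24.ConsLocusMor
import Groth.Agent.H60.CMBC
import Groth.Agent.S4961
import Groth.Agent.S4949
import Groth.Agent.S1344
import Groth.Agent.H38.GenericConstr

/-!
# The Cohen–Macaulay locus of the fibres of a morphism locally of finite presentation is locally
constructible (EGA IV 9.9.2-type statement), by the diagonal trick and H24.isLocallyConstructible_locusMor
(helper9).
-/

set_option autoImplicit false
set_option linter.style.haveILetI false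
universe u
open AlgebraicGeometry CategoryTheory Limits TopologicalSpace Topology

namespace Groth.Agent.H9.CMCons

open Groth.Agent.H9.CMFlatSch Groth.Agent.H29.FiberStalkAt

/-- The relation on morphisms: every point of the image of `f` is a Cohen–Macaulay point of its
`g`-fibre. -/
def P : ∀ ⦃X Y T : Scheme.{u}⦄, (X ⟶ Y) → (Y ⟶ T) → Prop :=
  fun _ _ _ f g => ∀ x, LocCoh.IsCohenMacaulayLocalRing
    ((g.fiber (g (f x))).presheaf.stalk (g.asFiber (f x)))

theorem surjective_of_subsingleton {T T' : Scheme.{u}} (h : T' ⟶ T) [Subsingleton T]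
    [Nonempty T'] : Surjective h :=
  ⟨fun _ => ⟨Classical.arbitrary T', Subsingleton.elim _ _⟩⟩

theorem isFieldStableMor_P : ConsProp.IsFieldStableMor P.{u} := by
  intro X X' Y Y' T T' f g f' g' eX eY h _ _ _ _ _ _ _ _ sqY sqX
  have key : ∀ x' : X', LocCoh.IsCohenMacaulayLocalRing
        ((g'.fiber (g' (f' x'))).presheaf.stalk (g'.asFiber (f' x'))) ↔
      LocCoh.IsCohenMacaulayLocalRing
        ((g.fiber (g (f (eX x')))).presheaf.stalk (g.asFiber (f (eX x')))) := by
    intro x'
    rw [Groth.Agent.H60.CMBC.cmFibre_baseChange_iff sqY (f' x')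
      (Groth.Agent.S4949.isLocallyNoetherian_fiber' _ _) (Or.inr inferInstance)]
    apply cm_fibre_congr
    exact (congr($(sqX.w) x')).symm
  constructor
  · intro hP x'
    exact (key x').mpr (hP (eX x'))
  · intro hP x
    haveI : Surjective h := surjective_of_subsingleton h
    haveI : Surjective eY := MorphismProperty.of_isPullback (P := @Surjective) sqY.flip inferInstance
    haveI : Surjective eX := MorphismProperty.of_isPullback (P := @Surjective) sqX.flip inferInstance
    obtain ⟨x', rfl⟩ := eX.surjective x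
    exact (key x').mp (hP x')

theorem mem_locusMor_P_iff {X Y S : Scheme.{u}} (f : X ⟶ Y) (g : Y ⟶ S) [LocallyOfFiniteType g]
    (s : S) :
    s ∈ ConsProp.locusMor P f g ↔ ∀ x : X, g (f x) = s →
      LocCoh.IsCohenMacaulayLocalRing ((g.fiber (g (f x))).presheaf.stalk (g.asFiber (f x))) := by
  have sq : IsPullback (g.fiberι s) (g.fiberToSpecResidueField s) g (S.fromSpecResidueField s) :=
    IsPullback.of_hasPullback _ _
  have key : ∀ z : ((f ≫ g).fiber s),
      LocCoh.IsCohenMacaulayLocalRing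
        (((g.fiberToSpecResidueField s).fiber
          ((g.fiberToSpecResidueField s) (MoreMor.fiberMap f g s z))).presheaf.stalk
          ((g.fiberToSpecResidueField s).asFiber (MoreMor.fiberMap f g s z))) ↔
      LocCoh.IsCohenMacaulayLocalRing
        ((g.fiber (g (f ((f ≫ g).fiberι s z)))).presheaf.stalk
          (g.asFiber (f ((f ≫ g).fiberι s z)))) := by
    intro z
    rw [Groth.Agent.H60.CMBC.cmFibre_baseChange_iff sq (MoreMor.fiberMap f g s z)
      (Groth.Agent.S4949.isLocallyNoetherian_fiber' _ _) (Or.inr inferInstance)]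
    apply cm_fibre_congr
    exact congr($(Groth.Agent.H24.fiberMap_comp_fiberι f g s) z)
  constructor
  · intro hs x hx
    have hx' : x ∈ Set.range ((f ≫ g).fiberι s) := by
      rw [Scheme.Hom.range_fiberι]; exact hx
    obtain ⟨z, rfl⟩ := hx'
    exact (key z).mp (hs z)
  · intro h z
    refine (key z).mpr (h _ ?_)
    have : ((f ≫ g).fiberι s) z ∈ (f ≫ g) ⁻¹' {s} := by
      rw [← Scheme.Hom.range_fiberι]; exact ⟨z, rfl⟩
    exact this

theorem quasiSeparatedSpace_of_noetherianSpace (T : Type*) [TopologicalSpace T]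
    [NoetherianSpace T] : QuasiSeparatedSpace T :=
  ⟨fun _ _ _ _ _ _ => NoetherianSpace.isCompact _⟩

theorem isConsMor_P : ConsProp.IsConsMor P.{u} := by
  refine ⟨isFieldStableMor_P, ?_⟩
  intro X Y S f g _ _ _ _ _ _
  obtain ⟨V, hVne, hflat⟩ := exists_open_flat_of_integral g
  haveI : IsLocallyNoetherian S := inferInstance
  haveI : LocallyOfFinitePresentation g := Groth.Agent.S1344.lfp_of_lft g
  haveI : LocallyOfFinitePresentation (f ≫ g) := Groth.Agent.S1344.lfp_of_lft (f ≫ g)
  have hopen : IsOpen {y : Y | MoreMor.IsCMAt g y} := Groth.Agent.S4961.result g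
  haveI : IsLocallyNoetherian X := LocallyOfFiniteType.isLocallyNoetherian (f ≫ g)
  haveI : CompactSpace X := QuasiCompact.compactSpace_of_compactSpace (f ≫ g)
  haveI : IsNoetherian X := ⟨⟩
  haveI : QuasiSeparatedSpace S := quasiSeparatedSpace_of_noetherianSpace S
  let C : Set X := ((f ≫ g) ⁻¹' (V : Set S)) ∩ (f ⁻¹' {y : Y | MoreMor.IsCMAt g y})ᶜ
  have hC : IsConstructible C := by
    apply IsConstructible.inter
    · have h1 : IsClosed ((f ≫ g) ⁻¹' (V : Set S))ᶜ :=
        (V.isOpen.preimage (f ≫ g).continuous).isClosed_compl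
      exact isConstructible_compl.mp (Groth.Agent.H38.GenericConstr.isConstructible_of_isClosed h1)
    · exact (Groth.Agent.H38.GenericConstr.isConstructible_of_isClosed
        (hopen.preimage f.continuous).isClosed_compl)
  have hD : IsConstructible ((f ≫ g) '' C) := (f ≫ g).isConstructible_image hC
  have hgen := Groth.Agent.H38.GenericConstr.nhds_or_of_isConstructible (genericPoint_spec S) hD
  have hηV : genericPoint S ∈ (V : Set S) :=
    ((genericPoint_spec S).mem_open_set_iff V.isOpen).mpr (by simpa using hVne)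
  by_cases hη : genericPoint S ∈ (f ≫ g) '' C
  · right
    obtain ⟨U, hU, hηU, hUD⟩ := hgen.1 hη
    refine ⟨genericPoint S, ?_⟩
    rw [mem_interior]
    refine ⟨U, ?_, hU, hηU⟩
    intro s hs
    obtain ⟨x, ⟨hxV, hx⟩, rfl⟩ := hUD hs
    intro hmem
    rw [mem_locusMor_P_iff] at hmem
    exact hx ⟨hflat _ hxV, hmem x rfl⟩
  · left
    obtain ⟨U, hU, hηU, hUD⟩ := hgen.2 hη
    refine ⟨genericPoint S, ?_⟩
    rw [mem_interior]
    refine ⟨U ∩ V, ?_, hU.inter V.isOpen, ⟨hηU, hηV⟩⟩
    rintro s ⟨hsU, hsV⟩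
    rw [mem_locusMor_P_iff]
    intro x hx
    by_contra hncm
    apply hUD hsU
    refine ⟨x, ⟨?_, fun h => hncm h.2⟩, hx⟩
    show (f ≫ g) x ∈ (V : Set S)
    rw [show (f ≫ g) x = s from hx]
    exact hsV

/-- The quasi-compact quasi-separated case, by the diagonal trick. -/
theorem main_qcqs {X S : Scheme.{u}} (f : X ⟶ S) [LocallyOfFinitePresentation f] [QuasiCompact f]
    [QuasiSeparated f] :
    IsLocallyConstructible {x : X |
      LocCoh.IsCohenMacaulayLocalRing ((f.fiber (f x)).presheaf.stalk (f.asFiber x))} := by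
  let p₁ : pullback f f ⟶ X := pullback.fst f f
  let p₂ : pullback f f ⟶ X := pullback.snd f f
  let Δ : X ⟶ pullback f f := pullback.lift (𝟙 X) (𝟙 X) rfl
  have hΔ1 : Δ ≫ p₁ = 𝟙 X := pullback.lift_fst _ _ _
  have hΔ2 : Δ ≫ p₂ = 𝟙 X := pullback.lift_snd _ _ _
  have sq : IsPullback p₁ p₂ f f := IsPullback.of_hasPullback f f
  haveI : LocallyOfFinitePresentation p₂ :=
    MorphismProperty.of_isPullback (P := @LocallyOfFinitePresentation) sq inferInstance
  haveI : QuasiCompact p₂ := MorphismProperty.of_isPullback (P := @QuasiCompact) sq inferInstance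
  haveI : QuasiSeparated p₂ :=
    MorphismProperty.of_isPullback (P := @QuasiSeparated) sq inferInstance
  haveI : LocallyOfFinitePresentation (Δ ≫ p₂) := by rw [hΔ2]; infer_instance
  haveI : QuasiCompact (Δ ≫ p₂) := by rw [hΔ2]; infer_instance
  haveI : QuasiSeparated (Δ ≫ p₂) := by rw [hΔ2]; infer_instance
  have h := Groth.Agent.H24.isLocallyConstructible_locusMor isConsMor_P Δ p₂
  have hp2 : ∀ x₁, p₂ (Δ x₁) = x₁ := fun x₁ => congr($(hΔ2) x₁)
  have hp1 : ∀ x₁, p₁ (Δ x₁) = x₁ := fun x₁ => congr($(hΔ1) x₁)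
  have key : ∀ x₁ : X, LocCoh.IsCohenMacaulayLocalRing
        ((p₂.fiber (p₂ (Δ x₁))).presheaf.stalk (p₂.asFiber (Δ x₁))) ↔
      LocCoh.IsCohenMacaulayLocalRing ((f.fiber (f x₁)).presheaf.stalk (f.asFiber x₁)) := by
    intro x₁
    rw [Groth.Agent.H60.CMBC.cmFibre_baseChange_iff sq (Δ x₁)
      (Groth.Agent.S4949.isLocallyNoetherian_fiber' _ _) (Or.inl inferInstance)]
    exact cm_fibre_congr f (hp1 x₁)
  convert h using 1
  ext x
  rw [mem_locusMor_P_iff]
  constructor
  · intro hx x₁ hx₁
    rw [hp2] at hx₁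
    subst hx₁
    exact (key _).mpr hx
  · intro h'
    exact (key x).mp (h' x (hp2 x))

theorem isLocallyConstructible_compl {T : Type*} [TopologicalSpace T] {s : Set T}
    (h : IsLocallyConstructible s) : IsLocallyConstructible sᶜ := by
  intro x
  obtain ⟨U, hU, hUo, hc⟩ := h x
  exact ⟨U, hU, hUo, by simpa using hc.compl⟩

/-- EGA IV 9.9.2 (viii)-type statement: the Cohen–Macaulay locus of the fibres is locally
constructible in the source. -/
theorem main {X S : Scheme.{u}} (f : X ⟶ S) [LocallyOfFinitePresentation f] :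
    IsLocallyConstructible {x : X |
      LocCoh.IsCohenMacaulayLocalRing ((f.fiber (f x)).presheaf.stalk (f.asFiber x))} := by
  intro x
  obtain ⟨V, hV, hxV, -⟩ :=
    exists_isAffineOpen_mem_and_subset (X := S) (x := f x) (U := ⊤) trivial
  obtain ⟨W, hW, hxW, e0⟩ :=
    exists_isAffineOpen_mem_and_subset (X := X) (x := x) (U := f ⁻¹ᵁ V) hxV
  have e : W ≤ f ⁻¹ᵁ V := e0
  refine ⟨W, W.isOpen.mem_nhds hxW, W.isOpen, ?_⟩
  haveI : IsAffine (W : Scheme.{u}) := hW
  haveI : IsAffine (V : Scheme.{u}) := hV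
  have h := (main_qcqs (f.resLE V W e)).isConstructible
  have hset : (Subtype.val ⁻¹' {x : X | LocCoh.IsCohenMacaulayLocalRing
        ((f.fiber (f x)).presheaf.stalk (f.asFiber x))} : Set (W : Scheme.{u})) =
      {w : (W : Scheme.{u}) | LocCoh.IsCohenMacaulayLocalRing
        (((f.resLE V W e).fiber ((f.resLE V W e) w)).presheaf.stalk ((f.resLE V W e).asFiber w))} := by
    ext w
    have h1 := cm_fibre_comp_openImmersion W.ι f w
    have h2 := cm_fibre_comp_openImmersion_right (f.resLE V W e) V.ι w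
    have h3 : f.resLE V W e ≫ V.ι = W.ι ≫ f := Scheme.Hom.resLE_comp_ι f e
    show LocCoh.IsCohenMacaulayLocalRing
      ((f.fiber (f (W.ι w))).presheaf.stalk (f.asFiber (W.ι w))) ↔ _
    exact h1.symm.trans ((cm_fibre_hom_congr h3.symm w).trans h2)
  exact hset ▸ h

end Groth.Agent.H9.CMCons
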