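import Groth.Agent.H9.EffCartier
import Mathlib.RingTheory.Localization.Away.Basic

/-!
# If a product of ideals is generated by a nonzerodivisor, both factors are locally so
-/

set_option autoImplicit false
universe u

open CategoryTheory CategoryTheory.Limits AlgebraicGeometry TopologicalSpace

namespace Groth.Agent.H9

theorem span_factor_eq_top {B : Type*} [CommRing B] (I J : Ideal B) (t : B)
    (ht : t ∈ nonZeroDivisors B) (h : I * J = Ideal.span {t}) :
    Ideal.span {c : B | ∃ a ∈ I, ∃ b ∈ J, a * b = c * t} = ⊤ := by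
  have hle : I * J ≤ Ideal.span {c : B | ∃ a ∈ I, ∃ b ∈ J, a * b = c * t} * Ideal.span {t} := by
    rw [Ideal.mul_le]
    intro a ha b hb
    have hab : a * b ∈ Ideal.span {t} := h ▸ Ideal.mul_mem_mul ha hb
    obtain ⟨c, hc⟩ := Ideal.mem_span_singleton'.1 hab
    rw [← hc]
    exact Ideal.mul_mem_mul (Ideal.subset_span ⟨a, ha, b, hb, hc.symm⟩)
      (Ideal.mem_span_singleton_self t)
  have ht' : t ∈ Ideal.span {c : B | ∃ a ∈ I, ∃ b ∈ J, a * b = c * t} * Ideal.span {t} :=
    hle (h ▸ Ideal.mem_span_singleton_self t)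
  obtain ⟨c, hcC, hc⟩ := Ideal.mem_mul_span_singleton.1 ht'
  have hc1 : c = 1 := by
    have h0 : (c - 1) * t = 0 := by rw [sub_mul, hc, one_mul, sub_self]
    exact sub_eq_zero.1 ((mem_nonZeroDivisors_iff_right.1 ht) _ h0)
  rw [Ideal.eq_top_iff_one, ← hc1]
  exact hcC

theorem exists_mul_eq_of_factor {B : Type*} [CommRing B] (I J : Ideal B) (t c a b : B)
    (ht : t ∈ nonZeroDivisors B) (h : I * J = Ideal.span {t}) (hb : b ∈ J)
    (hab : a * b = c * t) : ∀ x ∈ I, ∃ d, c * x = a * d := by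
  intro x hx
  have hxb : x * b ∈ Ideal.span {t} := h ▸ Ideal.mul_mem_mul hx hb
  obtain ⟨d, hd⟩ := Ideal.mem_span_singleton'.1 hxb
  refine ⟨d, ?_⟩
  have h0 : (c * x - a * d) * t = 0 := by
    calc (c * x - a * d) * t = x * (c * t) - a * (d * t) := by ring
      _ = x * (a * b) - a * (x * b) := by rw [hab, hd]
      _ = 0 := by ring
  exact sub_eq_zero.1 ((mem_nonZeroDivisors_iff_right.1 ht) _ h0)

theorem map_eq_span_of_away {B B' : Type*} [CommRing B] [CommRing B'] [Algebra B B'] (c : B)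
    [IsLocalization.Away c B'] (I : Ideal B) (a b t : B) (ha : a ∈ I)
    (hI : ∀ x ∈ I, ∃ d, c * x = a * d) (hab : a * b = c * t) (ht : t ∈ nonZeroDivisors B) :
    algebraMap B B' a ∈ nonZeroDivisors B' ∧
      I.map (algebraMap B B') = Ideal.span {algebraMap B B' a} := by
  have hc : IsUnit (algebraMap B B' c) :=
    IsLocalization.map_units B' (⟨c, Submonoid.mem_powers c⟩ : Submonoid.powers c)
  constructor
  · have ht' : algebraMap B B' t ∈ nonZeroDivisors B' :=
      IsLocalization.map_nonZeroDivisors_le (Submonoid.powers c) B'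
        (Submonoid.mem_map_of_mem _ ht)
    rw [mem_nonZeroDivisors_iff_right]
    intro z hz
    have h1 : z * algebraMap B B' c * algebraMap B B' t = 0 := by
      rw [mul_assoc, ← map_mul, ← hab, map_mul, ← mul_assoc, hz, zero_mul]
    have h2 : z * algebraMap B B' c = 0 := (mem_nonZeroDivisors_iff_right.1 ht') _ h1
    exact (hc.mul_left_eq_zero).1 h2
  · apply le_antisymm
    · rw [Ideal.map_le_iff_le_comap]
      intro x hx
      obtain ⟨d, hd⟩ := hI x hx
      rw [Ideal.mem_comap]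
      obtain ⟨u, hu⟩ := hc
      have h1 : (u : B') * algebraMap B B' x = algebraMap B B' a * algebraMap B B' d := by
        rw [hu, ← map_mul, hd, map_mul]
      have h2 : algebraMap B B' x = (↑u⁻¹ * algebraMap B B' d) * algebraMap B B' a := by
        calc algebraMap B B' x = ↑u⁻¹ * (↑u * algebraMap B B' x) := by
              rw [← mul_assoc, Units.inv_mul, one_mul]
          _ = _ := by rw [h1]; ring
      rw [h2]
      exact Ideal.mul_mem_left _ _ (Ideal.mem_span_singleton_self _)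
    · rw [Ideal.span_singleton_le_iff_mem]
      exact Ideal.mem_map_of_mem _ ha

variable {X : Scheme.{u}}

theorem isEffCartierIdeal_of_mul_left {𝓘 𝓙 : X.IdealSheafData}
    (h : BlowUp.IsEffCartierIdeal (𝓘 * 𝓙)) : BlowUp.IsEffCartierIdeal 𝓘 := by
  intro x
  obtain ⟨U, hxU, t, ht, hIJ⟩ := h x
  rw [Scheme.IdealSheafData.ideal_mul, Pi.mul_apply] at hIJ
  have htop := span_factor_eq_top (𝓘.ideal U) (𝓙.ideal U) t ht hIJ
  have hcov := iSup_basicOpen_of_span_eq_top U.1 _ htop
  have hx' : x ∈ ⨆ i ∈ {c : Γ(X, U.1) | ∃ a ∈ 𝓘.ideal U, ∃ b ∈ 𝓙.ideal U, a * b = c * t},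
      X.basicOpen i := hcov.symm ▸ hxU
  obtain ⟨a, ha, b, hb, c, hab, hxc⟩ :
      ∃ a ∈ 𝓘.ideal U, ∃ b ∈ 𝓙.ideal U, ∃ c, a * b = c * t ∧ x ∈ X.basicOpen c := by
    simpa using hx'
  haveI := U.2.isLocalization_basicOpen c
  obtain ⟨hnzd, hspan⟩ := map_eq_span_of_away (B' := Γ(X, X.basicOpen c)) c (𝓘.ideal U) a b t ha
    (exists_mul_eq_of_factor (𝓘.ideal U) (𝓙.ideal U) t c a b ht hIJ hb hab) hab ht
  refine ⟨X.affineBasicOpen c, hxc,
    (algebraMap Γ(X, U.1) Γ(X, X.basicOpen c) a : Γ(X, X.basicOpen c)), hnzd, ?_⟩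
  rw [← 𝓘.map_ideal_basicOpen U c]
  exact hspan

theorem isEffCartierIdeal_of_mul_right {𝓘 𝓙 : X.IdealSheafData}
    (h : BlowUp.IsEffCartierIdeal (𝓘 * 𝓙)) : BlowUp.IsEffCartierIdeal 𝓙 := by
  rw [mul_comm] at h
  exact isEffCartierIdeal_of_mul_left h

end Groth.Agent.H9
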