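import Mathlib.AlgebraicGeometry.IdealSheaf.Subscheme
import Mathlib.AlgebraicGeometry.Morphisms.ClosedImmersion
import Mathlib.RingTheory.Localization.AtPrime.Basic

/-!
# Stalks of the closed subscheme of an ideal sheaf

The stalk map of `𝓘.subschemeι` at `d` is surjective with kernel generated by the germs of `𝓘(U)`
for any affine open `U` containing the image of `d`.
-/

set_option autoImplicit false
universe u

open CategoryTheory AlgebraicGeometry TopologicalSpace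

namespace Groth.Agent.H9

variable {X : Scheme.{u}}

theorem stalkMap_subschemeι_surjective (𝓘 : X.IdealSheafData) (d : 𝓘.subscheme) :
    Function.Surjective (𝓘.subschemeι.stalkMap d).hom :=
  𝓘.subschemeι.stalkMap_surjective d

theorem ker_stalkMap_subschemeι (𝓘 : X.IdealSheafData) (U : X.affineOpens) (d : 𝓘.subscheme)
    (hd : 𝓘.subschemeι d ∈ U.1) :
    RingHom.ker (𝓘.subschemeι.stalkMap d).hom =
      (𝓘.ideal U).map (X.presheaf.germ U.1 (𝓘.subschemeι d) hd).hom := by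
  have hU : IsAffineOpen U.1 := U.2
  have hW : IsAffineOpen (𝓘.subschemeι ⁻¹ᵁ U.1) := hU.preimage 𝓘.subschemeι
  have hdW : d ∈ 𝓘.subschemeι ⁻¹ᵁ U.1 := hd
  have hφsurj : Function.Surjective (𝓘.subschemeι.app U.1).hom := 𝓘.subschemeι_app_surjective U
  have hφker : RingHom.ker (𝓘.subschemeι.app U.1).hom = 𝓘.ideal U := 𝓘.ker_subschemeι_app U
  have hgerm : ∀ r : Γ(X, U.1), (𝓘.subschemeι.stalkMap d).hom
      (X.presheaf.germ U.1 (𝓘.subschemeι d) hd r) =
      𝓘.subscheme.presheaf.germ (𝓘.subschemeι ⁻¹ᵁ U.1) d hdW (𝓘.subschemeι.app U.1 r) :=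
    fun r => Scheme.Hom.germ_stalkMap_apply 𝓘.subschemeι U.1 d hd r
  apply le_antisymm
  · intro a ha
    rw [RingHom.mem_ker] at ha
    letI : Algebra Γ(X, U.1) (X.presheaf.stalk (𝓘.subschemeι d)) :=
      X.presheaf.algebra_section_stalk ⟨𝓘.subschemeι d, hd⟩
    haveI : IsLocalization.AtPrime (X.presheaf.stalk (𝓘.subschemeι d))
        (hU.primeIdealOf ⟨𝓘.subschemeι d, hd⟩).asIdeal := hU.isLocalization_stalk ⟨_, hd⟩
    letI : Algebra Γ(𝓘.subscheme, 𝓘.subschemeι ⁻¹ᵁ U.1) (𝓘.subscheme.presheaf.stalk d) :=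
      𝓘.subscheme.presheaf.algebra_section_stalk ⟨d, hdW⟩
    haveI : IsLocalization.AtPrime (𝓘.subscheme.presheaf.stalk d)
        (hW.primeIdealOf ⟨d, hdW⟩).asIdeal := hW.isLocalization_stalk ⟨d, hdW⟩
    obtain ⟨⟨r, ⟨s, hs⟩⟩, hrs⟩ := IsLocalization.surj
      (hU.primeIdealOf ⟨𝓘.subschemeι d, hd⟩).asIdeal.primeCompl a
    simp only at hrs
    have hsu : IsUnit (algebraMap Γ(X, U.1) (X.presheaf.stalk (𝓘.subschemeι d)) s) :=
      IsLocalization.map_units _ (⟨s, hs⟩ : (hU.primeIdealOf ⟨𝓘.subschemeι d, hd⟩).asIdeal.primeCompl)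
    -- the germ of `r` maps to zero
    have hr0 : algebraMap Γ(𝓘.subscheme, 𝓘.subschemeι ⁻¹ᵁ U.1) (𝓘.subscheme.presheaf.stalk d)
        (𝓘.subschemeι.app U.1 r) = 0 := by
      have h1 := hgerm r
      have h2 : X.presheaf.germ U.1 (𝓘.subschemeι d) hd r =
          a * X.presheaf.germ U.1 (𝓘.subschemeι d) hd s := hrs.symm
      rw [h2, map_mul, ha, zero_mul] at h1
      exact h1.symm
    obtain ⟨⟨u, hu⟩, hur⟩ := (IsLocalization.map_eq_zero_iff
      (hW.primeIdealOf ⟨d, hdW⟩).asIdeal.primeCompl (𝓘.subscheme.presheaf.stalk d) _).1 hr0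
    simp only at hur
    obtain ⟨v, rfl⟩ := hφsurj u
    have hcomap : (hW.primeIdealOf ⟨d, hdW⟩).asIdeal.comap (𝓘.subschemeι.app U.1).hom =
        (hU.primeIdealOf ⟨𝓘.subschemeι d, hd⟩).asIdeal := by
      have h := IsAffineOpen.comap_primeIdealOf_appLE U.1 hU (𝓘.subschemeι ⁻¹ᵁ U.1) hW le_rfl hdW
      rw [Scheme.Hom.appLE_eq_app] at h
      exact congrArg PrimeSpectrum.asIdeal h
    have hv : v ∉ (hU.primeIdealOf ⟨𝓘.subschemeι d, hd⟩).asIdeal := by
      rw [← hcomap, Ideal.mem_comap]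
      exact hu
    have hvr : v * r ∈ 𝓘.ideal U := by
      rw [← hφker, RingHom.mem_ker, map_mul]
      exact hur
    have hvu : IsUnit (algebraMap Γ(X, U.1) (X.presheaf.stalk (𝓘.subschemeι d)) v) :=
      IsLocalization.map_units _ (⟨v, hv⟩ : (hU.primeIdealOf ⟨𝓘.subschemeι d, hd⟩).asIdeal.primeCompl)
    have hmem : algebraMap Γ(X, U.1) (X.presheaf.stalk (𝓘.subschemeι d)) v *
        algebraMap Γ(X, U.1) (X.presheaf.stalk (𝓘.subschemeι d)) r ∈
        (𝓘.ideal U).map (X.presheaf.germ U.1 (𝓘.subschemeι d) hd).hom := by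
      rw [← map_mul]
      exact Ideal.mem_map_of_mem _ hvr
    have hrmem : algebraMap Γ(X, U.1) (X.presheaf.stalk (𝓘.subschemeι d)) r ∈
        (𝓘.ideal U).map (X.presheaf.germ U.1 (𝓘.subschemeι d) hd).hom := by
      have := Ideal.mul_mem_left _ (↑hvu.unit⁻¹ : X.presheaf.stalk (𝓘.subschemeι d)) hmem
      rwa [← mul_assoc, IsUnit.val_inv_mul, one_mul] at this
    have ha' : a = algebraMap Γ(X, U.1) (X.presheaf.stalk (𝓘.subschemeι d)) r *
        (↑hsu.unit⁻¹ : X.presheaf.stalk (𝓘.subschemeι d)) := by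
      have h3 : a * algebraMap Γ(X, U.1) (X.presheaf.stalk (𝓘.subschemeι d)) s =
          algebraMap Γ(X, U.1) (X.presheaf.stalk (𝓘.subschemeι d)) r := hrs
      rw [← h3, mul_assoc, IsUnit.mul_val_inv, mul_one]
    rw [ha']
    exact Ideal.mul_mem_right _ _ hrmem
  · rw [Ideal.map_le_iff_le_comap]
    intro r hr
    rw [Ideal.mem_comap, RingHom.mem_ker, hgerm]
    have : (𝓘.subschemeι.app U.1).hom r = 0 := by
      rw [← RingHom.mem_ker, hφker]; exact hr
    change 𝓘.subscheme.presheaf.germ (𝓘.subschemeι ⁻¹ᵁ U.1) d hdW ((𝓘.subschemeι.app U.1).hom r) = 0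
    rw [this, map_zero]

end Groth.Agent.H9
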