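import Mathlib.RingTheory.Flat.Tensor
import Mathlib.RingTheory.Flat.Stability
import Mathlib.RingTheory.Nakayama
import Mathlib.RingTheory.Noetherian.Basic
import Mathlib.RingTheory.TensorProduct.Finite
import Mathlib.LinearAlgebra.TensorProduct.RightExactness
import Mathlib.RingTheory.LocalRing.MaximalIdeal.Basic

/-!
# A Noetherian local `A`-algebra `B` with `B/hB` flat over `A` (`h ∈ 𝔪_B` a nonzerodivisor) is flat
-/

set_option autoImplicit false

open TensorProduct LinearMap

namespace Groth.Agent.H9

theorem flat_of_flat_quot_nzd {A B : Type*} [CommRing A] [CommRing B] [Algebra A B]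
    [IsNoetherianRing B] [IsLocalRing B] (h : B) (hm : h ∈ IsLocalRing.maximalIdeal B)
    (hnzd : h ∈ nonZeroDivisors B) [Module.Flat A (B ⧸ Ideal.span {h})] : Module.Flat A B := by
  rw [Module.Flat.iff_lTensor_injective]
  intro I hI
  let g : B ⊗[A] I →ₗ[B] B ⊗[A] A := TensorProduct.AlgebraTensorModule.lTensor B B I.subtype
  have hg : ∀ z, g z = I.subtype.lTensor B z := fun z => rfl
  let K : Submodule B (B ⊗[A] I) := LinearMap.ker g
  suffices hK : K = ⊥ by
    rw [injective_iff_map_eq_zero]
    intro z hz
    have hzK : z ∈ K := by rw [LinearMap.mem_ker, hg, hz]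
    rw [hK] at hzK
    exact (Submodule.mem_bot B).1 hzK
  haveI : Module.Finite A I := Module.Finite.iff_fg.2 hI
  haveI : Module.Finite B (B ⊗[A] I) := inferInstance
  haveI : IsNoetherian B (B ⊗[A] I) := isNoetherian_of_isNoetherianRing_of_finite B _
  have hKfg : K.FG := IsNoetherian.noetherian K
  apply Submodule.eq_bot_of_le_smul_of_le_jacobson_bot (Ideal.span {h}) K hKfg
  · intro k hk
    let π : B →ₗ[A] (B ⧸ Ideal.span {h}) := (Submodule.mkQ (Ideal.span {h})).restrictScalars A
    let μ : B →ₗ[A] B := LinearMap.mulLeft A h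
    have hex : Function.Exact μ π := by
      intro b
      constructor
      · intro hb
        have hb' : b ∈ Ideal.span {h} := (Submodule.Quotient.mk_eq_zero _).1 hb
        obtain ⟨c, rfl⟩ := Ideal.mem_span_singleton'.1 hb'
        exact ⟨c, mul_comm h c⟩
      · rintro ⟨c, rfl⟩
        exact (Submodule.Quotient.mk_eq_zero _).2 (Ideal.mem_span_singleton'.2 ⟨c, mul_comm c h⟩)
    have hπ : Function.Surjective π := Submodule.mkQ_surjective _
    have hex' := rTensor_exact I hex hπ
    have h1 : π.rTensor I k = 0 := by
      have hinj : Function.Injective (I.subtype.lTensor (B ⧸ Ideal.span {h})) :=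
        Module.Flat.lTensor_preserves_injective_linearMap _ Subtype.val_injective
      apply hinj
      rw [map_zero]
      have e1 : I.subtype.lTensor (B ⧸ Ideal.span {h}) (π.rTensor I k) =
          π.rTensor A (I.subtype.lTensor B k) := by
        rw [← LinearMap.comp_apply, ← LinearMap.comp_apply, LinearMap.lTensor_comp_rTensor,
          LinearMap.rTensor_comp_lTensor]
      rw [e1, ← hg, LinearMap.mem_ker.1 hk, map_zero]
    obtain ⟨k', hk'⟩ := (hex' k).1 h1
    have hsmul : ∀ z : B ⊗[A] I, μ.rTensor I z = h • z := by
      intro z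
      induction z using TensorProduct.induction_on with
      | zero => simp
      | tmul b a => simp [μ, TensorProduct.smul_tmul']
      | add x y hx hy => rw [map_add, hx, hy, smul_add]
    rw [hsmul] at hk'
    have hk'K : k' ∈ K := by
      rw [LinearMap.mem_ker]
      have h2 : h • g k' = 0 := by rw [← map_smul, hk', LinearMap.mem_ker.1 hk]
      have h3 : (TensorProduct.AlgebraTensorModule.rid A B B) (g k') = 0 := by
        have := congrArg (TensorProduct.AlgebraTensorModule.rid A B B) h2
        rw [map_smul, map_zero, smul_eq_mul] at this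
        exact (mul_left_mem_nonZeroDivisors_eq_zero_iff hnzd).1 this
      exact (LinearEquiv.map_eq_zero_iff _).1 h3
    rw [← hk']
    exact Submodule.smul_mem_smul (Ideal.mem_span_singleton_self h) hk'K
  · rw [IsLocalRing.jacobson_eq_maximalIdeal ⊥ bot_ne_top]
    exact (Ideal.span_singleton_le_iff_mem _).2 hm

end Groth.Agent.H9
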