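import Groth.Agent.H9.FlatExt

/-!
# Kernel of a surjection of flat modules is flat; `B/(t)` flat from `B/(t₁)`, `B/(t₁ t)` flat
-/

set_option autoImplicit false

open TensorProduct LinearMap

namespace Groth.Agent.H9

/-- In a short exact sequence with flat middle and right terms, the left term is flat. -/
theorem flat_of_exact_ker {R M' M M'' : Type*} [CommRing R] [AddCommGroup M'] [Module R M']
    [AddCommGroup M] [Module R M] [AddCommGroup M''] [Module R M'']
    (i : M' →ₗ[R] M) (p : M →ₗ[R] M'') (hi : Function.Injective i) (hp : Function.Surjective p)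
    (hex : Function.Exact i p) [Module.Flat R M] [Module.Flat R M''] : Module.Flat R M' := by
  rw [Module.Flat.iff_rTensor_injective']
  intro I
  rw [injective_iff_map_eq_zero]
  intro x hx
  have h3 : I.subtype.rTensor M (i.lTensor I x) = 0 := by
    have : I.subtype.rTensor M (i.lTensor I x) = i.lTensor R (I.subtype.rTensor M' x) := by
      rw [← LinearMap.comp_apply, ← LinearMap.comp_apply, LinearMap.rTensor_comp_lTensor,
        LinearMap.lTensor_comp_rTensor]
    rw [this, hx, map_zero]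
  have h4 : i.lTensor I x = 0 :=
    (injective_iff_map_eq_zero _).1
      ((Module.Flat.iff_rTensor_injective' (R := R) (M := M)).1 inferInstance I) _ h3
  exact (injective_iff_map_eq_zero _).1
    (LinearMap.lTensor_injective_of_exact_of_flat p hp i hi hex I) _ h4

/-- If `B/(t₁)` and `B/(t₁ t₂)` are flat over `A` and `t₁` is a nonzerodivisor, then `B/(t₂)` is
flat over `A`. -/
theorem flat_quot_of_mul {A B : Type*} [CommRing A] [CommRing B] [Algebra A B] (t₁ t₂ : B)
    (h₁ : t₁ ∈ nonZeroDivisors B)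
    [Module.Flat A (B ⧸ Ideal.span {t₁})] [Module.Flat A (B ⧸ Ideal.span {t₁ * t₂})] :
    Module.Flat A (B ⧸ Ideal.span {t₂}) := by
  have hle : (Ideal.span {t₂} : Ideal B) ≤
      Submodule.comap (LinearMap.mulLeft B t₁) (Ideal.span {t₁ * t₂} : Ideal B) := by
    intro b hb
    obtain ⟨c, rfl⟩ := Ideal.mem_span_singleton'.1 hb
    show t₁ * (c * t₂) ∈ Ideal.span {t₁ * t₂}
    exact Ideal.mem_span_singleton'.2 ⟨c, by ring⟩
  have hle' : (Ideal.span {t₁ * t₂} : Ideal B) ≤
      Submodule.comap (LinearMap.id : B →ₗ[B] B) (Ideal.span {t₁} : Ideal B) := by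
    intro b hb
    obtain ⟨c, rfl⟩ := Ideal.mem_span_singleton'.1 hb
    show c * (t₁ * t₂) ∈ Ideal.span {t₁}
    exact Ideal.mem_span_singleton'.2 ⟨c * t₂, by ring⟩
  let i : (B ⧸ Ideal.span {t₂}) →ₗ[A] (B ⧸ Ideal.span {t₁ * t₂}) :=
    (Submodule.mapQ _ _ (LinearMap.mulLeft B t₁) hle).restrictScalars A
  let p : (B ⧸ Ideal.span {t₁ * t₂}) →ₗ[A] (B ⧸ Ideal.span {t₁}) :=
    (Submodule.mapQ _ _ (LinearMap.id : B →ₗ[B] B) hle').restrictScalars A
  have hi_mk : ∀ b : B, i (Ideal.Quotient.mk _ b) = Ideal.Quotient.mk _ (t₁ * b) := fun b => rfl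
  have hp_mk : ∀ b : B, p (Ideal.Quotient.mk _ b) = Ideal.Quotient.mk _ b := fun b => rfl
  refine flat_of_exact_ker i p ?_ ?_ ?_
  · rw [injective_iff_map_eq_zero]
    intro x hx
    obtain ⟨b, rfl⟩ := Ideal.Quotient.mk_surjective x
    rw [hi_mk, Ideal.Quotient.eq_zero_iff_mem] at hx
    obtain ⟨c, hc⟩ := Ideal.mem_span_singleton'.1 hx
    have : t₁ * (c * t₂) = t₁ * b := by rw [← hc]; ring
    have hb : c * t₂ = b := by
      have h0 : t₁ * (c * t₂ - b) = 0 := by rw [mul_sub, this, sub_self]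
      have := (mul_left_mem_nonZeroDivisors_eq_zero_iff h₁).1 h0
      exact sub_eq_zero.1 this
    rw [Ideal.Quotient.eq_zero_iff_mem, ← hb]
    exact Ideal.mem_span_singleton'.2 ⟨c, rfl⟩
  · intro y
    obtain ⟨b, rfl⟩ := Ideal.Quotient.mk_surjective y
    exact ⟨Ideal.Quotient.mk _ b, hp_mk b⟩
  · intro y
    constructor
    · intro hy
      obtain ⟨b, rfl⟩ := Ideal.Quotient.mk_surjective y
      rw [hp_mk, Ideal.Quotient.eq_zero_iff_mem] at hy
      obtain ⟨c, rfl⟩ := Ideal.mem_span_singleton'.1 hy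
      exact ⟨Ideal.Quotient.mk _ c, by rw [hi_mk, mul_comm t₁ c]⟩
    · rintro ⟨x, rfl⟩
      obtain ⟨b, rfl⟩ := Ideal.Quotient.mk_surjective x
      rw [hi_mk, hp_mk, Ideal.Quotient.eq_zero_iff_mem]
      exact Ideal.mem_span_singleton'.2 ⟨b, by ring⟩

/-- Ring-hom version of `flat_quot_of_mul`. -/
theorem ringHom_flat_quot_of_mul {A B : Type*} [CommRing A] [CommRing B] (φ : A →+* B)
    (t₁ t₂ : B) (h₁ : t₁ ∈ nonZeroDivisors B)
    (hf₁ : ((Ideal.Quotient.mk (Ideal.span {t₁})).comp φ).Flat)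
    (hf₂ : ((Ideal.Quotient.mk (Ideal.span {t₁ * t₂})).comp φ).Flat) :
    ((Ideal.Quotient.mk (Ideal.span {t₂})).comp φ).Flat := by
  algebraize [φ]
  have e : ∀ I : Ideal B, (Ideal.Quotient.mk I).comp φ = algebraMap A (B ⧸ I) := fun I => rfl
  rw [e, RingHom.flat_algebraMap_iff] at hf₁ hf₂ ⊢
  exact flat_quot_of_mul t₁ t₂ h₁

end Groth.Agent.H9
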