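import Mathlib

/-!
# Extending algebra maps to adic completions (helper9)

For an `R`-algebra map `g : P →ₐ[R] B` with `B` complete for `I B`:
* `extHom I g : AdicCompletion (I P) P →ₐ[R] B` with `extHom_of : extHom I g (of p) = g p`;
* `algHom_ext_of_of` : (for `I` finitely generated, `B` Hausdorff) two `R`-algebra maps out of the
  completion that agree on `P` are equal;
* `map_mem_of_mem_pow_smul_top`.
-/

set_option autoImplicit false
universe u v w

open AdicCompletion

namespace Groth.Agent.H9.AdicLift

section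
variable {R : Type u} [CommRing R] (I : Ideal R)
variable {P : Type v} [CommRing P] [Algebra R P]
variable {B : Type w} [CommRing B] [Algebra R B]

theorem map_pow_le_comap (g : P →ₐ[R] B) (n : ℕ) :
    (I.map (algebraMap R P)) ^ n ≤ ((I.map (algebraMap R B)) ^ n).comap g := by
  have h1 : I.map (algebraMap R P) ≤ (I.map (algebraMap R B)).comap g := by
    rw [Ideal.map_le_iff_le_comap]
    intro r hr
    rw [Ideal.mem_comap, Ideal.mem_comap, AlgHom.commutes]
    exact Ideal.mem_map_of_mem _ hr
  exact (Ideal.pow_right_mono h1 n).trans (Ideal.le_comap_pow _ n)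

/-- the `n`-th truncation of the extension -/
noncomputable def extTrunc (g : P →ₐ[R] B) (n : ℕ) :
    AdicCompletion (I.map (algebraMap R P)) P →ₐ[R] B ⧸ (I.map (algebraMap R B)) ^ n :=
  (Ideal.quotientMapₐ _ g (map_pow_le_comap I g n)).comp
    ((evalₐ (I.map (algebraMap R P)) n).restrictScalars R)

theorem extTrunc_mk (g : P →ₐ[R] B) (n : ℕ)
    (s : AdicCauchySequence (I.map (algebraMap R P)) P) :
    extTrunc I g n (AdicCompletion.mk _ _ s) = Ideal.Quotient.mk _ (g (s.val n)) := by
  simp [extTrunc]

theorem extTrunc_of (g : P →ₐ[R] B) (n : ℕ) (p : P) :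
    extTrunc I g n (AdicCompletion.of _ _ p) = Ideal.Quotient.mk _ (g p) := by
  simp [extTrunc]

theorem extTrunc_compat (g : P →ₐ[R] B) {m n : ℕ} (hle : m ≤ n) :
    (Ideal.Quotient.factorₐ R (Ideal.pow_le_pow_right hle)).comp (extTrunc I g n) =
      extTrunc I g m := by
  ext x
  obtain ⟨s, rfl⟩ := AdicCompletion.mk_surjective _ _ x
  simp only [AlgHom.coe_comp, Function.comp_apply, extTrunc_mk]
  rw [Ideal.Quotient.factorₐ_apply_mk]
  rw [Ideal.Quotient.eq, ← map_sub]
  have h1 : s.val n - s.val m ∈ (I.map (algebraMap R P)) ^ m := by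
    have := (s.property hle).symm
    rw [SModEq.sub_mem] at this
    simpa using this
  exact map_pow_le_comap I g m h1

variable [IsAdicComplete (I.map (algebraMap R B)) B]

/-- extension of an algebra map to the completion of the source. -/
noncomputable def extHom (g : P →ₐ[R] B) :
    AdicCompletion (I.map (algebraMap R P)) P →ₐ[R] B :=
  IsAdicComplete.liftAlgHom (I.map (algebraMap R B)) (extTrunc I g)
    (fun hle => extTrunc_compat I g hle)

theorem extHom_of (g : P →ₐ[R] B) (p : P) : extHom I g (AdicCompletion.of _ _ p) = g p := by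
  rw [IsHausdorff.eq_iff_smodEq (I := I.map (algebraMap R B))]
  intro n
  rw [SModEq.sub_mem, smul_eq_mul, Ideal.mul_top, ← Ideal.Quotient.eq]
  rw [extHom, IsAdicComplete.mk_liftAlgHom, extTrunc_of]

omit [IsAdicComplete (I.map (algebraMap R B)) B] in
/-- an algebra map out of the completion sends `J^n • ⊤` into `(IB)^n`. -/
theorem map_mem_of_mem_pow_smul_top
    (θ : AdicCompletion (I.map (algebraMap R P)) P →ₐ[R] B) (n : ℕ)
    (y : AdicCompletion (I.map (algebraMap R P)) P)
    (hy : y ∈ ((I.map (algebraMap R P)) ^ n •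
      (⊤ : Submodule P (AdicCompletion (I.map (algebraMap R P)) P)))) :
    θ y ∈ (I.map (algebraMap R B)) ^ n := by
  refine Submodule.smul_induction_on hy ?_ ?_
  · intro a ha z _
    rw [Algebra.smul_def, map_mul]
    refine Ideal.mul_mem_right _ _ ?_
    have := map_pow_le_comap I (θ.comp (Algebra.ofId P _ |>.restrictScalars R)) n ha
    simpa using this
  · intro y z hy hz
    rw [map_add]
    exact Ideal.add_mem _ hy hz

omit [IsAdicComplete (I.map (algebraMap R B)) B] in
/-- density of `P` in its completion: algebra maps to a Hausdorff target agreeing on `P` agree. -/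
theorem algHom_ext_of_of [IsHausdorff (I.map (algebraMap R B)) B] (hI : I.FG)
    (θ₁ θ₂ : AdicCompletion (I.map (algebraMap R P)) P →ₐ[R] B)
    (h : ∀ p : P, θ₁ (AdicCompletion.of _ _ p) = θ₂ (AdicCompletion.of _ _ p)) : θ₁ = θ₂ := by
  ext x
  rw [IsHausdorff.eq_iff_smodEq (I := I.map (algebraMap R B))]
  intro n
  rw [SModEq.sub_mem, smul_eq_mul, Ideal.mul_top]
  obtain ⟨p, hp⟩ := Ideal.Quotient.mk_surjective (evalₐ (I.map (algebraMap R P)) n x)
  have hJ : (I.map (algebraMap R P)).FG := hI.map _
  have hker : x - AdicCompletion.of _ _ p ∈ ((I.map (algebraMap R P)) ^ n •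
      (⊤ : Submodule P (AdicCompletion (I.map (algebraMap R P)) P))) := by
    rw [AdicCompletion.pow_smul_top_eq_ker_eval hJ, LinearMap.mem_ker]
    have h1 : evalₐ (I.map (algebraMap R P)) n (x - AdicCompletion.of _ _ p) = 0 := by
      rw [map_sub, evalₐ_of, hp, sub_self]
    have h2 := AdicCompletion.factor_evalₐ_eq_eval (I := I.map (algebraMap R P))
      (x - AdicCompletion.of _ _ p) (n := n) (by simp)
    rw [← h2, h1, _root_.map_zero]
  have e1 := map_mem_of_mem_pow_smul_top I θ₁ n _ hker
  have e2 := map_mem_of_mem_pow_smul_top I θ₂ n _ hker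
  have : θ₁ x - θ₂ x = θ₁ (x - AdicCompletion.of _ _ p) - θ₂ (x - AdicCompletion.of _ _ p) := by
    rw [map_sub, map_sub, h p]; ring
  rw [this]
  exact Ideal.sub_mem _ e1 e2
end

end Groth.Agent.H9.AdicLift
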