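import Groth.Agent.H9.BlowUp
import Mathlib.RingTheory.Ideal.MinimalPrime.Localization

set_option autoImplicit false
universe u

open CategoryTheory CategoryTheory.Limits AlgebraicGeometry TopologicalSpace

namespace Groth.Agent.H9

section Top

variable {T : Type*} [TopologicalSpace T]

/-- A point with no proper generization. -/
def IsMaxPt (x : T) : Prop := ∀ y : T, y ⤳ x → y = x

theorem isMaxPt_subtype_iff {W : Set T} (hW : IsOpen W) (w : W) :
    IsMaxPt w ↔ IsMaxPt (w : T) := by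
  constructor
  · intro h y hy
    have hyW : y ∈ W := hy.mem_open hW w.2
    have : (⟨y, hyW⟩ : W) ⤳ w :=
      (Topology.IsInducing.subtypeVal.specializes_iff).1 hy
    exact congrArg Subtype.val (h ⟨y, hyW⟩ this)
  · intro h y hy
    have : (y : T) ⤳ (w : T) := hy.map continuous_subtype_val
    exact Subtype.ext (h y this)

theorem isMaxPt_homeomorph_iff {S : Type*} [TopologicalSpace S] (e : T ≃ₜ S) (x : T) :
    IsMaxPt (e x) ↔ IsMaxPt x := by
  constructor
  · intro h y hy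
    have := h (e y) (hy.map e.continuous)
    exact e.injective this
  · intro h y hy
    have h1 : e.symm y ⤳ e.symm (e x) := hy.map e.symm.continuous
    rw [e.symm_apply_apply] at h1
    have := h _ h1
    rw [← this, e.apply_symm_apply]

theorem bijOn_isMaxPt_of_homeomorph {S : Type*} [TopologicalSpace S] (f : T → S) (V : Set S)
    (hV : IsOpen V) (hf : Continuous f) (e : (f ⁻¹' V) ≃ₜ V) (he : ∀ z, (e z : S) = f z)
    (hmax : ∀ x : T, IsMaxPt x → f x ∈ V) :
    Set.BijOn f {x | IsMaxPt x} {y | IsMaxPt y ∧ y ∈ V} := by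
  have hW : IsOpen (f ⁻¹' V) := hV.preimage hf
  refine ⟨?_, ?_, ?_⟩
  · intro x hx
    have hxV := hmax x hx
    have h1 : IsMaxPt (⟨x, hxV⟩ : f ⁻¹' V) := (isMaxPt_subtype_iff hW ⟨x, hxV⟩).2 hx
    have h2 := (isMaxPt_homeomorph_iff e _).2 h1
    have h3 := (isMaxPt_subtype_iff hV _).1 h2
    rw [he] at h3
    exact ⟨h3, hxV⟩
  · intro x hx y hy hxy
    have hxV := hmax x hx
    have hyV := hmax y hy
    have : e ⟨x, hxV⟩ = e ⟨y, hyV⟩ := Subtype.ext (by rw [he, he]; exact hxy)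
    exact congrArg Subtype.val (e.injective this)
  · rintro y ⟨hy, hyV⟩
    have h1 : IsMaxPt (⟨y, hyV⟩ : V) := (isMaxPt_subtype_iff hV ⟨y, hyV⟩).2 hy
    have h2 : IsMaxPt (e.symm ⟨y, hyV⟩) := by
      rw [← isMaxPt_homeomorph_iff e, e.apply_symm_apply]; exact h1
    have h3 := (isMaxPt_subtype_iff hW _).1 h2
    refine ⟨_, h3, ?_⟩
    rw [← he, e.apply_symm_apply]

end Top

theorem mem_basicOpen_of_isMaxPt_of_nonZeroDivisor {X : Scheme.{u}} {U : X.Opens}
    (hU : IsAffineOpen U) (f : Γ(X, U)) (hf : f ∈ nonZeroDivisors Γ(X, U)) (x : X) (hxU : x ∈ U)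
    (hx : IsMaxPt x) : x ∈ X.basicOpen f := by
  set p := hU.primeIdealOf ⟨x, hxU⟩ with hp
  have hpx : hU.fromSpec p = x := hU.fromSpec_primeIdealOf ⟨x, hxU⟩
  have hmin : p.asIdeal ∈ minimalPrimes Γ(X, U) := by
    refine ⟨⟨p.isPrime, bot_le⟩, fun q hq hqp => ?_⟩
    let q' : PrimeSpectrum Γ(X, U) := ⟨q, hq.1⟩
    have h1 : q' ⤳ p := (PrimeSpectrum.le_iff_specializes q' p).1 hqp
    have h2 : hU.fromSpec q' ⤳ hU.fromSpec p := h1.map hU.fromSpec.continuous
    rw [hpx] at h2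
    have h3 : hU.fromSpec q' = hU.fromSpec p := by rw [hpx]; exact hx _ h2
    have h4 : q' = p := hU.fromSpec.isOpenEmbedding.injective h3
    rw [← h4]
  have hfp : f ∉ p.asIdeal := fun hfp =>
    Set.disjoint_left.1 (Ideal.disjoint_nonZeroDivisors_of_mem_minimalPrimes hmin) hfp hf
  have h5 : p ∈ (hU.fromSpec ⁻¹ᵁ X.basicOpen f) := by
    rw [hU.fromSpec_preimage_basicOpen]
    exact hfp
  rw [← hpx]
  exact h5

theorem not_mem_support_of_isMaxPt {X : Scheme.{u}} (𝓙 : X.IdealSheafData)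
    (h𝓙 : BlowUp.IsEffCartierIdeal 𝓙) (x : X) (hx : IsMaxPt x) : x ∉ 𝓙.support := by
  intro hxs
  obtain ⟨U, hxU, f, hf, hfU⟩ := h𝓙 x
  rw [Scheme.IdealSheafData.mem_support_iff_of_mem hxU, hfU, Scheme.mem_zeroLocus_iff] at hxs
  exact hxs f (Ideal.subset_span rfl) (mem_basicOpen_of_isMaxPt_of_nonZeroDivisor U.2 f hf x hxU hx)

theorem bijOn_isMaxPt_of_isBlowUp {X X' : Scheme.{u}} (𝓘 : X.IdealSheafData) (b : X' ⟶ X)
    (hb : BlowUp.IsBlowUp b 𝓘) :
    Set.BijOn (fun x' => b x') {x' : X' | IsMaxPt x'} {x : X | IsMaxPt x ∧ x ∉ 𝓘.support} := by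
  haveI := isIso_morphismRestrict_compl_of_isBlowUp 𝓘 b hb
  set V : X.Opens := 𝓘.support.compl with hV
  have key := bijOn_isMaxPt_of_homeomorph (fun x' => b x') (V : Set X) V.isOpen b.continuous
    ((b ∣_ V).homeomorph) (fun z => morphismRestrict_base_coe b V z) (by
      intro x hx
      have h1 := not_mem_support_of_isMaxPt (𝓘.comap b) hb.1 x hx
      rw [Scheme.IdealSheafData.support_comap] at h1
      exact h1)
  exact key

end Groth.Agent.H9
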