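import Groth.Agent.H9.ComapMul
import Groth.Agent.H9.BlowUp

/-!
# The inverse image of an effective Cartier divisor under a blowing up is effective Cartier
-/

set_option autoImplicit false
universe u

open CategoryTheory CategoryTheory.Limits AlgebraicGeometry TopologicalSpace

namespace Groth.Agent.H9

theorem eq_zero_of_germ' {X : Scheme.{u}} (V : X.Opens) (s : Γ(X, V))
    (h : ∀ (x : X) (hx : x ∈ V), X.presheaf.germ V x hx s = 0) : s = 0 := by
  refine TopCat.Presheaf.section_ext X.sheaf V s 0 (fun x hx => ?_)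
  exact (h x hx).trans (map_zero _).symm

theorem stalkMap_bijective_of_isIso_restrict {X Y : Scheme.{u}} (f : X ⟶ Y) (U : Y.Opens)
    [IsIso (f ∣_ U)] (x : X) (hx : f x ∈ U) : Function.Bijective (f.stalkMap x) := by
  have h1 : IsIso ((f ∣_ U).stalkMap ⟨x, hx⟩) := inferInstance
  have h2 : IsIso (f.stalkMap x) :=
    ((MorphismProperty.isomorphisms CommRingCat).arrow_mk_iso_iff
      (morphismRestrictStalkMap f U ⟨x, hx⟩)).1 h1
  exact ConcreteCategory.bijective_of_isIso _

theorem germ_mem_nonZeroDivisors {X : Scheme.{u}} {W : X.Opens} (hW : IsAffineOpen W)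
    {d : Γ(X, W)} (hd : d ∈ nonZeroDivisors Γ(X, W)) (x : X) (hx : x ∈ W) :
    X.presheaf.germ W x hx d ∈ nonZeroDivisors (X.presheaf.stalk x) := by
  letI : Algebra Γ(X, W) (X.presheaf.stalk x) := X.presheaf.algebra_section_stalk ⟨x, hx⟩
  haveI := hW.isLocalization_stalk ⟨x, hx⟩
  exact IsLocalization.map_nonZeroDivisors_le (hW.primeIdealOf ⟨x, hx⟩).asIdeal.primeCompl _
    (Submonoid.mem_map_of_mem _ hd)

/-- The inverse image of an effective Cartier divisor under a blowing up is an effective Cartier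
divisor. -/
theorem isEffCartierIdeal_comap_of_isBlowUp {S S' : Scheme.{u}} (𝓘 𝓓 : S.IdealSheafData)
    (b : S' ⟶ S) (hb : BlowUp.IsBlowUp b 𝓘) (h𝓓 : BlowUp.IsEffCartierIdeal 𝓓) :
    BlowUp.IsEffCartierIdeal (𝓓.comap b) := by
  haveI hiso : IsIso (b ∣_ 𝓘.support.compl) := isIso_morphismRestrict_compl_of_isBlowUp 𝓘 b hb
  intro y
  obtain ⟨W, hbyW, d, hd, h𝓓W⟩ := h𝓓 (b y)
  obtain ⟨W', hyW', hW'W, e, he, hEW'⟩ :=
    exists_affine_isPrincipalNZD hb.1 (b ⁻¹ᵁ W.1) y hbyW
  have hW'W' : W'.1 ≤ b ⁻¹ᵁ W.1 := hW'W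
  refine ⟨W', hyW', (b.appLE W.1 W'.1 hW'W').hom d, ?_, ?_⟩
  · rw [mem_nonZeroDivisors_iff_right]
    intro a ha
    -- restriction to the basic open of `e` is injective
    haveI := W'.2.isLocalization_basicOpen e
    have hinj : Function.Injective (algebraMap Γ(S', W'.1) Γ(S', S'.basicOpen e)) :=
      IsLocalization.injective _ (Submonoid.powers_le.2 he)
    apply hinj
    rw [map_zero]
    apply eq_zero_of_germ'
    intro y' hy'
    have hy'W' : y' ∈ W'.1 := S'.basicOpen_le e hy'
    -- the germ of the restriction of `a`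
    have hgerm : S'.presheaf.germ (S'.basicOpen e) y' hy'
        (algebraMap Γ(S', W'.1) Γ(S', S'.basicOpen e) a) = S'.presheaf.germ W'.1 y' hy'W' a :=
      TopCat.Presheaf.germ_res_apply _ _ _ _ _
    rw [hgerm]
    -- `b y'` lies outside the centre
    have hby' : b y' ∈ 𝓘.support.compl := by
      intro hmem
      have h1 : y' ∈ (𝓘.comap b).support := by
        rw [Scheme.IdealSheafData.support_comap]
        exact hmem
      rw [Scheme.IdealSheafData.mem_support_iff_of_mem (U := W') hy'W',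
        Scheme.mem_zeroLocus_iff] at h1
      exact h1 e (by rw [SetLike.mem_coe, hEW']; exact Ideal.mem_span_singleton_self e) hy'
    have hbij := stalkMap_bijective_of_isIso_restrict b 𝓘.support.compl y' hby'
    -- the germ of `d'` is a nonzerodivisor
    have hd1 := germ_mem_nonZeroDivisors W.2 hd (b y') (hW'W' hy'W')
    have hd2 : S'.presheaf.germ W'.1 y' hy'W' ((b.appLE W.1 W'.1 hW'W').hom d) =
        b.stalkMap y' (S.presheaf.germ W.1 (b y') (hW'W' hy'W') d) := by
      rw [Scheme.Hom.germ_stalkMap_apply, Scheme.Hom.appLE, CommRingCat.comp_apply,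
        TopCat.Presheaf.germ_res_apply]
    have hd3 : S'.presheaf.germ W'.1 y' hy'W' ((b.appLE W.1 W'.1 hW'W').hom d) ∈
        nonZeroDivisors (S'.presheaf.stalk y') := by
      rw [hd2, mem_nonZeroDivisors_iff_right]
      intro z hz
      obtain ⟨z', rfl⟩ := hbij.2 z
      have : b.stalkMap y' (z' * S.presheaf.germ W.1 (b y') (hW'W' hy'W') d) = 0 := by
        rw [map_mul]; exact hz
      have h0 : z' * S.presheaf.germ W.1 (b y') (hW'W' hy'W') d = 0 :=
        hbij.1 (by rw [this, map_zero])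
      rw [(mem_nonZeroDivisors_iff_right.1 hd1) z' h0, map_zero]
    have hprod : S'.presheaf.germ W'.1 y' hy'W' a *
        S'.presheaf.germ W'.1 y' hy'W' ((b.appLE W.1 W'.1 hW'W').hom d) = 0 := by
      rw [← map_mul, ha, map_zero]
    exact (mem_nonZeroDivisors_iff_right.1 hd3) _ hprod
  · rw [comap_ideal b 𝓓 W W' hW'W', h𝓓W, Ideal.map_span, Set.image_singleton]

end Groth.Agent.H9
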