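import Mathlib

/-!
# Fibre local rings: `S_q → (κ(p) ⊗ S)_Q` is surjective with kernel `p S_q`, and flatness helpers
-/
set_option autoImplicit false
set_option linter.style.haveILetI false
universe u
open TensorProduct Algebra.TensorProduct Ideal

namespace Groth.Agent.H9.CMFlatRing

theorem localAlgEquiv_symm_algebraMap {R A B : Type*} [CommRing R] [CommRing A] [CommRing B]
    [Algebra R A] [Algebra R B] (I : Ideal A) (J : Ideal B) [I.IsPrime] [J.IsPrime]
    (f : A ≃ₐ[R] B) (h : I = J.comap f) (b : B) :
    (Localization.localAlgEquiv I J f h).symm (algebraMap B (Localization.AtPrime J) b) =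
      algebraMap A (Localization.AtPrime I) (f.symm b) := by
  rw [AlgEquiv.symm_apply_eq]
  have := Localization.localRingHom_to_map I J (f : A →+* B) h (f.symm b)
  simp only [RingHom.coe_coe, AlgEquiv.apply_symm_apply] at this
  exact this.symm

variable {R S : Type u} [CommRing R] [CommRing S] [Algebra R S] (p : Ideal R) [p.IsPrime]

attribute [local instance] Algebra.TensorProduct.rightAlgebra in
theorem aux1_apply (s : S) :
    Ideal.Fiber.algEquivAux₁ p (S := S) (1 ⊗ₜ[R] s) = algebraMap S _ s := by
  have := (Ideal.Fiber.algEquivAux₁ p (S := S)).commutes s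
  rw [← this]
  rfl

attribute [local instance] Algebra.TensorProduct.rightAlgebra in
theorem aux2_apply (q : Ideal (p.Fiber S)) [q.IsPrime] (s : S) :
    Ideal.Fiber.algEquivAux₂ p q (algebraMap (p.Fiber S) (Localization.AtPrime q) (1 ⊗ₜ[R] s)) =
      Ideal.Quotient.mk _ (algebraMap S (Localization.AtPrime (q.comap includeRight)) s) := by
  unfold Ideal.Fiber.algEquivAux₂
  simp only [AlgEquiv.trans_apply, AlgEquiv.restrictScalars_apply]
  rw [localAlgEquiv_symm_algebraMap, AlgEquiv.symm_symm, aux1_apply]
  rw [← IsScalarTower.algebraMap_apply S _ (Localization.AtPrime (q.comap (Fiber.algEquivAux₁ p).symm)),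
    IsScalarTower.algebraMap_apply S (S ⧸ p.map (algebraMap R S)) (Localization.AtPrime (q.comap (Fiber.algEquivAux₁ p).symm)),
    AlgEquiv.commutes]
  rfl

/-- The canonical local homomorphism `S_q → (κ(p) ⊗ S)_Q`. -/
noncomputable def fibLocMap (Q : Ideal (p.Fiber S)) [Q.IsPrime] :
    Localization.AtPrime (Q.comap (includeRight : S →ₐ[R] p.Fiber S)) →+* Localization.AtPrime Q :=
  Localization.localRingHom (Q.comap (includeRight : S →ₐ[R] p.Fiber S)) Q
    (includeRight : S →ₐ[R] p.Fiber S).toRingHom rfl

theorem fibLocMap_algebraMap (Q : Ideal (p.Fiber S)) [Q.IsPrime] (s : S) :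
    fibLocMap p Q (algebraMap _ _ s) =
      algebraMap (p.Fiber S) (Localization.AtPrime Q) (1 ⊗ₜ[R] s) :=
  Localization.localRingHom_to_map (Q.comap (includeRight : S →ₐ[R] p.Fiber S)) Q
    (includeRight : S →ₐ[R] p.Fiber S).toRingHom rfl s

theorem aux2_comp_fibLocMap (Q : Ideal (p.Fiber S)) [Q.IsPrime] :
    (Ideal.Fiber.algEquivAux₂ p Q).toAlgHom.toRingHom.comp (fibLocMap p Q) = Ideal.Quotient.mk _ := by
  apply IsLocalization.ringHom_ext (Q.comap (includeRight : S →ₐ[R] p.Fiber S)).primeCompl
  ext s
  have h' : fibLocMap p Q (algebraMap _ _ s) =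
      algebraMap (p.Fiber S) (Localization.AtPrime Q) (1 ⊗ₜ[R] s) :=
    Localization.localRingHom_to_map (Q.comap (includeRight : S →ₐ[R] p.Fiber S)) Q
      (includeRight : S →ₐ[R] p.Fiber S).toRingHom rfl s
  show (Ideal.Fiber.algEquivAux₂ p Q) (fibLocMap p Q (algebraMap _ _ s)) = _
  rw [h']
  exact aux2_apply p Q s

theorem fibLocMap_surjective (Q : Ideal (p.Fiber S)) [Q.IsPrime] :
    Function.Surjective (fibLocMap p Q) := by
  intro z
  obtain ⟨y, hy⟩ := Ideal.Quotient.mk_surjective (Ideal.Fiber.algEquivAux₂ p Q z)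
  refine ⟨y, (Ideal.Fiber.algEquivAux₂ p Q).injective ?_⟩
  rw [← hy]
  exact congrArg (fun f : _ →+* _ => f y) (aux2_comp_fibLocMap p Q)

theorem ker_fibLocMap (Q : Ideal (p.Fiber S)) [Q.IsPrime] :
    RingHom.ker (fibLocMap p Q) =
      p.map (algebraMap R (Localization.AtPrime (Q.comap (includeRight : S →ₐ[R] p.Fiber S)))) := by
  have h1 : RingHom.ker (fibLocMap p Q) =
      RingHom.ker ((Ideal.Fiber.algEquivAux₂ p Q).toAlgHom.toRingHom.comp (fibLocMap p Q)) := by
    ext x
    simp only [RingHom.mem_ker, RingHom.comp_apply]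
    constructor
    · intro h; rw [h]; simp
    · intro h
      exact (Ideal.Fiber.algEquivAux₂ p Q).injective (by rw [map_zero]; exact h)
  rw [h1, aux2_comp_fibLocMap, Ideal.mk_ker, Ideal.map_map, ← IsScalarTower.algebraMap_eq]

theorem flat_of_ringEquiv {A A' M : Type*} [CommRing A] [CommRing A'] [AddCommGroup M]
    [Module A M] [Module A' M] (e : A ≃+* A') (he : ∀ (a : A) (m : M), a • m = e a • m)
    (h : Module.Flat A' M) : Module.Flat A M := by
  letI : Algebra A A' := e.toRingHom.toAlgebra
  haveI : IsScalarTower A A' M := ⟨fun a a' m => by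
    rw [Algebra.smul_def, mul_smul, he]; rfl⟩
  haveI : Module.Flat A A' := by
    let l : A ≃ₗ[A] A' :=
      { e with
        map_smul' := fun a b => by
          simp only [smul_eq_mul, RingHom.id_apply, Algebra.smul_def]
          show e (a * b) = e a * e b
          exact map_mul e a b }
    exact Module.Flat.of_linearEquiv l.symm
  exact Module.Flat.trans A A' M

/-- Flatness over a localization at a prime, via a ring hom, versus flatness over the base. -/
theorem flat_compHom_iff {R₀ C : Type*} [CommRing R₀] [CommRing C] [Algebra R₀ C]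
    (I₀ : Ideal R₀) [I₀.IsPrime] (χ : Localization.AtPrime I₀ →+* C)
    (hχ : χ.comp (algebraMap R₀ (Localization.AtPrime I₀)) = algebraMap R₀ C) :
    (letI : Module (Localization.AtPrime I₀) C := Module.compHom C χ
     Module.Flat (Localization.AtPrime I₀) C) ↔ Module.Flat R₀ C := by
  letI : Module (Localization.AtPrime I₀) C := Module.compHom C χ
  haveI : IsScalarTower R₀ (Localization.AtPrime I₀) C := ⟨fun r a c => by
    show χ (r • a) * c = r • (χ a * c)
    rw [Algebra.smul_def, map_mul, Algebra.smul_def, mul_assoc]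
    congr 1
    exact congrArg (fun f : R₀ →+* C => f r) hχ⟩
  exact Module.flat_iff_of_isLocalization (Localization.AtPrime I₀) I₀.primeCompl C

end Groth.Agent.H9.CMFlatRing
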