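import Mathlib
import Groth.Agent.H49.FibreCritFib
import Groth.Agent.H49.FibreCritCore
import Groth.Agent.H9.CMFlatRing0
import Groth.Agent.S9159
import Groth.Agent.H15.FibreSk
import Groth.Agent.H29.FlatCM

/-!
# Ring-level core of EGA IV 15.4.3: for a quasi-finite `R[t₁..tₙ] → S` (with `S` f.p. over `R`),
`S_q` is flat over `R[t]` iff `S_q` is `R`-flat, the fibre local ring is Cohen–Macaulay and the fibre
has local dimension `n` at `q`.
-/
set_option autoImplicit false
set_option linter.style.haveILetI false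
universe u
open TensorProduct Algebra.TensorProduct Ideal

namespace Groth.Agent.H9.CMFlatRing

open Groth.Agent.H49 in
set_option maxHeartbeats 1600000 in
theorem transfer (H : FibreCrit.Core.{u}) (R S : Type u) [CommRing R] [CommRing S] [Algebra R S]
    [Algebra.FinitePresentation R S] (n : ℕ)
    [Algebra (MvPolynomial (Fin n) R) S] [IsScalarTower R (MvPolynomial (Fin n) R) S]
    (p : Ideal R) [p.IsPrime] (Q : Ideal (p.Fiber S)) [Q.IsPrime] :
    letI : Algebra (p.Fiber (MvPolynomial (Fin n) R)) (p.Fiber S) :=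
      (Algebra.TensorProduct.map (AlgHom.id p.ResidueField p.ResidueField)
        (IsScalarTower.toAlgHom R (MvPolynomial (Fin n) R) S)).toRingHom.toAlgebra
    (Module.Flat R (Localization.AtPrime (Q.comap (includeRight : S →ₐ[R] p.Fiber S))) ∧
      Module.Flat (p.Fiber (MvPolynomial (Fin n) R)) (Localization.AtPrime Q)) ↔
      Module.Flat (MvPolynomial (Fin n) R)
        (Localization.AtPrime (Q.comap (includeRight : S →ₐ[R] p.Fiber S))) := by
  letI algPS : Algebra (p.Fiber (MvPolynomial (Fin n) R)) (p.Fiber S) :=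
      (Algebra.TensorProduct.map (AlgHom.id p.ResidueField p.ResidueField)
        (IsScalarTower.toAlgHom R (MvPolynomial (Fin n) R) S)).toRingHom.toAlgebra
  let θ : p.Fiber (MvPolynomial (Fin n) R) →ₐ[p.ResidueField] p.Fiber S :=
    Algebra.TensorProduct.map (AlgHom.id p.ResidueField p.ResidueField)
        (IsScalarTower.toAlgHom R (MvPolynomial (Fin n) R) S)
  let QP : Ideal (p.Fiber (MvPolynomial (Fin n) R)) := Q.comap θ
  let q : Ideal S := Q.comap (includeRight : S →ₐ[R] p.Fiber S)
  let P' : Ideal (MvPolynomial (Fin n) R) :=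
    QP.comap (includeRight : MvPolynomial (Fin n) R →ₐ[R] p.Fiber (MvPolynomial (Fin n) R))
  -- compatibility of primes
  have hθ : ∀ x : MvPolynomial (Fin n) R, θ (1 ⊗ₜ[R] x) = 1 ⊗ₜ[R] (algebraMap _ S x) := by
    intro x
    simp [θ]
  have hP'q : P' = q.comap (algebraMap (MvPolynomial (Fin n) R) S) := by
    ext x
    simp only [P', QP, q, Ideal.mem_comap, includeRight_apply, hθ]
  have hQp : Q.under R = p := (Ideal.over_def Q p).symm
  have hqp : p = q.comap (algebraMap R S) := by
    rw [← hQp]
    ext r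
    show algebraMap R (p.Fiber S) r ∈ Q ↔
      (includeRight : S →ₐ[R] p.Fiber S) (algebraMap R S r) ∈ Q
    rw [AlgHom.commutes]
  have hpP' : p = P'.comap (algebraMap R (MvPolynomial (Fin n) R)) := by
    rw [hP'q, Ideal.comap_comap, ← IsScalarTower.algebraMap_eq]
    exact hqp
  let A := Localization.AtPrime p
  let B := Localization.AtPrime P'
  let C := Localization.AtPrime q
  let D := Localization.AtPrime QP
  let E := Localization.AtPrime Q
  let φ : A →+* B := Localization.localRingHom p P' (algebraMap R _) hpP'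
  let ψ : B →+* C := Localization.localRingHom P' q (algebraMap _ S) hP'q
  let χ : A →+* C := ψ.comp φ
  let πB : B →+* D := fibLocMap p QP
  let πC : C →+* E := fibLocMap p Q
  let φ' : D →+* E := Localization.localRingHom QP Q θ.toRingHom rfl
  haveI : IsLocalHom φ := Localization.isLocalHom_localRingHom _ _ _ _
  haveI : IsLocalHom ψ := Localization.isLocalHom_localRingHom _ _ _ _
  have hφR : φ.comp (algebraMap R A) = algebraMap R B := by
    ext r
    simp only [RingHom.comp_apply, φ]
    rw [Localization.localRingHom_to_map, ← IsScalarTower.algebraMap_apply]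
  have hψP : ψ.comp (algebraMap (MvPolynomial (Fin n) R) B) = algebraMap (MvPolynomial (Fin n) R) C := by
    ext r
    · simp only [RingHom.comp_apply, ψ]
      rw [Localization.localRingHom_to_map, ← IsScalarTower.algebraMap_apply]
    · simp only [RingHom.comp_apply, ψ]
      rw [Localization.localRingHom_to_map, ← IsScalarTower.algebraMap_apply]
  haveI tRPC : IsScalarTower R (MvPolynomial (Fin n) R) C := IsScalarTower.to₁₂₄ R _ S C
  have hψR : ψ.comp (algebraMap R B) = algebraMap R C := by
    rw [IsScalarTower.algebraMap_eq R (MvPolynomial (Fin n) R) B, ← RingHom.comp_assoc, hψP,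
      ← IsScalarTower.algebraMap_eq]
  have hχR : χ.comp (algebraMap R A) = algebraMap R C := by
    rw [RingHom.comp_assoc, hφR, hψR]
  have hcomm : φ'.comp πB = πC.comp ψ := by
    apply IsLocalization.ringHom_ext P'.primeCompl
    refine RingHom.ext fun x => ?_
    have e1 : πB (algebraMap _ B x) = algebraMap _ D ((1 : p.ResidueField) ⊗ₜ[R] x) := fibLocMap_algebraMap p QP x
    have e2 : φ' (algebraMap _ D ((1 : p.ResidueField) ⊗ₜ[R] x)) = algebraMap _ E (θ ((1 : p.ResidueField) ⊗ₜ[R] x)) :=
      Localization.localRingHom_to_map QP Q θ.toRingHom rfl _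
    have e3 : ψ (algebraMap _ B x) = algebraMap _ C (algebraMap _ S x) :=
      Localization.localRingHom_to_map P' q _ hP'q x
    have e4 : πC (algebraMap _ C (algebraMap _ S x)) = algebraMap _ E ((1 : p.ResidueField) ⊗ₜ[R] (algebraMap _ S x)) :=
      fibLocMap_algebraMap p Q _
    simp only [RingHom.comp_apply]
    rw [e1, e2, e3, e4, hθ]
  have hsB : Function.Surjective πB := fibLocMap_surjective p QP
  have hsC : Function.Surjective πC := fibLocMap_surjective p Q
  have hmax : Ideal.map φ (IsLocalRing.maximalIdeal A) = p.map (algebraMap R B) := by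
    rw [← Localization.AtPrime.map_eq_maximalIdeal, Ideal.map_map, hφR]
  have hI : RingHom.ker πB = Ideal.map φ (IsLocalRing.maximalIdeal A) := by
    rw [hmax]; exact ker_fibLocMap p QP
  have hker : RingHom.ker πC = (Ideal.map φ (IsLocalRing.maximalIdeal A)).map ψ := by
    rw [hmax, Ideal.map_map, hψR]; exact ker_fibLocMap p Q
  have hquot := FibreCrit.flat_iff_quot_flat (B := B) (C := C) (D := D) (E := E) ψ πB πC φ' hsB hsC hcomm (Ideal.map φ (IsLocalRing.maximalIdeal A)) hI hker
  have hB : (letI := φ.toAlgebra; FibreCrit.IsEssFiniteType A B) := by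
    letI := φ.toAlgebra
    haveI : IsScalarTower R A B := IsScalarTower.of_algebraMap_eq' hφR.symm
    exact FibreCrit.isEssFiniteType_of_charts R (MvPolynomial (Fin n) R) A B p P' hpP'
  have hC : (letI := χ.toAlgebra; CAlgX.IsEssFinitePresentation A C) := by
    letI := χ.toAlgebra
    haveI : IsScalarTower R A C := IsScalarTower.of_algebraMap_eq' hχR.symm
    exact FibreCrit.isEssFinitePresentation_of_charts R S A C p q hqp
  have key := FibreCrit.ring_iff H (A := A) (B := B) (C := C) (M := C) φ ψ χ rfl hB hC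
  have hA := flat_compHom_iff (C := C) p χ hχR
  have hBC := flat_compHom_iff (C := C) P' ψ hψP
  have hφ'P : φ'.comp (algebraMap (p.Fiber (MvPolynomial (Fin n) R)) D) =
      algebraMap (p.Fiber (MvPolynomial (Fin n) R)) E := by
    refine RingHom.ext fun x => ?_
    exact Localization.localRingHom_to_map QP Q θ.toRingHom rfl x
  have hDE := flat_compHom_iff (C := E) QP φ' hφ'P
  have hφflat : φ.Flat := by
    haveI : Module.Flat R B := Module.Flat.trans R (MvPolynomial (Fin n) R) B
    exact (flat_compHom_iff (C := B) p φ hφR).mpr inferInstance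
  constructor
  · rintro ⟨h1, h2⟩
    have h3 : @RingHom.Flat D E _ _ φ' := hDE.mpr h2
    exact hBC.mp (key.mp ⟨hA.mpr h1, hquot.mp h3⟩).2
  · intro h
    have h1 := key.mpr ⟨hφflat, hBC.mpr h⟩
    exact ⟨hA.mp h1.1, hDE.mp (hquot.mpr h1.2)⟩

attribute [local instance] Algebra.TensorProduct.rightAlgebra in
theorem quasiFinite_fibre (R S : Type u) [CommRing R] [CommRing S] [Algebra R S] (n : ℕ)
    [Algebra (MvPolynomial (Fin n) R) S] [IsScalarTower R (MvPolynomial (Fin n) R) S]
    [Algebra.QuasiFinite (MvPolynomial (Fin n) R) S] (p : Ideal R) [p.IsPrime] :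
    letI : Algebra (p.Fiber (MvPolynomial (Fin n) R)) (p.Fiber S) :=
      (Algebra.TensorProduct.map (AlgHom.id p.ResidueField p.ResidueField)
        (IsScalarTower.toAlgHom R (MvPolynomial (Fin n) R) S)).toRingHom.toAlgebra
    Algebra.QuasiFinite (p.Fiber (MvPolynomial (Fin n) R)) (p.Fiber S) := by
  letI algPS : Algebra (p.Fiber (MvPolynomial (Fin n) R)) (p.Fiber S) :=
      (Algebra.TensorProduct.map (AlgHom.id p.ResidueField p.ResidueField)
        (IsScalarTower.toAlgHom R (MvPolynomial (Fin n) R) S)).toRingHom.toAlgebra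
  haveI : Algebra.QuasiFinite R p.ResidueField := inferInstance
  haveI : Algebra.QuasiFinite S (S ⊗[R] p.ResidueField) := inferInstance
  haveI : Algebra.QuasiFinite S (p.Fiber S) :=
    (Algebra.QuasiFinite.iff_of_algEquiv (Algebra.TensorProduct.commRight R S p.ResidueField)).mp
      inferInstance
  letI : Algebra (MvPolynomial (Fin n) R) (p.Fiber S) :=
    ((algebraMap S (p.Fiber S)).comp (algebraMap (MvPolynomial (Fin n) R) S)).toAlgebra
  haveI : IsScalarTower (MvPolynomial (Fin n) R) S (p.Fiber S) := IsScalarTower.of_algebraMap_eq' rfl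
  haveI : Algebra.QuasiFinite (MvPolynomial (Fin n) R) (p.Fiber S) :=
    Algebra.QuasiFinite.trans (MvPolynomial (Fin n) R) S (p.Fiber S)
  haveI : IsScalarTower (MvPolynomial (Fin n) R) (p.Fiber (MvPolynomial (Fin n) R)) (p.Fiber S) :=
    IsScalarTower.of_algebraMap_eq (fun x => by
      show (1 : p.ResidueField) ⊗ₜ[R] (algebraMap _ S x) =
        (Algebra.TensorProduct.map (AlgHom.id p.ResidueField p.ResidueField)
          (IsScalarTower.toAlgHom R (MvPolynomial (Fin n) R) S)) ((1 : p.ResidueField) ⊗ₜ[R] x)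
      simp)
  exact Algebra.QuasiFinite.of_restrictScalars (MvPolynomial (Fin n) R)
    (p.Fiber (MvPolynomial (Fin n) R)) (p.Fiber S)


open Groth.Agent.H49 in
set_option maxHeartbeats 1600000 in
theorem flat_iff_cm (H : FibreCrit.Core.{u}) (R S : Type u) [CommRing R] [CommRing S] [Algebra R S]
    [Algebra.FinitePresentation R S] (n : ℕ)
    [Algebra (MvPolynomial (Fin n) R) S] [IsScalarTower R (MvPolynomial (Fin n) R) S]
    [Algebra.QuasiFinite (MvPolynomial (Fin n) R) S]
    (p : Ideal R) [p.IsPrime] (Q : Ideal (p.Fiber S)) [Q.IsPrime] :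
    Module.Flat (MvPolynomial (Fin n) R)
        (Localization.AtPrime (Q.comap (includeRight : S →ₐ[R] p.Fiber S))) ↔
      (Module.Flat R (Localization.AtPrime (Q.comap (includeRight : S →ₐ[R] p.Fiber S))) ∧
        LocCoh.IsCohenMacaulayLocalRing (Localization.AtPrime Q) ∧
        FlatMor.localDim (PrimeSpectrum (p.Fiber S)) ⟨Q, inferInstance⟩ = (n : WithBot ℕ∞)) := by
  letI algPS : Algebra (p.Fiber (MvPolynomial (Fin n) R)) (p.Fiber S) :=
      (Algebra.TensorProduct.map (AlgHom.id p.ResidueField p.ResidueField)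
        (IsScalarTower.toAlgHom R (MvPolynomial (Fin n) R) S)).toRingHom.toAlgebra
  have T := transfer H R S n p Q
  haveI := quasiFinite_fibre R S n p
  let iso : MvPolynomial (Fin n) p.ResidueField ≃ₐ[p.ResidueField] p.Fiber (MvPolynomial (Fin n) R) :=
    (MvPolynomial.algebraTensorAlgEquiv R p.ResidueField).symm
  letI algk : Algebra (MvPolynomial (Fin n) p.ResidueField) (p.Fiber S) :=
    ((algebraMap (p.Fiber (MvPolynomial (Fin n) R)) (p.Fiber S)).comp iso.toRingHom).toAlgebra
  haveI : IsScalarTower p.ResidueField (MvPolynomial (Fin n) p.ResidueField) (p.Fiber S) :=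
    IsScalarTower.of_algebraMap_eq (fun x => by
      show algebraMap p.ResidueField (p.Fiber S) x =
        (Algebra.TensorProduct.map (AlgHom.id p.ResidueField p.ResidueField)
          (IsScalarTower.toAlgHom R (MvPolynomial (Fin n) R) S))
          (iso (algebraMap p.ResidueField (MvPolynomial (Fin n) p.ResidueField) x))
      rw [AlgEquiv.commutes, AlgHom.commutes])
  letI : Algebra (MvPolynomial (Fin n) p.ResidueField) (p.Fiber (MvPolynomial (Fin n) R)) :=
    iso.toRingHom.toAlgebra
  haveI : IsScalarTower (MvPolynomial (Fin n) p.ResidueField) (p.Fiber (MvPolynomial (Fin n) R))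
      (p.Fiber S) := IsScalarTower.of_algebraMap_eq' rfl
  haveI : Module.Finite (MvPolynomial (Fin n) p.ResidueField) (p.Fiber (MvPolynomial (Fin n) R)) :=
    Module.Finite.of_surjective (Algebra.linearMap _ _) iso.surjective
  haveI : Algebra.QuasiFinite (MvPolynomial (Fin n) p.ResidueField) (p.Fiber S) :=
    Algebra.QuasiFinite.trans _ (p.Fiber (MvPolynomial (Fin n) R)) _
  haveI : Algebra.FiniteType R S := inferInstance
  haveI : Algebra.FiniteType p.ResidueField (p.Fiber S) := inferInstance
  have h9 := Groth.Agent.S9159.result p.ResidueField (p.Fiber S) n Q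
  have hsm : ∀ (a : MvPolynomial (Fin n) p.ResidueField) (m : Localization.AtPrime Q),
      a • m = iso a • m := by
    intro a m
    have e1 : algebraMap (MvPolynomial (Fin n) p.ResidueField) (Localization.AtPrime Q) a =
        algebraMap (p.Fiber (MvPolynomial (Fin n) R)) (Localization.AtPrime Q) (iso a) := by
      rw [IsScalarTower.algebraMap_apply (MvPolynomial (Fin n) p.ResidueField) (p.Fiber S)
        (Localization.AtPrime Q),
        IsScalarTower.algebraMap_apply (p.Fiber (MvPolynomial (Fin n) R)) (p.Fiber S)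
        (Localization.AtPrime Q)]
      rfl
    exact (Algebra.smul_def a m).trans ((congrArg (· * m) e1).trans (Algebra.smul_def (iso a) m).symm)
  have hfl : Module.Flat (MvPolynomial (Fin n) p.ResidueField) (Localization.AtPrime Q) ↔
      Module.Flat (p.Fiber (MvPolynomial (Fin n) R)) (Localization.AtPrime Q) :=
    ⟨fun h => flat_of_ringEquiv iso.symm.toRingEquiv (fun a m => by
        have := hsm (iso.symm a) m
        rw [AlgEquiv.apply_symm_apply] at this
        exact this.symm) h,
      fun h => flat_of_ringEquiv iso.toRingEquiv hsm h⟩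
  rw [← T, ← hfl, h9]

attribute [local instance] Groth.Agent.H15.FlatLoc.isLocalRing_fibLocRing

open Groth.Agent.H49 in
theorem flat_iff_cm' (H : FibreCrit.Core.{u}) (R S : Type u) [CommRing R] [CommRing S] [Algebra R S]
    [Algebra.FinitePresentation R S] (n : ℕ)
    [Algebra (MvPolynomial (Fin n) R) S] [IsScalarTower R (MvPolynomial (Fin n) R) S]
    [Algebra.QuasiFinite (MvPolynomial (Fin n) R) S]
    (p : Ideal R) [p.IsPrime] (q : Ideal S) [q.IsPrime] (Q : PrimeSpectrum (p.Fiber S))
    (hQ : Q.asIdeal.comap (includeRight : S →ₐ[R] p.Fiber S) = q) :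
    Module.Flat (MvPolynomial (Fin n) R) (Localization.AtPrime q) ↔
      (Module.Flat R (Localization.AtPrime q) ∧
        LocCoh.IsCohenMacaulayLocalRing (EGA4.FibLocRing R S q) ∧
        FlatMor.localDim (PrimeSpectrum (p.Fiber S)) Q = (n : WithBot ℕ∞)) := by
  subst hQ
  haveI := Q.2
  rw [flat_iff_cm H R S n p Q.asIdeal]
  obtain ⟨-, ⟨e⟩⟩ := Groth.Agent.H15.FibreSk.exists_fiber_equiv R S p Q.asIdeal
  have hcm : LocCoh.IsCohenMacaulayLocalRing (Localization.AtPrime Q.asIdeal) ↔
      LocCoh.IsCohenMacaulayLocalRing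
        (EGA4.FibLocRing R S (Q.asIdeal.comap (includeRight : S →ₐ[R] p.Fiber S))) :=
    ⟨fun h => Groth.Agent.H29.FlatCM.isCM_ringEquiv e h,
      fun h => Groth.Agent.H29.FlatCM.isCM_ringEquiv e.symm h⟩
  rw [hcm]


end Groth.Agent.H9.CMFlatRing
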