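import Mathlib

/-!
# Constructible sets as images of finitely presented morphisms which are surjective on stalks
(helper9; variant of `Groth.Agent.S4584` keeping track of `SurjectiveOnStalks`)
-/

set_option autoImplicit false
set_option linter.style.haveILetI false
universe u
open AlgebraicGeometry CategoryTheory Topology

namespace Groth.Agent.H9.ConsModel

open PrimeSpectrum CategoryTheory.Limits

theorem range_comap_basic {R : Type u} [CommRing R] (C : BasicConstructibleSetData R) :
    Set.range (PrimeSpectrum.comap (algebraMap R (Localization.Away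
      (Ideal.Quotient.mk (Ideal.span (Set.range C.g)) C.f)))) = C.toSet := by
  let I := Ideal.span (Set.range C.g)
  let f := Ideal.Quotient.mk I C.f
  trans comap (Ideal.Quotient.mk I) '' (Set.range (comap (algebraMap _ (Localization.Away f))))
  · rw [← Set.range_comp]; rfl
  · rw [localization_away_comap_range _ f, ← comap_basicOpen, TopologicalSpace.Opens.coe_comap,
      ContinuousMap.coe_mk, Set.image_preimage_eq_inter_range,
      range_comap_of_surjective _ _ Ideal.Quotient.mk_surjective, BasicConstructibleSetData.toSet,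
      Set.sdiff_eq_compl_inter, basicOpen_eq_zeroLocus_compl, Ideal.mk_ker, zeroLocus_span]

theorem fp_basic {R : Type u} [CommRing R] (C : BasicConstructibleSetData R) :
    (algebraMap R (Localization.Away
      (Ideal.Quotient.mk (Ideal.span (Set.range C.g)) C.f))).FinitePresentation := by
  haveI h1 : Algebra.FinitePresentation R (R ⧸ Ideal.span (Set.range C.g)) :=
    Algebra.FinitePresentation.quotient (Submodule.fg_span (Set.finite_range C.g))
  haveI h2 : Algebra.FinitePresentation (R ⧸ Ideal.span (Set.range C.g)) (Localization.Away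
      (Ideal.Quotient.mk (Ideal.span (Set.range C.g)) C.f)) :=
    IsLocalization.Away.finitePresentation (Ideal.Quotient.mk _ C.f)
  rw [RingHom.finitePresentation_algebraMap]
  exact Algebra.FinitePresentation.trans R (R ⧸ Ideal.span (Set.range C.g)) _

theorem sos_basic {R : Type u} [CommRing R] (C : BasicConstructibleSetData R) :
    (algebraMap R (Localization.Away
      (Ideal.Quotient.mk (Ideal.span (Set.range C.g)) C.f))).SurjectiveOnStalks := by
  have h1 : (algebraMap R (R ⧸ Ideal.span (Set.range C.g))).SurjectiveOnStalks :=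
    RingHom.surjectiveOnStalks_of_surjective Ideal.Quotient.mk_surjective
  have h2 : (algebraMap (R ⧸ Ideal.span (Set.range C.g)) (Localization.Away
      (Ideal.Quotient.mk (Ideal.span (Set.range C.g)) C.f))).SurjectiveOnStalks :=
    RingHom.surjectiveOnStalks_of_isLocalization
      (Submonoid.powers (Ideal.Quotient.mk (Ideal.span (Set.range C.g)) C.f)) _
  have := h2.comp h1
  rwa [← IsScalarTower.algebraMap_eq] at this

theorem glue (X : Scheme.{u}) [CompactSpace X] [QuasiSeparatedSpace X] {ι : Type u} [Finite ι]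
    (Y : ι → Scheme.{u}) [∀ i, IsAffine (Y i)] (g : ∀ i, Y i ⟶ X)
    (hg : ∀ i, LocallyOfFinitePresentation (g i)) (hs : ∀ i, SurjectiveOnStalks (g i)) :
    ∃ (X' : Scheme.{u}) (f : X' ⟶ X), IsAffine X' ∧ LocallyOfFinitePresentation f ∧
      QuasiCompact f ∧ QuasiSeparated f ∧ SurjectiveOnStalks f ∧
      Set.range f.base = ⋃ i, Set.range (g i).base := by
  refine ⟨∐ Y, Sigma.desc g, inferInstance, IsZariskiLocalAtSource.sigmaDesc (P := @LocallyOfFinitePresentation) hg,
    inferInstance, inferInstance,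
    IsZariskiLocalAtSource.sigmaDesc (P := @SurjectiveOnStalks) hs, ?_⟩
  ext x
  simp only [Set.mem_range, Set.mem_iUnion]
  constructor
  · rintro ⟨y, rfl⟩
    obtain ⟨⟨i, z⟩, rfl⟩ := (sigmaMk Y).surjective y
    refine ⟨i, z, ?_⟩
    rw [sigmaMk_mk]
    have e : (Sigma.ι Y i ≫ Sigma.desc g).base z = (g i).base z := by rw [Sigma.ι_desc]
    exact e.symm
  · rintro ⟨i, z, rfl⟩
    refine ⟨(Sigma.ι Y i).base z, ?_⟩
    have e : (Sigma.ι Y i ≫ Sigma.desc g).base z = (g i).base z := by rw [Sigma.ι_desc]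
    exact e

theorem main2 (X : Scheme.{u}) [CompactSpace X] [QuasiSeparatedSpace X] (Z : Set X)
    {A : Type u} [Finite A] (R : A → CommRingCat.{u}) (j : ∀ a, Spec (R a) ⟶ X)
    [∀ a, IsOpenImmersion (j a)] (hcov : ∀ x : X, ∃ a, x ∈ Set.range (j a).base)
    (B : A → Type u) [∀ a, Finite (B a)] (T : ∀ a, B a → CommRingCat.{u})
    (φ : ∀ a (b : B a), R a ⟶ T a b)
    (hfp : ∀ a b, LocallyOfFinitePresentation (Spec.map (φ a b)))
    (hsos : ∀ a b, SurjectiveOnStalks (Spec.map (φ a b)))
    (hrange : ∀ a, ⋃ b, Set.range (Spec.map (φ a b)).base = (j a).base ⁻¹' Z) :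
    ∃ (X' : Scheme.{u}) (f : X' ⟶ X), IsAffine X' ∧ LocallyOfFinitePresentation f ∧
      QuasiCompact f ∧ QuasiSeparated f ∧ SurjectiveOnStalks f ∧ Set.range f.base = Z := by
  obtain ⟨X', f, h1, h2, h3, h4, h4', h5⟩ := glue X
    (fun i : (Σ a : A, B a) => Spec (T i.1 i.2))
    (fun i => Spec.map (φ i.1 i.2) ≫ j i.1)
    (fun i => by haveI := hfp i.1 i.2; infer_instance)
    (fun i => by haveI := hsos i.1 i.2; infer_instance)
  refine ⟨X', f, h1, h2, h3, h4, h4', ?_⟩
  rw [h5]
  ext x
  simp only [Set.mem_iUnion]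
  constructor
  · rintro ⟨⟨a, b⟩, z, rfl⟩
    have hz : (Spec.map (φ a b)).base z ∈ (j a).base ⁻¹' Z := by
      rw [← hrange a]
      exact Set.mem_iUnion.mpr ⟨b, z, rfl⟩
    exact hz
  · intro hx
    obtain ⟨a, y, rfl⟩ := hcov x
    have hy : y ∈ (j a).base ⁻¹' Z := hx
    rw [← hrange a] at hy
    obtain ⟨b, z, rfl⟩ := Set.mem_iUnion.mp hy
    exact ⟨⟨a, b⟩, z, rfl⟩

/-- A constructible subset of a qcqs scheme is the image of a morphism of finite presentation from an
affine scheme which is moreover surjective on stalks (a disjoint union of immersions). -/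
theorem main (X : Scheme.{u}) [CompactSpace X] [QuasiSeparatedSpace X] (Z : Set X)
    (hZ : IsConstructible Z) :
    ∃ (X' : Scheme.{u}) (f : X' ⟶ X), IsAffine X' ∧ LocallyOfFinitePresentation f ∧
      QuasiCompact f ∧ QuasiSeparated f ∧ SurjectiveOnStalks f ∧ Set.range f.base = Z := by
  classical
  obtain ⟨𝒰, h𝒰⟩ : ∃ 𝒰 : X.OpenCover, 𝒰 = X.affineCover.finiteSubcover := ⟨_, rfl⟩
  haveI : Fintype 𝒰.I₀ := by rw [h𝒰]; infer_instance
  haveI haff : ∀ a, IsAffine (𝒰.X a) := by
    intro a; subst h𝒰; rw [Scheme.OpenCover.finiteSubcover_X]; infer_instance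
  obtain ⟨j, hjdef⟩ : ∃ j : ∀ a, Spec Γ(𝒰.X a, ⊤) ⟶ X,
      j = fun a => (𝒰.X a).isoSpec.inv ≫ 𝒰.f a := ⟨_, rfl⟩
  haveI hj : ∀ a, IsOpenImmersion (j a) := by
    intro a; rw [hjdef]; infer_instance
  have hcov : ∀ x : X, ∃ a, x ∈ Set.range (j a).base := by
    intro x
    obtain ⟨a, y, hy⟩ := 𝒰.exists_eq x
    refine ⟨a, (𝒰.X a).isoSpec.hom.base y, ?_⟩
    rw [hjdef]
    show ((𝒰.X a).isoSpec.hom ≫ (𝒰.X a).isoSpec.inv ≫ 𝒰.f a).base y = x
    rw [Iso.hom_inv_id_assoc]
    exact hy
  have hS : ∀ a, ∃ S : ConstructibleSetData Γ(𝒰.X a, ⊤), S.toSet = (j a).base ⁻¹' Z := fun a =>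
    exists_constructibleSetData_iff.mpr ((j a).isConstructible_preimage hZ)
  choose S hS using hS
  refine main2 X Z (fun a => Γ(𝒰.X a, ⊤)) j hcov (fun a => ↥(S a))
    (fun a b => CommRingCat.of (Localization.Away
        (Ideal.Quotient.mk (Ideal.span (Set.range b.1.g)) b.1.f)))
    (fun a b => CommRingCat.ofHom (algebraMap Γ(𝒰.X a, ⊤) (Localization.Away
        (Ideal.Quotient.mk (Ideal.span (Set.range b.1.g)) b.1.f)))) ?_ ?_ ?_
  · intro a b
    rw [HasRingHomProperty.Spec_iff (P := @LocallyOfFinitePresentation)]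
    exact fp_basic b.1
  · intro a b
    rw [SurjectiveOnStalks.Spec_iff]
    exact sos_basic b.1
  · intro a
    rw [← hS a, ConstructibleSetData.toSet]
    apply Set.ext
    intro y
    constructor
    · intro hy
      obtain ⟨b, hb⟩ := Set.mem_iUnion.mp hy
      have : y ∈ b.1.toSet := by rw [← range_comap_basic b.1]; exact hb
      exact Set.mem_biUnion b.2 this
    · intro hy
      obtain ⟨C, hC, hyC⟩ := Set.mem_iUnion₂.mp hy
      rw [← range_comap_basic C] at hyC
      exact Set.mem_iUnion.mpr ⟨⟨C, hC⟩, hyC⟩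

end Groth.Agent.H9.ConsModel
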