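import Mathlib
import Groth.Agent.H9.CMCons
import Groth.Agent.H49.SmoothFibreMap
import Groth.Agent.H49.SmoothDescent
import Groth.Agent.H38.NowhereDenseFibre

/-!
# The locus where the fibres of a morphism locally of finite presentation are smooth is locally
constructible (helper9; same pattern as `H9/CMCons`).
-/

set_option autoImplicit false
set_option linter.style.haveILetI false
universe u
open AlgebraicGeometry CategoryTheory Limits TopologicalSpace Topology

namespace Groth.Agent.H9.SmoothCons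

open Groth.Agent.H9.CMCons Groth.Agent.H49.SmoothFibre Groth.Agent.H49.SmoothDescent

/-- The fibre of `g` through `y` is smooth at `y` over the residue field (instance-free form of
`g.asFiber y ∈ (g.fiberToSpecResidueField (g y)).smoothLocus`). -/
def FibSmoothAt {Y S : Scheme.{u}} (g : Y ⟶ S) (y : Y) : Prop :=
  ((g.fiberToSpecResidueField (g y)).stalkMap (g.asFiber y)).hom.FormallySmooth

theorem lfp_fibre {Y S : Scheme.{u}} (g : Y ⟶ S) [LocallyOfFiniteType g] (s : S) :
    LocallyOfFinitePresentation (g.fiberToSpecResidueField s) := by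
  haveI : LocallyOfFiniteType (g.fiberToSpecResidueField s) :=
    MorphismProperty.of_isPullback (P := @LocallyOfFiniteType)
      (IsPullback.of_hasPullback g (S.fromSpecResidueField s)) inferInstance
  exact Groth.Agent.S1344.lfp_of_lft _

theorem fibSmoothAt_iff_mem {Y S : Scheme.{u}} (g : Y ⟶ S) (s : S) (z : g.fiber s) (y : Y)
    (hz : g.fiberι s z = y) :
    FibSmoothAt g y ↔ ((g.fiberToSpecResidueField s).stalkMap z).hom.FormallySmooth := by
  subst hz
  have hs : g (g.fiberι s z) = s := by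
    have : g.fiberι s z ∈ g ⁻¹' {s} := by
      rw [← Scheme.Hom.range_fiberι]; exact ⟨z, rfl⟩
    exact this
  have aux : ∀ (s' : S) (_ : s' = s) (z' : g.fiber s'), g.fiberι s' z' = g.fiberι s z →
      (((g.fiberToSpecResidueField s').stalkMap z').hom.FormallySmooth ↔
        ((g.fiberToSpecResidueField s).stalkMap z).hom.FormallySmooth) := by
    intro s' h z' hz'
    subst h
    have : z' = z := (g.fiberι s').isEmbedding.injective hz'
    subst this
    rfl
  exact aux _ hs _ (g.fiberι_asFiber _)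

/-- Invariance of fibrewise smoothness under arbitrary base change. -/
theorem fibSmoothAt_baseChange_iff {X Y X' Y' : Scheme.{u}} {f : X ⟶ Y} {g : Y' ⟶ Y}
    {f' : X' ⟶ Y'} {g' : X' ⟶ X} (hsq : IsPullback g' f' f g) [LocallyOfFiniteType f] (x' : X') :
    FibSmoothAt f' x' ↔ FibSmoothAt f (g' x') := by
  haveI : LocallyOfFiniteType f' :=
    MorphismProperty.of_isPullback (P := @LocallyOfFiniteType) hsq inferInstance
  haveI := lfp_fibre f' (f' x')
  haveI := lfp_fibre f (g (f' x'))
  have HP := isPullback_fiberToSpecResidueField_of_isPullback hsq (f' x')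
  haveI : Flat (Spec.map (g.residueFieldMap (f' x'))) := by
    rw [HasRingHomProperty.Spec_iff (P := @Flat)]
    algebraize [(g.residueFieldMap (f' x')).hom]
    exact inferInstanceAs (Module.Flat _ _)
  have hflatκ := AlgebraicGeometry.Flat.stalkMap (Spec.map (g.residueFieldMap (f' x')))
    ((f'.fiberToSpecResidueField (f' x')) (f'.asFiber x'))
  obtain ⟨eF, heF, HP'⟩ : ∃ eF : f'.fiber (f' x') ⟶ f.fiber (g (f' x')),
      eF ≫ f.fiberι (g (f' x')) = f'.fiberι (f' x') ≫ g' ∧
      IsPullback eF (f'.fiberToSpecResidueField (f' x')) (f.fiberToSpecResidueField (g (f' x')))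
        (Spec.map (g.residueFieldMap (f' x'))) :=
    ⟨_, pullback.lift_fst _ _ _, HP⟩
  have hpt : f.fiberι (g (f' x')) (eF (f'.asFiber x')) = g' x' := by
    rw [← Scheme.Hom.comp_apply, heF, Scheme.Hom.comp_apply, f'.fiberι_asFiber]
  rw [fibSmoothAt_iff_mem f (g (f' x')) (eF (f'.asFiber x')) (g' x') hpt]
  constructor
  · intro h
    exact mem_smoothLocus_of_isPullback_of_flat HP' (f'.asFiber x') hflatκ h
  · intro h
    exact mem_smoothLocus_of_isPullback HP' (f'.asFiber x') h

theorem fibSmoothAt_congr {Y S : Scheme.{u}} (g : Y ⟶ S) {y₁ y₂ : Y} (h : y₁ = y₂) :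
    FibSmoothAt g y₁ ↔ FibSmoothAt g y₂ := by
  subst h; rfl

theorem fibSmoothAt_hom_congr {X S : Scheme.{u}} {φ ψ : X ⟶ S} (h : φ = ψ) (x : X) :
    FibSmoothAt φ x ↔ FibSmoothAt ψ x := by
  subst h; rfl

/-- Insensitivity to open immersions into the source. -/
theorem fibSmoothAt_comp_openImmersion {U X S : Scheme.{u}} (j : U ⟶ X) [IsOpenImmersion j]
    (f : X ⟶ S) (u : U) : FibSmoothAt (j ≫ f) u ↔ FibSmoothAt f (j u) := by
  have sq := Groth.Agent.H38.NowhereDenseFibre.isPullback_fiberMap j f ((j ≫ f) u)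
  haveI : IsOpenImmersion (MoreMor.fiberMap j f ((j ≫ f) u)) :=
    MorphismProperty.of_isPullback (P := @IsOpenImmersion) sq inferInstance
  have hpt : f.fiberι ((j ≫ f) u) (MoreMor.fiberMap j f ((j ≫ f) u) ((j ≫ f).asFiber u)) = j u := by
    rw [← Scheme.Hom.comp_apply, Groth.Agent.H24.fiberMap_comp_fiberι, Scheme.Hom.comp_apply,
      (j ≫ f).fiberι_asFiber]
  rw [fibSmoothAt_iff_mem f ((j ≫ f) u) _ (j u) hpt]
  unfold FibSmoothAt
  rw [← stalkMap_prop_comp_left RingHom.FormallySmooth.respectsIso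
    (MoreMor.fiberMap j f ((j ≫ f) u)) (f.fiberToSpecResidueField ((j ≫ f) u)) ((j ≫ f).asFiber u)]
  exact stalkMap_prop_congr_hom (P := @RingHom.FormallySmooth)
    (Groth.Agent.H24.fiberMap_comp_fiberToSpec j f ((j ≫ f) u)).symm _

/-- Insensitivity to open immersions out of the target. -/
theorem fibSmoothAt_comp_openImmersion_right {X V S : Scheme.{u}} (f : X ⟶ V) (j : V ⟶ S)
    [IsOpenImmersion j] [LocallyOfFiniteType f] (x : X) :
    FibSmoothAt (f ≫ j) x ↔ FibSmoothAt f x := by
  have sq : IsPullback (𝟙 X) f (f ≫ j) j := IsPullback.of_horiz_isIso_mono ⟨by simp⟩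
  haveI : LocallyOfFiniteType (f ≫ j) := inferInstance
  exact (fibSmoothAt_baseChange_iff sq x).symm

/-- The relation on morphisms: every point of the image of `f` is a smooth point of its `g`-fibre. -/
def P : ∀ ⦃X Y T : Scheme.{u}⦄, (X ⟶ Y) → (Y ⟶ T) → Prop :=
  fun _ _ _ f g => ∀ x, FibSmoothAt g (f x)

theorem isFieldStableMor_P : ConsProp.IsFieldStableMor P.{u} := by
  intro X X' Y Y' T T' f g f' g' eX eY h _ _ _ _ _ _ _ _ sqY sqX
  have key : ∀ x' : X', FibSmoothAt g' (f' x') ↔ FibSmoothAt g (f (eX x')) := by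
    intro x'
    rw [fibSmoothAt_baseChange_iff sqY (f' x')]
    apply fibSmoothAt_congr
    exact (congr($(sqX.w) x')).symm
  constructor
  · intro hP x'
    exact (key x').mpr (hP (eX x'))
  · intro hP x
    haveI : Surjective h := surjective_of_subsingleton h
    haveI : Surjective eY := MorphismProperty.of_isPullback (P := @Surjective) sqY.flip inferInstance
    haveI : Surjective eX := MorphismProperty.of_isPullback (P := @Surjective) sqX.flip inferInstance
    obtain ⟨x', rfl⟩ := eX.surjective x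
    exact (key x').mp (hP x')

theorem mem_locusMor_P_iff {X Y S : Scheme.{u}} (f : X ⟶ Y) (g : Y ⟶ S) [LocallyOfFiniteType g]
    (s : S) :
    s ∈ ConsProp.locusMor P f g ↔ ∀ x : X, g (f x) = s → FibSmoothAt g (f x) := by
  have sq : IsPullback (g.fiberι s) (g.fiberToSpecResidueField s) g (S.fromSpecResidueField s) :=
    IsPullback.of_hasPullback _ _
  have key : ∀ z : ((f ≫ g).fiber s),
      FibSmoothAt (g.fiberToSpecResidueField s) (MoreMor.fiberMap f g s z) ↔
      FibSmoothAt g (f ((f ≫ g).fiberι s z)) := by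
    intro z
    rw [fibSmoothAt_baseChange_iff sq (MoreMor.fiberMap f g s z)]
    apply fibSmoothAt_congr
    exact congr($(Groth.Agent.H24.fiberMap_comp_fiberι f g s) z)
  constructor
  · intro hs x hx
    have hx' : x ∈ Set.range ((f ≫ g).fiberι s) := by
      rw [Scheme.Hom.range_fiberι]; exact hx
    obtain ⟨z, rfl⟩ := hx'
    exact (key z).mp (hs z)
  · intro h z
    refine (key z).mpr (h _ ?_)
    have : ((f ≫ g).fiberι s) z ∈ (f ≫ g) ⁻¹' {s} := by
      rw [← Scheme.Hom.range_fiberι]; exact ⟨z, rfl⟩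
    exact this

theorem mem_smoothLocus_iff {Y S : Scheme.{u}} (g : Y ⟶ S) [LocallyOfFinitePresentation g] (y : Y) :
    y ∈ g.smoothLocus ↔ (g.stalkMap y).hom.Flat ∧ FibSmoothAt g y := by
  haveI := lfp_fiberToSpecResidueField g (g y)
  exact mem_smoothLocus_iff_flat_and_fiber g y (g y) rfl (g.asFiber y) (g.fiberι_asFiber y)

theorem isConsMor_P : ConsProp.IsConsMor P.{u} := by
  refine ⟨isFieldStableMor_P, ?_⟩
  intro X Y S f g _ _ _ _ _ _
  obtain ⟨V, hVne, hflat⟩ := exists_open_flat_of_integral g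
  haveI : IsLocallyNoetherian S := inferInstance
  haveI : LocallyOfFinitePresentation g := Groth.Agent.S1344.lfp_of_lft g
  haveI : LocallyOfFinitePresentation (f ≫ g) := Groth.Agent.S1344.lfp_of_lft (f ≫ g)
  haveI : IsLocallyNoetherian X := LocallyOfFiniteType.isLocallyNoetherian (f ≫ g)
  haveI : CompactSpace X := QuasiCompact.compactSpace_of_compactSpace (f ≫ g)
  haveI : IsNoetherian X := ⟨⟩
  haveI : QuasiSeparatedSpace S := quasiSeparatedSpace_of_noetherianSpace S
  let C : Set X := ((f ≫ g) ⁻¹' (V : Set S)) ∩ (f ⁻¹' (g.smoothLocus : Set Y))ᶜ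
  have hC : IsConstructible C := by
    apply IsConstructible.inter
    · have h1 : IsClosed ((f ≫ g) ⁻¹' (V : Set S))ᶜ :=
        (V.isOpen.preimage (f ≫ g).continuous).isClosed_compl
      exact isConstructible_compl.mp (Groth.Agent.H38.GenericConstr.isConstructible_of_isClosed h1)
    · exact (Groth.Agent.H38.GenericConstr.isConstructible_of_isClosed
        (g.smoothLocus.isOpen.preimage f.continuous).isClosed_compl)
  have hD : IsConstructible ((f ≫ g) '' C) := (f ≫ g).isConstructible_image hC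
  have hgen := Groth.Agent.H38.GenericConstr.nhds_or_of_isConstructible (genericPoint_spec S) hD
  have hηV : genericPoint S ∈ (V : Set S) :=
    ((genericPoint_spec S).mem_open_set_iff V.isOpen).mpr (by simpa using hVne)
  by_cases hη : genericPoint S ∈ (f ≫ g) '' C
  · right
    obtain ⟨U, hU, hηU, hUD⟩ := hgen.1 hη
    refine ⟨genericPoint S, ?_⟩
    rw [mem_interior]
    refine ⟨U, ?_, hU, hηU⟩
    intro s hs
    obtain ⟨x, ⟨hxV, hx⟩, rfl⟩ := hUD hs
    intro hmem
    rw [mem_locusMor_P_iff] at hmem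
    exact hx ((mem_smoothLocus_iff g (f x)).mpr ⟨hflat _ hxV, hmem x rfl⟩)
  · left
    obtain ⟨U, hU, hηU, hUD⟩ := hgen.2 hη
    refine ⟨genericPoint S, ?_⟩
    rw [mem_interior]
    refine ⟨U ∩ V, ?_, hU.inter V.isOpen, ⟨hηU, hηV⟩⟩
    rintro s ⟨hsU, hsV⟩
    rw [mem_locusMor_P_iff]
    intro x hx
    by_contra hncm
    apply hUD hsU
    refine ⟨x, ⟨?_, fun h => hncm ((mem_smoothLocus_iff g (f x)).mp h).2⟩, hx⟩
    show (f ≫ g) x ∈ (V : Set S)
    rw [show (f ≫ g) x = s from hx]
    exact hsV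

/-- The quasi-compact quasi-separated case, by the diagonal trick. -/
theorem main_qcqs {X S : Scheme.{u}} (f : X ⟶ S) [LocallyOfFinitePresentation f] [QuasiCompact f]
    [QuasiSeparated f] : IsLocallyConstructible {x : X | FibSmoothAt f x} := by
  let p₁ : pullback f f ⟶ X := pullback.fst f f
  let p₂ : pullback f f ⟶ X := pullback.snd f f
  let Δ : X ⟶ pullback f f := pullback.lift (𝟙 X) (𝟙 X) rfl
  have hΔ1 : Δ ≫ p₁ = 𝟙 X := pullback.lift_fst _ _ _
  have hΔ2 : Δ ≫ p₂ = 𝟙 X := pullback.lift_snd _ _ _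
  have sq : IsPullback p₁ p₂ f f := IsPullback.of_hasPullback f f
  haveI : LocallyOfFinitePresentation p₂ :=
    MorphismProperty.of_isPullback (P := @LocallyOfFinitePresentation) sq inferInstance
  haveI : QuasiCompact p₂ := MorphismProperty.of_isPullback (P := @QuasiCompact) sq inferInstance
  haveI : QuasiSeparated p₂ :=
    MorphismProperty.of_isPullback (P := @QuasiSeparated) sq inferInstance
  haveI : LocallyOfFinitePresentation (Δ ≫ p₂) := by rw [hΔ2]; infer_instance
  haveI : QuasiCompact (Δ ≫ p₂) := by rw [hΔ2]; infer_instance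
  haveI : QuasiSeparated (Δ ≫ p₂) := by rw [hΔ2]; infer_instance
  have h := Groth.Agent.H24.isLocallyConstructible_locusMor isConsMor_P Δ p₂
  have hp2 : ∀ x₁, p₂ (Δ x₁) = x₁ := fun x₁ => congr($(hΔ2) x₁)
  have hp1 : ∀ x₁, p₁ (Δ x₁) = x₁ := fun x₁ => congr($(hΔ1) x₁)
  have key : ∀ x₁ : X, FibSmoothAt p₂ (Δ x₁) ↔ FibSmoothAt f x₁ := by
    intro x₁
    rw [fibSmoothAt_baseChange_iff sq (Δ x₁)]
    exact fibSmoothAt_congr f (hp1 x₁)
  convert h using 1
  ext x
  rw [mem_locusMor_P_iff]
  constructor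
  · intro hx x₁ hx₁
    rw [hp2] at hx₁
    subst hx₁
    exact (key _).mpr hx
  · intro h'
    exact (key x).mp (h' x (hp2 x))

/-- The locus where the fibres are smooth is locally constructible in the source. -/
theorem main {X S : Scheme.{u}} (f : X ⟶ S) [LocallyOfFinitePresentation f] :
    IsLocallyConstructible {x : X | FibSmoothAt f x} := by
  intro x
  obtain ⟨V, hV, hxV, -⟩ :=
    exists_isAffineOpen_mem_and_subset (X := S) (x := f x) (U := ⊤) trivial
  obtain ⟨W, hW, hxW, e0⟩ :=
    exists_isAffineOpen_mem_and_subset (X := X) (x := x) (U := f ⁻¹ᵁ V) hxV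
  have e : W ≤ f ⁻¹ᵁ V := e0
  refine ⟨W, W.isOpen.mem_nhds hxW, W.isOpen, ?_⟩
  haveI : IsAffine (W : Scheme.{u}) := hW
  haveI : IsAffine (V : Scheme.{u}) := hV
  have h := (main_qcqs (f.resLE V W e)).isConstructible
  have hset : (Subtype.val ⁻¹' {x : X | FibSmoothAt f x} : Set (W : Scheme.{u})) =
      {w : (W : Scheme.{u}) | FibSmoothAt (f.resLE V W e) w} := by
    ext w
    have h1 := fibSmoothAt_comp_openImmersion W.ι f w
    have h2 := fibSmoothAt_comp_openImmersion_right (f.resLE V W e) V.ι w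
    have h3 : f.resLE V W e ≫ V.ι = W.ι ≫ f := Scheme.Hom.resLE_comp_ι f e
    show FibSmoothAt f (W.ι w) ↔ _
    exact h1.symm.trans ((fibSmoothAt_hom_congr h3.symm w).trans h2)
  exact hset ▸ h

end Groth.Agent.H9.SmoothCons
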