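import Mathlib
import Groth.Agent.H9.SmoothCons
import Groth.Agent.H24.ConsPropRows
import Groth.Agent.H48.UnramBC
import Groth.Agent.H48.StalkLocal

/-!
# Constructibility of the loci over which the fibre maps `X_s ⟶ Y_s` are smooth / unramified / étale
(helper9).
-/

set_option autoImplicit false
set_option linter.style.haveILetI false
universe u
open AlgebraicGeometry CategoryTheory Limits TopologicalSpace Topology

namespace Groth.Agent.H9.SmoothMorCons

open Groth.Agent.H9.CMCons Groth.Agent.H49.SmoothFibre Groth.Agent.H49.SmoothDescent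
  Groth.Agent.H49.SmoothFibreMap

/-- The two descriptions of the fibre map `X_s ⟶ Y_s`. -/
theorem prop_fiberMap_iff (P : MorphismProperty Scheme.{u}) (hP : P.RespectsIso) {X Y S : Scheme.{u}}
    (f : X ⟶ Y) (g : Y ⟶ S) (s : S) :
    P (MoreMor.fiberMap f g s) ↔ P (pullback.snd f (g.fiberι s)) := by
  haveI := hP
  have sq := Groth.Agent.H38.NowhereDenseFibre.isPullback_fiberMap f g s
  rw [← sq.isoPullback_hom_snd]
  exact P.cancel_left_of_respectsIso _ _

/-- In an integral Noetherian base, a set which is the complement inside a nonempty open `V` of the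
image of a constructible set has the dichotomy property. -/
theorem dichotomy {X S : Scheme.{u}} [IsIntegral S] [IsNoetherian S] (u : X ⟶ S)
    [LocallyOfFiniteType u] [QuasiCompact u] (V : S.Opens) (hVne : (V : Set S).Nonempty)
    (B : Set X) (hB : IsClosed B) (E : Set S)
    (hE : ∀ s ∈ V, (s ∈ E ↔ ∀ x, u x = s → x ∉ B)) :
    (interior E).Nonempty ∨ (interior Eᶜ).Nonempty := by
  haveI : IsLocallyNoetherian S := inferInstance
  haveI : LocallyOfFinitePresentation u := Groth.Agent.S1344.lfp_of_lft u
  haveI : IsLocallyNoetherian X := LocallyOfFiniteType.isLocallyNoetherian u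
  haveI : CompactSpace X := QuasiCompact.compactSpace_of_compactSpace u
  haveI : IsNoetherian X := ⟨⟩
  haveI : QuasiSeparatedSpace S := quasiSeparatedSpace_of_noetherianSpace S
  let C : Set X := (u ⁻¹' (V : Set S)) ∩ B
  have hC : IsConstructible C := by
    apply IsConstructible.inter
    · have h1 : IsClosed (u ⁻¹' (V : Set S))ᶜ :=
        (V.isOpen.preimage u.continuous).isClosed_compl
      exact isConstructible_compl.mp (Groth.Agent.H38.GenericConstr.isConstructible_of_isClosed h1)
    · exact Groth.Agent.H38.GenericConstr.isConstructible_of_isClosed hB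
  have hD : IsConstructible (u '' C) := u.isConstructible_image hC
  have hgen := Groth.Agent.H38.GenericConstr.nhds_or_of_isConstructible (genericPoint_spec S) hD
  have hηV : genericPoint S ∈ (V : Set S) :=
    ((genericPoint_spec S).mem_open_set_iff V.isOpen).mpr (by simpa using hVne)
  by_cases hη : genericPoint S ∈ u '' C
  · right
    obtain ⟨U, hU, hηU, hUD⟩ := hgen.1 hη
    refine ⟨genericPoint S, ?_⟩
    rw [mem_interior]
    refine ⟨U, ?_, hU, hηU⟩
    intro s hs
    obtain ⟨x, ⟨hxV, hx⟩, rfl⟩ := hUD hs
    intro hmem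
    exact ((hE _ hxV).mp hmem) x rfl hx
  · left
    obtain ⟨U, hU, hηU, hUD⟩ := hgen.2 hη
    refine ⟨genericPoint S, ?_⟩
    rw [mem_interior]
    refine ⟨U ∩ V, ?_, hU.inter V.isOpen, ⟨hηU, hηV⟩⟩
    rintro s ⟨hsU, hsV⟩
    rw [hE s hsV]
    intro x hx hxB
    apply hUD hsU
    refine ⟨x, ⟨?_, hxB⟩, hx⟩
    show u x ∈ (V : Set S)
    rw [hx]
    exact hsV

theorem isConsMor_smooth : ConsProp.IsConsMor.{u} (fun _ _ _ f _ => Smooth f) := by
  refine ⟨?_, ?_⟩
  · intro X X' Y Y' T T' f g f' g' eX eY h _ _ _ _ _ _ _ _ hY hX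
    constructor
    · intro hf
      exact MorphismProperty.of_isPullback (P := @Smooth) hX hf
    · intro hf'
      have hf'' : Smooth f' := hf'
      exact MorphismProperty.of_isPullback_of_descendsAlong (P := @Smooth)
        (Q := (@Surjective ⊓ @Flat ⊓ @QuasiCompact : MorphismProperty Scheme.{u})) hX.flip
        (Groth.Agent.H24.fpqc_of_isPullback hY) hf''
  · intro X Y S f g _ _ _ _ _ _
    obtain ⟨V, hVne, hflat⟩ := exists_open_flat_of_integral (f ≫ g)
    haveI : IsLocallyNoetherian S := inferInstance
    haveI : IsLocallyNoetherian Y := LocallyOfFiniteType.isLocallyNoetherian g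
    haveI : LocallyOfFiniteType f := locallyOfFiniteType_of_comp f g
    haveI : LocallyOfFinitePresentation f := Groth.Agent.S1344.lfp_of_lft f
    refine dichotomy (f ≫ g) V hVne ((f.smoothLocus : Set X)ᶜ) f.smoothLocus.isOpen.isClosed_compl
      _ (fun s hsV => ?_)
    have sq := Groth.Agent.H38.NowhereDenseFibre.isPullback_fiberMap f g s
    haveI : LocallyOfFinitePresentation (MoreMor.fiberMap f g s) :=
      MorphismProperty.of_isPullback (P := @LocallyOfFinitePresentation) sq inferInstance
    show Smooth (MoreMor.fiberMap f g s) ↔ _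
    rw [← Scheme.Hom.smoothLocus_eq_top_iff]
    constructor
    · intro htop x hx hxB
      apply hxB
      have hx' : x ∈ Set.range ((f ≫ g).fiberι s) := by
        rw [Scheme.Hom.range_fiberι]; exact hx
      obtain ⟨z, rfl⟩ := hx'
      refine mem_smoothLocus_of_flat_of_fiberMap f g s ((f ≫ g).fiberι s) (MoreMor.fiberMap f g s)
        sq z hx (hflat _ ?_) (htop ▸ trivial)
      rw [show (f ≫ g) ((f ≫ g).fiberι s z) = s from hx]
      exact hsV
    · intro h
      rw [eq_top_iff]
      intro z _
      refine mem_smoothLocus_of_isPullback sq z ?_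
      have hz : ((f ≫ g).fiberι s) z ∈ (f ≫ g) ⁻¹' {s} := by
        rw [← Scheme.Hom.range_fiberι]; exact ⟨z, rfl⟩
      by_contra hn
      exact h _ hz hn

theorem formallyUnramified_snd_iff {X Y Y' : Scheme.{u}} (f : X ⟶ Y) [LocallyOfFiniteType f]
    (ι : Y' ⟶ Y) :
    FormallyUnramified (pullback.snd f ι) ↔
      ∀ x' : ↑(pullback f ι), (f.stalkMap (pullback.fst f ι x')).hom.FormallyUnramified := by
  haveI : LocallyOfFiniteType (pullback.snd f ι) :=
    MorphismProperty.of_isPullback (P := @LocallyOfFiniteType) (IsPullback.of_hasPullback f ι)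
      inferInstance
  constructor
  · intro h x'
    exact (Groth.Agent.H48.unramified_stalk_baseChange_iff f ι x').mp
      (AlgebraicGeometry.FormallyUnramified.stalkMap _ x')
  · intro h
    exact formallyUnramified_of_forall_stalkMap _
      (fun x' => (Groth.Agent.H48.unramified_stalk_baseChange_iff f ι x').mpr (h x'))

theorem isOpen_unramified {X Y : Scheme.{u}} (f : X ⟶ Y) [LocallyOfFiniteType f] :
    IsOpen {x : X | (f.stalkMap x).hom.FormallyUnramified} := by
  rw [isOpen_iff_forall_mem_open]
  intro x hx
  obtain ⟨U, hxU, hU⟩ := (Groth.Agent.H48.unramified_nhd_iff f x).mpr hx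
  exact ⟨U, fun z hz => (Groth.Agent.H48.unramified_nhd_iff f z).mp ⟨U, hz, hU⟩, U.isOpen, hxU⟩

theorem isConsMor_formallyUnramified :
    ConsProp.IsConsMor.{u} (fun _ _ _ f _ => FormallyUnramified f) := by
  refine ⟨?_, ?_⟩
  · intro X X' Y Y' T T' f g f' g' eX eY h _ _ _ _ _ _ _ _ hY hX
    constructor
    · intro hf
      exact MorphismProperty.of_isPullback (P := @FormallyUnramified) hX hf
    · intro hf'
      have hf'' : FormallyUnramified f' := hf'
      exact MorphismProperty.of_isPullback_of_descendsAlong (P := @FormallyUnramified)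
        (Q := (@Surjective ⊓ @Flat ⊓ @QuasiCompact : MorphismProperty Scheme.{u})) hX.flip
        (Groth.Agent.H24.fpqc_of_isPullback hY) hf''
  · intro X Y S f g _ _ _ _ _ _
    haveI : LocallyOfFiniteType f := locallyOfFiniteType_of_comp f g
    obtain ⟨s₀⟩ : Nonempty S := inferInstance
    refine dichotomy (f ≫ g) ⊤ ⟨s₀, trivial⟩ {x : X | (f.stalkMap x).hom.FormallyUnramified}ᶜ
      (isOpen_unramified f).isClosed_compl _ (fun s _ => ?_)
    show FormallyUnramified (MoreMor.fiberMap f g s) ↔ _
    rw [prop_fiberMap_iff @FormallyUnramified MorphismProperty.IsStableUnderBaseChange.respectsIso f g s, formallyUnramified_snd_iff]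
    constructor
    · intro h x hx hxB
      apply hxB
      obtain ⟨y', hy'⟩ : f x ∈ Set.range (g.fiberι s) := by
        rw [Scheme.Hom.range_fiberι]; exact hx
      obtain ⟨z, hz, -⟩ := Scheme.Pullback.exists_preimage_pullback (f := f)
        (g := g.fiberι s) x y' hy'.symm
      have := h z
      rw [hz] at this
      exact this
    · intro h x'
      by_contra hn
      refine h (pullback.fst f (g.fiberι s) x') ?_ hn
      have h1 : f (pullback.fst f (g.fiberι s) x') = g.fiberι s (pullback.snd f (g.fiberι s) x') := by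
        rw [← Scheme.Hom.comp_apply, ← Scheme.Hom.comp_apply, pullback.condition]
      have h2 : g.fiberι s (pullback.snd f (g.fiberι s) x') ∈ g ⁻¹' {s} := by
        rw [← Scheme.Hom.range_fiberι]; exact ⟨_, rfl⟩
      show g (f (pullback.fst f (g.fiberι s) x')) = s
      rw [h1]
      exact h2

theorem smooth_locus_constructible {X Y S : Scheme.{u}} (f : X ⟶ Y) (g : Y ⟶ S)
    [LocallyOfFinitePresentation g] [QuasiCompact g] [QuasiSeparated g]
    [LocallyOfFinitePresentation (f ≫ g)] [QuasiCompact (f ≫ g)] [QuasiSeparated (f ≫ g)] :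
    IsLocallyConstructible {s : S | Smooth (pullback.snd f (g.fiberι s))} := by
  have h := Groth.Agent.H24.isLocallyConstructible_locusMor isConsMor_smooth f g
  convert h using 1
  ext s
  exact (prop_fiberMap_iff @Smooth MorphismProperty.IsStableUnderBaseChange.respectsIso f g s).symm

theorem unramified_locus_constructible {X Y S : Scheme.{u}} (f : X ⟶ Y) (g : Y ⟶ S)
    [LocallyOfFinitePresentation g] [QuasiCompact g] [QuasiSeparated g]
    [LocallyOfFinitePresentation (f ≫ g)] [QuasiCompact (f ≫ g)] [QuasiSeparated (f ≫ g)] :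
    IsLocallyConstructible {s : S | FormallyUnramified (pullback.snd f (g.fiberι s))} := by
  have h := Groth.Agent.H24.isLocallyConstructible_locusMor isConsMor_formallyUnramified f g
  convert h using 1
  ext s
  exact (prop_fiberMap_iff @FormallyUnramified MorphismProperty.IsStableUnderBaseChange.respectsIso f g s).symm

theorem etale_iff_smooth_and_unramified {X Y : Scheme.{u}} (f : X ⟶ Y) :
    Etale f ↔ Smooth f ∧ FormallyUnramified f := by
  constructor
  · intro h
    exact ⟨inferInstance, inferInstance⟩
  · rintro ⟨h1, h2⟩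
    exact Etale.of_formallyUnramified_of_flat f

theorem etale_locus_constructible {X Y S : Scheme.{u}} (f : X ⟶ Y) (g : Y ⟶ S)
    [LocallyOfFinitePresentation g] [QuasiCompact g] [QuasiSeparated g]
    [LocallyOfFinitePresentation (f ≫ g)] [QuasiCompact (f ≫ g)] [QuasiSeparated (f ≫ g)] :
    IsLocallyConstructible {s : S | Etale (pullback.snd f (g.fiberι s))} := by
  have h := (smooth_locus_constructible f g).inter (unramified_locus_constructible f g)
  convert h using 1
  ext s
  exact etale_iff_smooth_and_unramified _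

end Groth.Agent.H9.SmoothMorCons
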