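import Mathlib
import Groth.Agent.H9.SmoothMorCons
import Groth.Agent.S3443
import Groth.Agent.S3444

/-!
# Loci over which the fibre maps are open immersions / isomorphisms / monomorphisms (helper9)
-/

set_option autoImplicit false
set_option linter.style.haveILetI false
universe u
open AlgebraicGeometry CategoryTheory Limits TopologicalSpace Topology

namespace Groth.Agent.H9.FibreMapCons

open Groth.Agent.H9.SmoothMorCons

theorem isOpenImmersion_iff {X Y : Scheme.{u}} (φ : X ⟶ Y) :
    IsOpenImmersion φ ↔ Etale φ ∧ UniversallyInjective φ := by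
  constructor
  · intro h
    exact ⟨inferInstance, inferInstance⟩
  · rintro ⟨h1, h2⟩
    haveI : Surjective (pullback.diagonal φ) := (UniversallyInjective.iff_diagonal φ).mp h2
    haveI : IsOpenImmersion (pullback.diagonal φ) := inferInstance
    haveI : IsIso (pullback.diagonal φ) :=
      (isIso_iff_isOpenImmersion_and_surjective _).mpr ⟨inferInstance, inferInstance⟩
    haveI : Mono φ := (pullback.isIso_diagonal_iff φ).mp inferInstance
    exact IsOpenImmersion.of_flat_of_mono φ

theorem mono_iff {X Y : Scheme.{u}} (φ : X ⟶ Y) [LocallyOfFiniteType φ] :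
    Mono φ ↔ FormallyUnramified φ ∧ UniversallyInjective φ := by
  constructor
  · intro h
    haveI : IsIso (pullback.diagonal φ) := (pullback.isIso_diagonal_iff φ).mpr h
    exact ⟨inferInstance, inferInstance⟩
  · rintro ⟨h1, h2⟩
    haveI : Surjective (pullback.diagonal φ) := (UniversallyInjective.iff_diagonal φ).mp h2
    haveI : IsOpenImmersion (pullback.diagonal φ) := inferInstance
    haveI : IsIso (pullback.diagonal φ) :=
      (isIso_iff_isOpenImmersion_and_surjective _).mpr ⟨inferInstance, inferInstance⟩
    exact (pullback.isIso_diagonal_iff φ).mp inferInstance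

variable {X Y S : Scheme.{u}} (f : X ⟶ Y) (g : Y ⟶ S)

theorem lft_fiberMap [LocallyOfFiniteType (f ≫ g)] (s : S) :
    LocallyOfFiniteType (MoreMor.fiberMap f g s) := by
  haveI : LocallyOfFiniteType (MoreMor.fiberMap f g s ≫ g.fiberToSpecResidueField s) := by
    rw [Groth.Agent.H24.fiberMap_comp_fiberToSpec]
    exact MorphismProperty.of_isPullback (P := @LocallyOfFiniteType)
      (IsPullback.of_hasPullback (f ≫ g) (S.fromSpecResidueField s)) inferInstance
  exact locallyOfFiniteType_of_comp _ (g.fiberToSpecResidueField s)

section

variable [LocallyOfFinitePresentation g] [QuasiCompact g] [QuasiSeparated g]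
  [LocallyOfFinitePresentation (f ≫ g)] [QuasiCompact (f ≫ g)] [QuasiSeparated (f ≫ g)]

theorem etale_fm : IsLocallyConstructible {s : S | Etale (MoreMor.fiberMap f g s)} := by
  convert etale_locus_constructible f g using 1
  ext s
  exact prop_fiberMap_iff @Etale MorphismProperty.IsStableUnderBaseChange.respectsIso f g s

theorem unramified_fm :
    IsLocallyConstructible {s : S | FormallyUnramified (MoreMor.fiberMap f g s)} := by
  convert unramified_locus_constructible f g using 1
  ext s
  exact prop_fiberMap_iff @FormallyUnramified MorphismProperty.IsStableUnderBaseChange.respectsIso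
    f g s

theorem uinj_fm :
    IsLocallyConstructible {s : S | UniversallyInjective (MoreMor.fiberMap f g s)} :=
  Groth.Agent.S3444.result f g

theorem surj_fm :
    IsLocallyConstructible {s : S | Function.Surjective (MoreMor.fiberMap f g s).base} :=
  Groth.Agent.S3443.result f g

theorem openImm_fm :
    IsLocallyConstructible {s : S | IsOpenImmersion (MoreMor.fiberMap f g s)} := by
  convert (etale_fm f g).inter (uinj_fm f g) using 1
  ext s
  exact isOpenImmersion_iff _

theorem iso_fm : IsLocallyConstructible {s : S | IsIso (MoreMor.fiberMap f g s)} := by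
  convert (openImm_fm f g).inter (surj_fm f g) using 1
  ext s
  have h1 := isIso_iff_isOpenImmersion_and_surjective (MoreMor.fiberMap f g s)
  exact h1.trans (and_congr Iff.rfl ⟨fun h => h.surj, fun h => ⟨h⟩⟩)

theorem mono_fm : IsLocallyConstructible {s : S | Mono (MoreMor.fiberMap f g s)} := by
  convert (unramified_fm f g).inter (uinj_fm f g) using 1
  ext s
  haveI := lft_fiberMap f g s
  exact mono_iff _

end

end Groth.Agent.H9.FibreMapCons
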