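import Mathlib
import Groth.Agent.S3425
import Groth.Agent.S4584
import Groth.Agent.H24.FlatClosure

/-!
# Fibrewise closure of a constructible set is constructible (EGA IV 9.5.3-type statement)
(helper9)

For `f : X ⟶ S` and `Z ⊆ X`, `FC f Z = {x | x ∈ closure (Z ∩ f⁻¹{f x})}` is the union of the
closures of the traces of `Z` on the fibres, taken inside the fibres.
-/

set_option autoImplicit false
set_option linter.style.haveILetI false
universe u
open AlgebraicGeometry CategoryTheory Limits TopologicalSpace Topology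

namespace Groth.Agent.H9.FibClosure

open Groth.Agent.S3425

/-- The fibrewise closure of `Z`. -/
def FC {X S : Scheme.{u}} (f : X ⟶ S) (Z : Set X) : Set X :=
  {x | x ∈ closure (Z ∩ f.base ⁻¹' {f.base x})}

theorem mem_FC {X S : Scheme.{u}} (f : X ⟶ S) (Z : Set X) (x : X) :
    x ∈ FC f Z ↔ x ∈ closure (Z ∩ f.base ⁻¹' {f.base x}) := Iff.rfl

/-- For an inducing map, membership in the closure of a trace on the range. -/
theorem mem_closure_inter_range_iff {A B : Type*} [TopologicalSpace A] [TopologicalSpace B]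
    {ι : A → B} (hι : IsInducing ι) (Z : Set B) (w : A) :
    ι w ∈ closure (Z ∩ Set.range ι) ↔ w ∈ closure (ι ⁻¹' Z) := by
  rw [hι.closure_eq_preimage_closure_image, Set.image_preimage_eq_inter_range]
  rfl

/-- Membership in the fibrewise closure, read in the scheme-theoretic fibre. -/
theorem fiberι_mem_FC_iff {X S : Scheme.{u}} (f : X ⟶ S) (Z : Set X) (s : S) (w : f.fiber s) :
    (f.fiberι s).base w ∈ FC f Z ↔ w ∈ closure ((f.fiberι s).base ⁻¹' Z) := by
  rw [mem_FC, fiberι_mem f s w, ← f.range_fiberι s]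
  exact mem_closure_inter_range_iff (f.fiberι s).isEmbedding.isInducing Z w

/-- **The fibrewise closure commutes with base change.** -/
theorem FC_preimage {X X' S S' : Scheme.{u}} {f : X ⟶ S} {f' : X' ⟶ S'} {eX : X' ⟶ X}
    {h : S' ⟶ S} (sq : IsPullback eX f' f h) (Z : Set X) :
    FC f' (eX.base ⁻¹' Z) = eX.base ⁻¹' FC f Z := by
  ext x'
  obtain ⟨s', hs'⟩ : ∃ s', f'.base x' = s' := ⟨_, rfl⟩
  obtain ⟨w', rfl⟩ := exists_fiberι_eq f' s' x' hs'
  obtain ⟨φ, hφ1, hφ2⟩ : ∃ φ : f'.fiber s' ⟶ f.fiber (h.base s'),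
      φ ≫ f.fiberι (h.base s') = f'.fiberι s' ≫ eX ∧
      IsPullback φ (f'.fiberToSpecResidueField s') (f.fiberToSpecResidueField (h.base s'))
        (Spec.map (h.residueFieldMap s')) :=
    ⟨_, pullback.lift_fst _ _ _, isPullback_fiberToSpecResidueField_of_isPullback sq s'⟩
  haveI : Subsingleton ↥(Spec (S.residueField (h.base s'))) :=
    inferInstanceAs (Subsingleton (PrimeSpectrum _))
  haveI : UniversallyOpen (Spec.map (h.residueFieldMap s')) := inferInstance
  haveI : UniversallyOpen φ :=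
    MorphismProperty.of_isPullback (P := @UniversallyOpen) hφ2.flip inferInstance
  have e1 : eX.base ((f'.fiberι s').base w') = (f.fiberι (h.base s')).base (φ.base w') :=
    congr($(hφ1.symm) w')
  rw [fiberι_mem_FC_iff, Set.mem_preimage, e1, fiberι_mem_FC_iff]
  have e2 : (f'.fiberι s').base ⁻¹' (eX.base ⁻¹' Z) =
      φ.base ⁻¹' ((f.fiberι (h.base s')).base ⁻¹' Z) := by
    ext w
    show eX.base ((f'.fiberι s').base w) ∈ Z ↔ (f.fiberι (h.base s')).base (φ.base w) ∈ Z
    rw [show eX.base ((f'.fiberι s').base w) = (f.fiberι (h.base s')).base (φ.base w) from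
      congr($(hφ1.symm) w)]
  rw [e2, ← φ.isOpenMap.preimage_closure_eq_closure_preimage φ.continuous]
  rfl

theorem isProConstructible_of_isConstructible {X : Scheme.{u}} {Z : Set X}
    (hZ : IsConstructible Z) : ProCons.IsProConstructible Z :=
  ((Groth.Agent.S3402.result X Z).mp hZ.isLocallyConstructible).2

/-- Over an integral Noetherian base: the locus where a section lies in the fibrewise closure of a
constructible set contains a neighbourhood of the generic point, or its complement does. -/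
theorem section_dichotomy {B T : Scheme.{u}} [IsIntegral T] [IsNoetherian T] (u : B ⟶ T)
    [LocallyOfFiniteType u] [QuasiCompact u] (σ : T ⟶ B) (hσ : σ ≫ u = 𝟙 T) (Z : Set B)
    (hZ : IsConstructible Z) :
    (genericPoint T ∈ σ.base ⁻¹' FC u Z → (interior (σ.base ⁻¹' FC u Z)).Nonempty) ∧
    (genericPoint T ∉ σ.base ⁻¹' FC u Z → (interior (σ.base ⁻¹' FC u Z)ᶜ).Nonempty) := by
  haveI : IsLocallyNoetherian T := inferInstance
  haveI : LocallyOfFinitePresentation u := Groth.Agent.S1344.lfp_of_lft u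
  haveI : IsLocallyNoetherian B := LocallyOfFiniteType.isLocallyNoetherian u
  haveI : CompactSpace B := QuasiCompact.compactSpace_of_compactSpace u
  haveI : IsNoetherian B := ⟨⟩
  haveI : QuasiSeparatedSpace T :=
    Groth.Agent.H9.CMCons.quasiSeparatedSpace_of_noetherianSpace T
  have hopen : ∀ U : Set B, IsOpen U → IsConstructible U := fun U hU =>
    isConstructible_compl.mp
      (Groth.Agent.H38.GenericConstr.isConstructible_of_isClosed hU.isClosed_compl)
  set η := genericPoint T with hηdef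
  have hη := genericPoint_spec T
  have huσ : ∀ t : T, u.base (σ.base t) = t := fun t => congr($(hσ) t)
  constructor
  · intro hmem
    -- a point of `Z` in the generic fibre specializing to `σ η`
    obtain ⟨w₀, hw₀⟩ := exists_fiberι_eq u η (σ.base η) (huσ η)
    have hmem' : (u.fiberι η).base w₀ ∈ FC u Z := by rw [hw₀]; exact hmem
    rw [fiberι_mem_FC_iff] at hmem'
    obtain ⟨z', hz'Z, hz'w⟩ := Groth.Agent.H24.exists_specializes_of_mem_closure_proCons _
      (isProConstructible_of_isConstructible ((u.fiberι η).isConstructible_preimage hZ)) w₀ hmem'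
    set z := (u.fiberι η).base z' with hzdef
    have hzZ : z ∈ Z := hz'Z
    have huz : u.base z = η := fiberι_mem u η z'
    have hzσ : z ⤳ σ.base η := by
      rw [← hw₀]
      exact hz'w.map (u.fiberι η).continuous
    -- the closure of `z`
    obtain ⟨Y₂, κ, hκ, hκr⟩ :=
      Groth.Agent.H38.NowhereDenseFibre.exists_closedImmersion_range (closure {z}) isClosed_closure
    obtain ⟨ζ, hζ⟩ : z ∈ Set.range κ.base := by rw [hκr]; exact subset_closure rfl
    have hζgen : IsGenericPoint ζ (Set.univ : Set Y₂) := by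
      rw [isGenericPoint_def, κ.isEmbedding.closure_eq_preimage_closure_image, Set.image_singleton,
        hζ, ← hκr]
      ext y
      simp
    obtain ⟨U₂, hU₂o, hζU₂, hU₂Z⟩ :=
      (Groth.Agent.H38.GenericConstr.nhds_or_of_isConstructible hζgen
        (κ.isConstructible_preimage hZ)).1 (by show κ.base ζ ∈ Z; rw [hζ]; exact hzZ)
    let v : Y₂ ⟶ T := κ ≫ u
    have hvζ : v.base ζ = η := by
      show u.base (κ.base ζ) = η
      rw [hζ]; exact huz
    obtain ⟨ζ', hζ'⟩ := exists_fiberι_eq v η ζ hvζ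
    have hnd : IsNowhereDense ((v.fiberι η).base ⁻¹' U₂ᶜ) := by
      rw [(hU₂o.isClosed_compl.preimage (v.fiberι η).continuous).isNowhereDense_iff]
      by_contra hne
      obtain ⟨w, hw⟩ := Set.nonempty_iff_ne_empty.mpr hne
      have h1 : ζ' ⤳ w := by
        rw [← (v.fiberι η).isEmbedding.isInducing.specializes_iff, hζ']
        exact hζgen.specializes (Set.mem_univ _)
      have h2 : ζ' ∈ interior ((v.fiberι η).base ⁻¹' U₂ᶜ) := h1.mem_open isOpen_interior hw
      have h3' : ζ' ∈ (v.fiberι η).base ⁻¹' U₂ᶜ := interior_subset h2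
      have h3 : (v.fiberι η).base ζ' ∈ U₂ᶜ := h3'
      rw [hζ'] at h3
      exact h3 hζU₂
    obtain ⟨V, hηV, hV⟩ :=
      Groth.Agent.H38.NowhereDenseFibre.exists_opens_forall_isNowhereDense v U₂ᶜ
        hU₂o.isClosed_compl hnd
    refine ⟨η, mem_interior.mpr ⟨V, ?_, V.isOpen, hηV⟩⟩
    intro t ht
    have h1 := hV t ht
    have h2 : Dense ((v.fiberι t).base ⁻¹' U₂) := by
      have hcl : IsClosed ((v.fiberι t).base ⁻¹' U₂ᶜ) :=
        hU₂o.isClosed_compl.preimage (v.fiberι t).continuous
      rw [hcl.isNowhereDense_iff, interior_eq_empty_iff_dense_compl, ← Set.preimage_compl,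
        compl_compl] at h1
      exact h1
    -- `σ t` lies in the closure of `z`
    have h3 : σ.base t ∈ closure {z} := by
      have h4 : η ⤳ t := hη.specializes (Set.mem_univ _)
      exact (specializes_iff_mem_closure.mp (hzσ.trans (h4.map σ.continuous)))
    rw [← hκr] at h3
    obtain ⟨y, hy⟩ := h3
    have hvy : v.base y = t := by
      show u.base (κ.base y) = t
      rw [hy]; exact huσ t
    obtain ⟨w, hw⟩ := exists_fiberι_eq v t y hvy
    have h5 : (v.fiberι t).base w ∈ FC v U₂ := by
      rw [fiberι_mem_FC_iff]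
      exact h2 w
    rw [hw, mem_FC, hvy] at h5
    show σ.base t ∈ closure (Z ∩ u.base ⁻¹' {u.base (σ.base t)})
    rw [huσ t, ← hy]
    have h6 : κ.base y ∈ closure (κ.base '' (U₂ ∩ v.base ⁻¹' {t})) :=
      image_closure_subset_closure_image κ.continuous ⟨y, h5, rfl⟩
    refine closure_mono ?_ h6
    rintro _ ⟨y', ⟨hy'U, hy't⟩, rfl⟩
    exact ⟨hU₂Z hy'U, hy't⟩
  · intro hmem
    have hmem' : σ.base η ∉ closure (Z ∩ u.base ⁻¹' {η}) := by
      intro h
      apply hmem
      show σ.base η ∈ closure (Z ∩ u.base ⁻¹' {u.base (σ.base η)})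
      rw [huσ η]; exact h
    rw [mem_closure_iff] at hmem'
    push Not at hmem'
    obtain ⟨N, hN, hσN, hNZ⟩ := hmem'
    have hg1 : IsConstructible (u.base '' (N ∩ Z)) :=
      u.isConstructible_image ((hopen N hN).inter hZ)
    have hη1 : η ∉ u.base '' (N ∩ Z) := by
      rintro ⟨b, ⟨hbN, hbZ⟩, hb⟩
      exact Set.eq_empty_iff_forall_notMem.mp hNZ b ⟨hbN, hbZ, hb⟩
    obtain ⟨V, hVo, hηV, hV⟩ :=
      (Groth.Agent.H38.GenericConstr.nhds_or_of_isConstructible hη hg1).2 hη1
    refine ⟨η, mem_interior.mpr ⟨V ∩ σ.base ⁻¹' N, ?_, hVo.inter (hN.preimage σ.continuous),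
      ⟨hηV, hσN⟩⟩⟩
    rintro t ⟨htV, htN⟩ htmem
    have h1 : σ.base t ∈ closure (Z ∩ u.base ⁻¹' {u.base (σ.base t)}) := htmem
    rw [huσ t, mem_closure_iff] at h1
    obtain ⟨b, hbN, hbZ, hbt⟩ := h1 N hN htN
    exact hV htV ⟨b, ⟨hbN, hbZ⟩, hbt⟩

/-- Base change of the situation along an integral closed subscheme of the source: the trace of
the fibrewise closure is the locus of a section. -/
theorem preimage_FC_eq_section {X S Y' : Scheme.{u}} (f : X ⟶ S) (i : Y' ⟶ X) (Z : Set X) :
    i.base ⁻¹' FC f Z =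
      (pullback.lift i (𝟙 Y') (by simp) : Y' ⟶ pullback f (i ≫ f)).base ⁻¹'
        FC (pullback.snd f (i ≫ f)) ((pullback.fst f (i ≫ f)).base ⁻¹' Z) := by
  rw [FC_preimage (IsPullback.of_hasPullback f (i ≫ f)) Z, ← Set.preimage_comp]
  congr 1
  have h : (pullback.lift i (𝟙 Y') (by simp) : Y' ⟶ pullback f (i ≫ f)) ≫
      pullback.fst f (i ≫ f) = i := pullback.lift_fst _ _ _
  funext y
  exact congr($(h.symm) y)

/-- **Noetherian case**: the fibrewise closure of a constructible set is constructible. -/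
theorem isLocallyConstructible_FC_noeth {X S : Scheme.{u}} [IsNoetherian S] (f : X ⟶ S)
    [LocallyOfFiniteType f] [QuasiCompact f] (Z : Set X) (hZ : IsConstructible Z) :
    IsLocallyConstructible (FC f Z) := by
  haveI : IsLocallyNoetherian S := inferInstance
  haveI : IsLocallyNoetherian X := LocallyOfFiniteType.isLocallyNoetherian f
  haveI : CompactSpace X := QuasiCompact.compactSpace_of_compactSpace f
  haveI : IsNoetherian X := ⟨⟩
  have key : ∀ (Y' : Scheme.{u}) (i : Y' ⟶ X) [IsClosedImmersion i] [IsIntegral Y']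
      [IsNoetherian Y'],
      (genericPoint Y' ∈ i.base ⁻¹' FC f Z → (interior (i.base ⁻¹' FC f Z)).Nonempty) ∧
      (genericPoint Y' ∉ i.base ⁻¹' FC f Z → (interior (i.base ⁻¹' FC f Z)ᶜ).Nonempty) := by
    intro Y' i _ _ _
    rw [preimage_FC_eq_section f i Z]
    exact section_dichotomy (pullback.snd f (i ≫ f)) _ (pullback.lift_snd _ _ _) _
      ((pullback.fst f (i ≫ f)).isConstructible_preimage hZ)
  rw [Groth.Agent.S3402.result]
  constructor
  · apply Groth.Agent.H24.isIndConstructible_of_forall_integral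
    intro Y' i _ _ _ hgen
    exact (key Y' i).1 hgen
  · rw [Groth.Agent.H17.isProConstructible_iff_compl]
    apply Groth.Agent.H24.isIndConstructible_of_forall_integral
    intro Y' i _ _ _ hgen
    exact (key Y' i).2 hgen

theorem range_eq_preimage_of_isPullback {X X' Y Y' : Scheme.{u}} {f : X ⟶ Y} {f' : X' ⟶ Y'}
    {eX : X' ⟶ X} {eY : Y' ⟶ Y} (hX : IsPullback eX f' f eY) :
    Set.range f'.base = eY.base ⁻¹' Set.range f.base := by
  ext y'
  constructor
  · rintro ⟨x', rfl⟩
    exact ⟨eX.base x', congr($(hX.w) x')⟩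
  · rintro ⟨x, hx⟩
    obtain ⟨p, -, hp⟩ := Scheme.exists_preimage_of_isPullback hX x y' hx
    exact ⟨p, hp⟩

/-- **Affine base**: the fibrewise closure of a constructible set is constructible. -/
theorem isConstructible_FC_affine {X S : Scheme.{u}} [IsAffine S] (f : X ⟶ S)
    [LocallyOfFinitePresentation f] [QuasiCompact f] [QuasiSeparated f] (Z : Set X)
    (hZ : IsConstructible Z) : IsConstructible (FC f Z) := by
  haveI : CompactSpace X := QuasiCompact.compactSpace_of_compactSpace f
  haveI : QuasiSeparatedSpace X := quasiSeparatedSpace_of_quasiSeparated f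
  obtain ⟨W, a, hW, ha1, ha2, ha3, hr⟩ := Groth.Agent.S4584.result X Z hZ
  haveI := ha1
  haveI := ha2
  haveI := ha3
  haveI : LocallyOfFinitePresentation (a ≫ f) := inferInstance
  haveI : QuasiCompact (a ≫ f) := inferInstance
  haveI : QuasiSeparated (a ≫ f) := inferInstance
  obtain ⟨S₀, W₀, X₀, h, a₀, f₀, eW, eX, hN, i1, i2, i3, i4, sqX, sqW⟩ :=
    Groth.Agent.H24.exists_noetherian_model_mor a f
  haveI := hN
  haveI := i1
  haveI := i2
  haveI := i3
  haveI := i4
  haveI : IsLocallyNoetherian S₀ := inferInstance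
  haveI : IsLocallyNoetherian X₀ := LocallyOfFiniteType.isLocallyNoetherian f₀
  haveI : CompactSpace X₀ := QuasiCompact.compactSpace_of_compactSpace f₀
  haveI : IsNoetherian X₀ := ⟨⟩
  haveI : QuasiSeparatedSpace X₀ :=
    Groth.Agent.H9.CMCons.quasiSeparatedSpace_of_noetherianSpace X₀
  haveI : LocallyOfFiniteType a₀ := locallyOfFiniteType_of_comp a₀ f₀
  haveI : LocallyOfFinitePresentation a₀ := Groth.Agent.S1344.lfp_of_lft a₀
  haveI : QuasiSeparated f₀ := Groth.Agent.H24.qs_of_lft_noetherian f₀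
  haveI : QuasiCompact a₀ := QuasiCompact.of_comp a₀ f₀
  have hZ₀ : IsConstructible (Set.range a₀.base) := by
    rw [← Set.image_univ]
    exact a₀.isConstructible_image IsConstructible.univ
  have hZeq : Z = eX.base ⁻¹' Set.range a₀.base := by
    rw [← hr]
    exact range_eq_preimage_of_isPullback sqW
  rw [hZeq, FC_preimage sqX]
  exact eX.isConstructible_preimage (isLocallyConstructible_FC_noeth f₀ _ hZ₀).isConstructible

/-- **General case**: the fibrewise closure of a locally constructible set is locally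
constructible. -/
theorem isLocallyConstructible_FC {X S : Scheme.{u}} (f : X ⟶ S)
    [LocallyOfFinitePresentation f] [QuasiCompact f] [QuasiSeparated f] (Z : Set X)
    (hZ : IsLocallyConstructible Z) : IsLocallyConstructible (FC f Z) := by
  intro x
  obtain ⟨V, hV, hxV, -⟩ :=
    exists_isAffineOpen_mem_and_subset (X := S) (x := f.base x) (U := ⊤) trivial
  refine ⟨f ⁻¹ᵁ V, (f ⁻¹ᵁ V).isOpen.mem_nhds hxV, (f ⁻¹ᵁ V).isOpen, ?_⟩
  haveI : IsAffine (V : Scheme.{u}) := hV
  have sq : IsPullback (f ⁻¹ᵁ V).ι (f ∣_ V) f V.ι := (isPullback_morphismRestrict f V).flip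
  haveI : CompactSpace ↥(f ⁻¹ᵁ V : Scheme.{u}) :=
    QuasiCompact.compactSpace_of_compactSpace (f ∣_ V)
  haveI : QuasiSeparatedSpace ↥(f ⁻¹ᵁ V : Scheme.{u}) :=
    quasiSeparatedSpace_of_quasiSeparated (f ∣_ V)
  have hZ' : IsConstructible ((f ⁻¹ᵁ V).ι.base ⁻¹' Z) :=
    (hZ.preimage_of_isOpenEmbedding (f ⁻¹ᵁ V).ι.isOpenEmbedding).isConstructible
  have h := isConstructible_FC_affine (f ∣_ V) _ hZ'
  rw [FC_preimage sq] at h
  exact h

end Groth.Agent.H9.FibClosure
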