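import Mathlib
import Groth.Agent.H9.FibClosure

/-!
# Fibrewise closure: locality on source and target; the lfp-only version (helper9)
-/

set_option autoImplicit false
set_option linter.style.haveILetI false
universe u
open AlgebraicGeometry CategoryTheory Limits TopologicalSpace Topology

namespace Groth.Agent.H9.FibClosure

/-- Composing with a map injective on points does not change the fibrewise closure. -/
theorem FC_comp_of_injective {X S T : Scheme.{u}} (f : X ⟶ S) (h : S ⟶ T)
    (hh : Function.Injective h.base) (Z : Set X) : FC (f ≫ h) Z = FC f Z := by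
  ext x
  simp only [mem_FC]
  have e : (f ≫ h).base ⁻¹' {(f ≫ h).base x} = f.base ⁻¹' {f.base x} := by
    ext y
    simp only [Set.mem_preimage, Set.mem_singleton_iff]
    exact hh.eq_iff
  rw [e]

/-- The fibrewise closure is local on the source. -/
theorem FC_openImmersion {W X S : Scheme.{u}} (j : W ⟶ X) [IsOpenImmersion j] (f : X ⟶ S)
    (Z : Set X) : FC (j ≫ f) (j.base ⁻¹' Z) = j.base ⁻¹' FC f Z := by
  ext w
  simp only [mem_FC, Set.mem_preimage]
  have e : j.base ⁻¹' Z ∩ (j ≫ f).base ⁻¹' {(j ≫ f).base w} =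
      j.base ⁻¹' (Z ∩ f.base ⁻¹' {f.base (j.base w)}) := rfl
  rw [e, ← j.isOpenEmbedding.isOpenMap.preimage_closure_eq_closure_preimage j.continuous]
  rfl

/-- **The fibrewise closure of a locally constructible set is locally constructible**, for a
morphism locally of finite presentation (no quasi-compactness needed). -/
theorem isLocallyConstructible_FC' {X S : Scheme.{u}} (f : X ⟶ S)
    [LocallyOfFinitePresentation f] (Z : Set X) (hZ : IsLocallyConstructible Z) :
    IsLocallyConstructible (FC f Z) := by
  intro x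
  obtain ⟨V, hV, hxV, -⟩ :=
    exists_isAffineOpen_mem_and_subset (X := S) (x := f.base x) (U := ⊤) trivial
  obtain ⟨W, hW, hxW, e0⟩ :=
    exists_isAffineOpen_mem_and_subset (X := X) (x := x) (U := f ⁻¹ᵁ V) hxV
  have e : W ≤ f ⁻¹ᵁ V := e0
  refine ⟨W, W.isOpen.mem_nhds hxW, W.isOpen, ?_⟩
  haveI : IsAffine (W : Scheme.{u}) := hW
  haveI : IsAffine (V : Scheme.{u}) := hV
  have h3 : f.resLE V W e ≫ V.ι = W.ι ≫ f := Scheme.Hom.resLE_comp_ι f e
  have hZ' : IsLocallyConstructible (W.ι.base ⁻¹' Z) :=
    hZ.preimage_of_isOpenEmbedding W.ι.isOpenEmbedding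
  have h := (isLocallyConstructible_FC (f.resLE V W e) _ hZ').isConstructible
  rw [← FC_comp_of_injective (f.resLE V W e) V.ι V.ι.isOpenEmbedding.injective, h3,
    FC_openImmersion] at h
  exact h

end Groth.Agent.H9.FibClosure
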