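import Mathlib
import Groth.Agent.S3451
import Groth.Agent.S1464
import Groth.Agent.S4702
import Groth.Agent.H7.CFun
import Groth.Agent.H38.GenericConstr
import Groth.Agent.H38.ProdLocalDim
import Groth.Agent.H9.ConsModel
import Groth.Agent.S3402
import Groth.Agent.H24.FlatClosure

/-!
# Dimensions of the irreducible components of the fibres of a constructible set (helper9)

EGA IV 9.5.x-type: for `f : X ⟶ S` of finite presentation and `Z ⊆ X` locally constructible with
locally closed traces on the fibres, the level sets of `s ↦ {dim C | C component of Z ∩ f⁻¹(s)}`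
are locally constructible (`result'`).  Main tools: `G f n Z` (points having a generization in `Z`,
in the same fibre, with residue field of transcendence degree `≥ n`), the formula `G_range_eq`
expressing it as a fibrewise closure, and `fibre_data` (scheme structure on the traces).
-/

set_option autoImplicit false
set_option linter.style.haveILetI false
universe u
open CategoryTheory AlgebraicGeometry

namespace Groth.Agent.H9.CompDims


open Groth.Agent.H9.FibClosure Groth.Agent.H54 Groth.Agent.H9.FibDim Groth.Agent.H9.FibreGeneric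
  Groth.Agent.H9.Equidim Topology Groth.Agent.H38.ProdLocalDim Groth.Agent.H9.FibreFormula

section Field

variable {k : Type u} [Field k] {F : Scheme.{u}} (s : F ⟶ Spec (CommRingCat.of k))
  [LocallyOfFiniteType s]

theorem natCast_le_localDim_iff (w : F) (n : ℕ) :
    (n : WithBot ℕ∞) ≤ FlatMor.localDim F w ↔ ∃ ζ : F, ζ ⤳ w ∧ n ≤ tdeg s ζ := by
  constructor
  · intro h
    obtain ⟨ζ, hζ, he⟩ := exists_specializes_tdeg_eq s w
    rw [he] at h
    exact ⟨ζ, hζ, by exact_mod_cast h⟩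
  · rintro ⟨ζ, hζ, hn⟩
    exact le_trans (by exact_mod_cast hn) (tdeg_le_localDim s hζ)

theorem dim_closure_generic (ξ : F)
    (hξ : closure ({ξ} : Set F) ∈ irreducibleComponents (F : Type u)) :
    topologicalKrullDim ↥(closure ({ξ} : Set F)) = ((tdeg s ξ : ℕ) : WithBot ℕ∞) := by
  obtain ⟨ζ, hcl, hdim⟩ := Groth.Agent.S4702.dim_irreducibleComponent_eq_tdeg s _ hξ
  have hζ : ζ = ξ := (isGenericPoint_def.mpr hcl).eq isGenericPoint_closure
  subst hζ
  exact hdim

include s in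
theorem image_dim_components_eq_range_localDim :
    (fun C : Set F => topologicalKrullDim ↥C) '' irreducibleComponents (F : Type u) =
      Set.range (FlatMor.localDim F) := by
  ext d
  constructor
  · rintro ⟨C, hC, rfl⟩
    obtain ⟨ζ, hcl, hdim⟩ := Groth.Agent.S4702.dim_irreducibleComponent_eq_tdeg s C hC
    refine ⟨ζ, ?_⟩
    show FlatMor.localDim F ζ = topologicalKrullDim ↥C
    rw [hdim]
    exact Groth.Agent.S3451.localDim_generic s ζ (by rw [hcl]; exact hC)
  · rintro ⟨w, rfl⟩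
    obtain ⟨ζ, hζw, he⟩ := exists_specializes_tdeg_eq s w
    obtain ⟨ξ, hξζ, hξ⟩ := exists_generic_specializes ζ
    have h1 : tdeg s ζ ≤ tdeg s ξ := tdeg_le_of_specializes s hξζ
    have h2 := Groth.Agent.S3451.localDim_generic s ξ hξ
    have h3 : FlatMor.localDim F ξ ≤ FlatMor.localDim F w :=
      localDim_le_of_specializes (hξζ.trans hζw)
    refine ⟨closure {ξ}, hξ, ?_⟩
    show topologicalKrullDim ↥(closure ({ξ} : Set F)) = FlatMor.localDim F w
    rw [dim_closure_generic s ξ hξ]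
    apply le_antisymm
    · rw [← h2]; exact h3
    · rw [he]; exact_mod_cast h1

end Field

theorem tdeg_eq_of_surjectiveOnStalks {k : Type u} [Field k] {X Y : Scheme.{u}}
    (p : X ⟶ Spec (CommRingCat.of k)) (q : Y ⟶ Spec (CommRingCat.of k))
    [LocallyOfFiniteType p] [LocallyOfFiniteType q] (j : Y ⟶ X) [SurjectiveOnStalks j]
    (hj : j ≫ p = q) (y : Y) : tdeg q y = tdeg p (j y) := by
  refine le_antisymm ?_ (tdeg_le_of_hom p q j hj y)
  letI := (resMapOf p (j y)).toAlgebra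
  letI := (resMapOf q y).toAlgebra
  have hcomm : ∀ c : k, (j.residueFieldMap y).hom (algebraMap k (X.residueField (j y)) c) =
      algebraMap k (Y.residueField y) c := fun c =>
    congrArg (fun φ => φ.hom c) (resMapOf_comp_residueFieldMap p q j hj y)
  let g : X.residueField (j y) →ₐ[k] Y.residueField y :=
    { (j.residueFieldMap y).hom with commutes' := hcomm }
  have hsurj : Function.Surjective g := by
    have h1 : Function.Surjective ((X.residue (j y)) ≫ j.residueFieldMap y).hom := by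
      rw [Scheme.residue_residueFieldMap]
      exact (Y.residue_surjective y).comp (j.stalkMap_surjective y)
    exact Function.Surjective.of_comp (g := (X.residue (j y)).hom) h1
  have h1 := trdeg_le_of_surjective g hsurj
  rw [tdeg_spec p (j y), tdeg_spec q y] at h1
  exact_mod_cast h1


/-- transcendence degree of `κ(x)` over `κ(f x)` -/
noncomputable def trd {X S : Scheme.{u}} (f : X ⟶ S) (x : X) : Cardinal.{u} :=
  @Algebra.trdeg (S.residueField (f.base x)) (X.residueField x) _ _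
    (f.residueFieldMap x).hom.toAlgebra

/-- points having a generization in `E`, in the same fibre, of transcendence degree `≥ n` -/
def G {X S : Scheme.{u}} (f : X ⟶ S) (n : ℕ) (E : Set X) : Set X :=
  {x | ∃ ξ ∈ E, f.base ξ = f.base x ∧ ξ ⤳ x ∧ (n : Cardinal.{u}) ≤ trd f ξ}

theorem le_fibreDimAt_of_le_trd {X S : Scheme.{u}} (f : X ⟶ S) [LocallyOfFiniteType f] (ξ : X)
    (n : ℕ) (h : (n : Cardinal.{u}) ≤ trd f ξ) : (n : WithBot ℕ∞) ≤ FlatMor.fibreDimAt f ξ := by
  obtain ⟨m, b, h1, -, h3⟩ := fibre_formula f ξ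
  rw [h3]
  have : (n : Cardinal.{u}) ≤ (m : Cardinal.{u}) := by
    unfold trd at h
    rw [h1] at h
    exact h
  have hnm : n ≤ m := by exact_mod_cast this
  exact_mod_cast Nat.le_add_right_of_le hnm

theorem trd_comp {Y X S : Scheme.{u}} (g : Y ⟶ X) [SurjectiveOnStalks g] (f : X ⟶ S) (y : Y) :
    trd (g ≫ f) y = trd f (g.base y) :=
  trdeg_comp_of_surjectiveOnStalks g f y

theorem exists_specializes_of_mem_FC {X S : Scheme.{u}} (f : X ⟶ S) (B : Set X)
    (hB : IsLocallyConstructible B) (x : X) (hx : x ∈ FC f B) :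
    ∃ b ∈ B, f.base b = f.base x ∧ b ⤳ x := by
  have hx' : (f.fiberι (f.base x)).base (f.asFiber x) ∈ FC f B := by
    rw [f.fiberι_asFiber]; exact hx
  rw [fiberι_mem_FC_iff] at hx'
  have hpro : ProCons.IsProConstructible ((f.fiberι (f.base x)).base ⁻¹' B) :=
    ((Groth.Agent.S3402.result _ _).mp
      (Groth.Agent.H7.isLocallyConstructible_preimage (f.fiberι (f.base x)) hB)).2
  obtain ⟨z', hz'B, hz'w⟩ :=
    Groth.Agent.H24.exists_specializes_of_mem_closure_proCons _ hpro _ hx'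
  refine ⟨(f.fiberι (f.base x)).base z', hz'B, fiberι_mem f (f.base x) z', ?_⟩
  have := hz'w.map (f.fiberι (f.base x)).continuous
  rwa [f.fiberι_asFiber] at this

/-- **Key formula**: for `g` surjective on stalks, `G f n (range g)` is the fibrewise closure of the
image of the locus where the local fibre dimension of `g ≫ f` is at least `n`. -/
theorem G_range_eq {Y X S : Scheme.{u}} (g : Y ⟶ X) [SurjectiveOnStalks g]
    [LocallyOfFinitePresentation g] [QuasiCompact g] (f : X ⟶ S) [LocallyOfFinitePresentation f]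
    (n : ℕ) :
    G f n (Set.range g.base) =
      FC f (g.base '' {y : Y | (n : WithBot ℕ∞) ≤ FlatMor.fibreDimAt (g ≫ f) y}) := by
  have hB : IsLocallyConstructible
      (g.base '' {y : Y | (n : WithBot ℕ∞) ≤ FlatMor.fibreDimAt (g ≫ f) y}) :=
    g.isLocallyConstructible_image (Groth.Agent.S1464.isLocallyConstructible_ge (g ≫ f) n)
  ext x
  constructor
  · rintro ⟨_, ⟨y, rfl⟩, hfx, hsp, hn⟩
    rw [← trd_comp g f y] at hn
    have hy := le_fibreDimAt_of_le_trd (g ≫ f) y n hn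
    rw [mem_FC]
    refine closure_mono ?_ (specializes_iff_mem_closure.mp hsp)
    rintro _ rfl
    exact ⟨⟨y, hy, rfl⟩, hfx⟩
  · intro hx
    obtain ⟨_, ⟨y, hy, rfl⟩, hfb, hbx⟩ := exists_specializes_of_mem_FC f _ hB x hx
    obtain ⟨ζ, m, hζy, hfζ, htr, hle⟩ := exists_fibre_generization (g ≫ f) y
    have hnm : n ≤ m := by
      have : (n : WithBot ℕ∞) ≤ (m : WithBot ℕ∞) := le_trans hy hle
      exact_mod_cast this
    refine ⟨g.base ζ, ⟨ζ, rfl⟩, ?_, (hζy.map g.continuous).trans hbx, ?_⟩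
    · exact (show f.base (g.base ζ) = f.base (g.base y) from hfζ).trans hfb
    · rw [← trd_comp g f ζ]
      unfold trd
      rw [htr]
      exact_mod_cast hnm


/-- A scheme structure on a locally closed subset of a fibre. -/
theorem exists_fibre_scheme {X S : Scheme.{u}} (f : X ⟶ S) [LocallyOfFiniteType f] (Z : Set X)
    (s : S) (hZs : IsLocallyClosed ((f.fiberι s).base ⁻¹' Z)) :
    ∃ (W : Scheme.{u}) (j : W ⟶ f.fiber s), SurjectiveOnStalks j ∧ IsEmbedding j.base ∧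
      LocallyOfFiniteType (j ≫ fiberQ f s) ∧ Set.range j.base = (f.fiberι s).base ⁻¹' Z := by
  obtain ⟨U, C, hU, hC, hUC⟩ := hZs
  let I := Scheme.IdealSheafData.vanishingIdeal (⟨C, hC⟩ : TopologicalSpace.Closeds (f.fiber s))
  let V : I.subscheme.Opens := I.subschemeι ⁻¹ᵁ ⟨U, hU⟩
  have hr : Set.range I.subschemeι.base = C := by
    rw [Scheme.IdealSheafData.range_subschemeι, Scheme.IdealSheafData.coe_support_vanishingIdeal]
    rfl
  refine ⟨V.toScheme, V.ι ≫ I.subschemeι, inferInstance, (V.ι ≫ I.subschemeι).isEmbedding,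
    inferInstance, ?_⟩
  rw [hUC]
  ext z
  constructor
  · rintro ⟨w, rfl⟩
    refine ⟨w.2, ?_⟩
    rw [← hr]
    exact ⟨w.1, rfl⟩
  · rintro ⟨hzU, hzC⟩
    rw [← hr] at hzC
    obtain ⟨c, rfl⟩ := hzC
    exact ⟨⟨c, hzU⟩, rfl⟩


/-- The trace of `Z` on a fibre, when locally closed, is homeomorphic to a scheme of finite type over
the residue field, compatibly with transcendence degrees. -/
theorem fibre_data {X S : Scheme.{u}} (f : X ⟶ S) [LocallyOfFiniteType f] (Z : Set X) (s : S)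
    (hZs : IsLocallyClosed (Subtype.val ⁻¹' Z : Set ↥(⇑f ⁻¹' {s}))) :
    ∃ (W : Scheme.{u}) (q : W ⟶ Spec (CommRingCat.of (S.residueField s)))
      (_ : LocallyOfFiniteType q) (h : W ≃ₜ ↥(Z ∩ ⇑f ⁻¹' {s})),
      ∀ w : W, trd f (h w).1 = (tdeg q w : Cardinal.{u}) := by
  have hZs' : IsLocallyClosed ((f.fiberι s).base ⁻¹' Z) := by
    have e : (f.fiberι s).base ⁻¹' Z = (f.fiberHomeo s) ⁻¹' (Subtype.val ⁻¹' Z) := by
      ext z
      simp only [Set.mem_preimage]
      rw [Scheme.Hom.fiberHomeo_apply]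
    rw [e]
    exact hZs.preimage (f.fiberHomeo s).continuous
  obtain ⟨W, j, hj1, hj2, hj3, hj4⟩ := exists_fibre_scheme f Z s hZs'
  have hmem : ∀ w : W, (f.fiberι s).base (j.base w) ∈ Z ∩ ⇑f ⁻¹' {s} := by
    intro w
    refine ⟨?_, fiberι_mem f s _⟩
    have : j.base w ∈ (f.fiberι s).base ⁻¹' Z := by rw [← hj4]; exact ⟨w, rfl⟩
    exact this
  let r : W → ↥(Z ∩ ⇑f ⁻¹' {s}) := fun w => ⟨_, hmem w⟩
  have hemb : IsEmbedding r := by
    have h1 : IsEmbedding (fun w : W => (f.fiberι s).base (j.base w)) :=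
      (f.fiberι s).isEmbedding.comp hj2
    exact h1.codRestrict _ hmem
  have hsurj : Function.Surjective r := by
    rintro ⟨x, hxZ, hxs⟩
    obtain ⟨z, rfl⟩ := Groth.Agent.S3425.exists_fiberι_eq f s x hxs
    have hz : z ∈ Set.range j.base := by rw [hj4]; exact hxZ
    obtain ⟨w, rfl⟩ := hz
    exact ⟨w, rfl⟩
  refine ⟨W, j ≫ fiberQ f s, hj3, hemb.toHomeomorphOfSurjective hsurj, ?_⟩
  intro w
  show trd f ((f.fiberι s).base (j.base w)) = _
  unfold trd
  rw [trdeg_fiber_eq f s (j.base w),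
    tdeg_eq_of_surjectiveOnStalks (fiberQ f s) (j ≫ fiberQ f s) j rfl w]


/-- **C1**: the dimensions of the irreducible components of the trace of `Z` on a fibre are the
values of the local dimension function. -/
theorem image_dim_eq_range_localDim {X S : Scheme.{u}} (f : X ⟶ S) [LocallyOfFiniteType f]
    (Z : Set X) (s : S)
    (hZs : IsLocallyClosed (Subtype.val ⁻¹' Z : Set ↥(⇑f ⁻¹' {s}))) :
    (fun T : Set ↥(Z ∩ ⇑f ⁻¹' {s}) => topologicalKrullDim ↥T) ''
        irreducibleComponents ↥(Z ∩ ⇑f ⁻¹' {s}) =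
      Set.range (FlatMor.localDim ↥(Z ∩ ⇑f ⁻¹' {s})) := by
  obtain ⟨W, q, hq, h, -⟩ := fibre_data f Z s hZs
  rw [← Groth.Agent.H38.GenericConstr.image_dim_irreducibleComponents_homeomorph h,
    image_dim_components_eq_range_localDim q]
  ext d
  constructor
  · rintro ⟨w, rfl⟩
    exact ⟨h w, (localDim_of_isOpenEmbedding h.isOpenEmbedding w).symm⟩
  · rintro ⟨t, rfl⟩
    obtain ⟨w, rfl⟩ := h.surjective t
    exact ⟨w, localDim_of_isOpenEmbedding h.isOpenEmbedding w⟩

/-- **C2**: the local dimension of the trace of `Z` on the fibre in terms of `G`. -/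
theorem natCast_le_localDim_trace_iff {X S : Scheme.{u}} (f : X ⟶ S) [LocallyOfFiniteType f]
    (Z : Set X) (s : S)
    (hZs : IsLocallyClosed (Subtype.val ⁻¹' Z : Set ↥(⇑f ⁻¹' {s})))
    (t : ↥(Z ∩ ⇑f ⁻¹' {s})) (n : ℕ) :
    (n : WithBot ℕ∞) ≤ FlatMor.localDim ↥(Z ∩ ⇑f ⁻¹' {s}) t ↔ t.1 ∈ G f n Z := by
  obtain ⟨W, q, hq, h, htr⟩ := fibre_data f Z s hZs
  obtain ⟨w, rfl⟩ := h.surjective t
  rw [← localDim_of_isOpenEmbedding h.isOpenEmbedding w, natCast_le_localDim_iff q w n]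
  constructor
  · rintro ⟨ζ, hζw, hn⟩
    refine ⟨(h ζ).1, (h ζ).2.1, ?_, ?_, ?_⟩
    · exact ((h ζ).2.2 : f.base (h ζ).1 = s).trans ((h w).2.2 : f.base (h w).1 = s).symm
    · exact (hζw.map h.continuous).map continuous_subtype_val
    · rw [htr ζ]
      exact_mod_cast hn
  · rintro ⟨ξ, hξZ, hfξ, hξx, hn⟩
    have hξs : f.base ξ = s := hfξ.trans ((h w).2.2 : f.base (h w).1 = s)
    obtain ⟨ζ, hζ⟩ := h.surjective ⟨ξ, hξZ, hξs⟩
    refine ⟨ζ, ?_, ?_⟩
    · rw [← h.isInducing.specializes_iff, hζ]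
      exact (subtype_specializes_iff _ _).mpr hξx
    · have := htr ζ
      rw [hζ] at this
      rw [this] at hn
      exact_mod_cast hn


/-- **C3**: local dimensions of the trace are natural numbers. -/
theorem exists_nat_localDim_trace {X S : Scheme.{u}} (f : X ⟶ S) [LocallyOfFiniteType f]
    (Z : Set X) (s : S)
    (hZs : IsLocallyClosed (Subtype.val ⁻¹' Z : Set ↥(⇑f ⁻¹' {s})))
    (t : ↥(Z ∩ ⇑f ⁻¹' {s})) :
    ∃ n : ℕ, FlatMor.localDim ↥(Z ∩ ⇑f ⁻¹' {s}) t = (n : WithBot ℕ∞) := by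
  obtain ⟨W, q, hq, h, -⟩ := fibre_data f Z s hZs
  obtain ⟨w, rfl⟩ := h.surjective t
  obtain ⟨ζ, -, he⟩ := exists_specializes_tdeg_eq q w
  exact ⟨tdeg q ζ, by rw [← localDim_of_isOpenEmbedding h.isOpenEmbedding w, he]⟩

/-- the set of dimensions of the irreducible components of `Z ∩ f⁻¹(s)` -/
def dims {X S : Scheme.{u}} (f : X ⟶ S) (Z : Set X) (s : S) : Set (WithBot ℕ∞) :=
  (fun T : Set ↥(Z ∩ ⇑f ⁻¹' {s}) => topologicalKrullDim ↥T) ''
    irreducibleComponents ↥(Z ∩ ⇑f ⁻¹' {s})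

theorem G_subset {X S : Scheme.{u}} (f : X ⟶ S) [LocallyOfFiniteType f] (n N : ℕ) (Z : Set X)
    (hN : ∀ x : X, FlatMor.fibreDimAt f x ≤ (N : WithBot ℕ∞)) (x : X) (hx : x ∈ G f n Z) :
    n ≤ N := by
  obtain ⟨ξ, -, -, -, hn⟩ := hx
  have h1 := le_fibreDimAt_of_le_trd f ξ n hn
  have h2 : (n : WithBot ℕ∞) ≤ (N : WithBot ℕ∞) := h1.trans (hN ξ)
  exact_mod_cast h2

theorem main_qcqs {X S : Scheme.{u}} (f : X ⟶ S)
    [LocallyOfFinitePresentation f] [QuasiCompact f] [QuasiSeparated f]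
    [CompactSpace X] [QuasiSeparatedSpace X]
    (Z : Set X) (hZ : IsLocallyConstructible Z)
    (hZs : ∀ s : S, IsLocallyClosed (Subtype.val ⁻¹' Z : Set ↥(⇑f ⁻¹' {s})))
    (Φ : Set (WithBot ℕ∞)) :
    IsLocallyConstructible {s : S | dims f Z s = Φ} := by
  obtain ⟨Y, g, hY, g1, g2, g3, g4, hr⟩ := Groth.Agent.H9.ConsModel.main X Z hZ.isConstructible
  haveI := g1
  haveI := g2
  haveI := g4
  have hG : ∀ n, IsLocallyConstructible (G f n Z) := by
    intro n
    rw [← hr, G_range_eq g f n]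
    exact isLocallyConstructible_FC f _
      (g.isLocallyConstructible_image (Groth.Agent.S1464.isLocallyConstructible_ge (g ≫ f) n))
  let W : ℕ → Set X := fun n => Z ∩ (G f n Z ∩ (G f (n + 1) Z)ᶜ)
  have hW : ∀ n, IsLocallyConstructible (f.base '' W n) := fun n =>
    f.isLocallyConstructible_image (hZ.inter ((hG n).inter
      (Groth.Agent.H24.isLocallyConstructible_compl (hG (n + 1)))))
  have key : ∀ (s : S) (n : ℕ), (n : WithBot ℕ∞) ∈ dims f Z s ↔ s ∈ f.base '' W n := by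
    intro s n
    unfold dims
    rw [image_dim_eq_range_localDim f Z s (hZs s)]
    constructor
    · rintro ⟨t, ht⟩
      have h1 := (Groth.Agent.S1464.dim_eq_iff _ n).mp ht
      rw [natCast_le_localDim_trace_iff f Z s (hZs s) t n,
        natCast_le_localDim_trace_iff f Z s (hZs s) t (n + 1)] at h1
      exact ⟨t.1, ⟨t.2.1, h1.1, h1.2⟩, t.2.2⟩
    · rintro ⟨x, ⟨hxZ, hx1, hx2⟩, hxs⟩
      refine ⟨⟨x, hxZ, hxs⟩, ?_⟩
      rw [Groth.Agent.S1464.dim_eq_iff _ n,
        natCast_le_localDim_trace_iff f Z s (hZs s) _ n,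
        natCast_le_localDim_trace_iff f Z s (hZs s) _ (n + 1)]
      exact ⟨hx1, hx2⟩
  obtain ⟨N, hN⟩ := Groth.Agent.H38.FibreDimCons.exists_forall_fibreDimAt_le f
  have hdims : ∀ (s : S) (d : WithBot ℕ∞), d ∈ dims f Z s →
      ∃ n : ℕ, n ≤ N ∧ d = (n : WithBot ℕ∞) := by
    intro s d hd
    have hd' := hd
    unfold dims at hd'
    rw [image_dim_eq_range_localDim f Z s (hZs s)] at hd'
    obtain ⟨t, rfl⟩ := hd'
    obtain ⟨n, hn⟩ := exists_nat_localDim_trace f Z s (hZs s) t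
    refine ⟨n, ?_, hn⟩
    rw [hn] at hd
    obtain ⟨x, ⟨-, hx1, -⟩, -⟩ := (key s n).mp hd
    exact G_subset f n N Z hN x hx1
  by_cases hΦ : ∀ d ∈ Φ, ∃ n : ℕ, n ≤ N ∧ d = (n : WithBot ℕ∞)
  · have e : {s : S | dims f Z s = Φ} =
        ⋂ n : Fin (N + 1), {s : S | s ∈ f.base '' W n ↔ ((n : ℕ) : WithBot ℕ∞) ∈ Φ} := by
      ext s
      simp only [Set.mem_ofPred_eq, Set.mem_iInter]
      constructor
      · intro h n
        rw [← key s n, h]
      · intro h
        ext d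
        constructor
        · intro hd
          obtain ⟨n, hn, rfl⟩ := hdims s d hd
          exact (h ⟨n, by omega⟩).mp ((key s n).mp hd)
        · intro hd
          obtain ⟨n, hn, rfl⟩ := hΦ d hd
          exact (key s n).mpr ((h ⟨n, by omega⟩).mpr hd)
    rw [e]
    refine IsLocallyConstructible.iInter fun n => ?_
    by_cases hn : ((n : ℕ) : WithBot ℕ∞) ∈ Φ
    · convert hW n using 1
      ext s
      simp only [Set.mem_ofPred_eq, hn, iff_true]
    · convert Groth.Agent.H24.isLocallyConstructible_compl (hW n) using 1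
      ext s
      simp only [Set.mem_ofPred_eq, hn, iff_false, Set.mem_compl_iff]
  · convert IsLocallyConstructible.empty (X := S) using 1
    ext s
    simp only [Set.mem_ofPred_eq, Set.mem_empty_iff_false, iff_false]
    intro h
    apply hΦ
    intro d hd
    rw [← h] at hd
    exact hdims s d hd


/-- the dimension sets do not change when restricting to an open of the base -/
theorem dims_restrict {X S : Scheme.{u}} (f : X ⟶ S) (Z : Set X) (V : S.Opens) (v : ↥V) :
    dims (f ∣_ V) ((f ⁻¹ᵁ V).ι.base ⁻¹' Z) v = dims f Z v.1 := by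
  have hmem : ∀ a : ↥(((f ⁻¹ᵁ V).ι.base ⁻¹' Z) ∩ ⇑(f ∣_ V) ⁻¹' {v}),
      (f ⁻¹ᵁ V).ι.base a.1 ∈ Z ∩ ⇑f ⁻¹' {v.1} := by
    intro a
    refine ⟨a.2.1, ?_⟩
    have h1 : (f ∣_ V).base a.1 = v := a.2.2
    have h2 := morphismRestrict_base_coe f V a.1
    show f.base ((f ⁻¹ᵁ V).ι.base a.1) = v.1
    exact h2.symm.trans (congrArg Subtype.val h1)
  let r : ↥(((f ⁻¹ᵁ V).ι.base ⁻¹' Z) ∩ ⇑(f ∣_ V) ⁻¹' {v}) → ↥(Z ∩ ⇑f ⁻¹' {v.1}) :=
    fun a => ⟨_, hmem a⟩
  have hemb : IsEmbedding r := by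
    have h1 : IsEmbedding (fun a : ↥(((f ⁻¹ᵁ V).ι.base ⁻¹' Z) ∩ ⇑(f ∣_ V) ⁻¹' {v}) =>
        (f ⁻¹ᵁ V).ι.base a.1) :=
      (f ⁻¹ᵁ V).ι.isOpenEmbedding.isEmbedding.comp IsEmbedding.subtypeVal
    exact h1.codRestrict _ hmem
  have hsurj : Function.Surjective r := by
    rintro ⟨x, hxZ, hxs⟩
    have hxs' : f.base x = v.1 := hxs
    have hxV : x ∈ f ⁻¹ᵁ V := by
      show f.base x ∈ V
      rw [hxs']
      exact v.2
    refine ⟨⟨⟨x, hxV⟩, hxZ, ?_⟩, rfl⟩
    show (f ∣_ V).base ⟨x, hxV⟩ = v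
    apply Subtype.ext
    rw [morphismRestrict_base_coe]
    exact hxs'
  unfold dims
  exact Groth.Agent.H38.GenericConstr.image_dim_irreducibleComponents_homeomorph
    (hemb.toHomeomorphOfSurjective hsurj)

theorem result' {X S : Scheme.{u}} (f : X ⟶ S)
    [LocallyOfFinitePresentation f] [QuasiCompact f] [QuasiSeparated f]
    (Z : Set X) (hZ : Topology.IsLocallyConstructible Z)
    (hZs : ∀ s : S, IsLocallyClosed (Subtype.val ⁻¹' Z : Set ↥(⇑f ⁻¹' {s})))
    (Φ : Set (WithBot ℕ∞)) :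
    Topology.IsLocallyConstructible {s : S | dims f Z s = Φ} := by
  refine IsLocallyConstructible.of_isOpenCover (U := fun V : S.affineOpens => V.1)
    (TopologicalSpace.IsOpenCover.mk (iSup_affineOpens_eq_top S)) fun V => ?_
  haveI : IsAffine (V.1 : Scheme.{u}) := V.2
  haveI : CompactSpace ↥(f ⁻¹ᵁ V.1).toScheme :=
    QuasiCompact.compactSpace_of_compactSpace (f ∣_ V.1)
  haveI : QuasiSeparatedSpace ↥(f ⁻¹ᵁ V.1).toScheme :=
    quasiSeparatedSpace_of_quasiSeparated (f ∣_ V.1)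
  have hZV : IsLocallyConstructible ((f ⁻¹ᵁ V.1).ι.base ⁻¹' Z) :=
    hZ.preimage_of_isOpenEmbedding (f ⁻¹ᵁ V.1).ι.isOpenEmbedding
  have hZVs : ∀ v : ↥V.1, IsLocallyClosed
      (Subtype.val ⁻¹' ((f ⁻¹ᵁ V.1).ι.base ⁻¹' Z) : Set ↥(⇑(f ∣_ V.1) ⁻¹' {v})) := by
    intro v
    have hmem : ∀ a : ↥(⇑(f ∣_ V.1) ⁻¹' {v}), (f ⁻¹ᵁ V.1).ι.base a.1 ∈ ⇑f ⁻¹' {v.1} := by
      intro a
      have h1 : (f ∣_ V.1).base a.1 = v := a.2
      have h2 := morphismRestrict_base_coe f V.1 a.1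
      show f.base ((f ⁻¹ᵁ V.1).ι.base a.1) = v.1
      exact h2.symm.trans (congrArg Subtype.val h1)
    let ψ : ↥(⇑(f ∣_ V.1) ⁻¹' {v}) → ↥(⇑f ⁻¹' {v.1}) := fun a => ⟨_, hmem a⟩
    have hψ : Continuous ψ :=
      ((f ⁻¹ᵁ V.1).ι.continuous.comp continuous_subtype_val).subtype_mk hmem
    exact (hZs v.1).preimage hψ
  have main := main_qcqs (f ∣_ V.1) ((f ⁻¹ᵁ V.1).ι.base ⁻¹' Z) hZV hZVs Φ
  have e : (Subtype.val ⁻¹' {s : S | dims f Z s = Φ} : Set ↥V.1) =
      {v : ↥V.1 | dims (f ∣_ V.1) ((f ⁻¹ᵁ V.1).ι.base ⁻¹' Z) v = Φ} := by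
    ext v
    show dims f Z v.1 = Φ ↔ dims (f ∣_ V.1) ((f ⁻¹ᵁ V.1).ι.base ⁻¹' Z) v = Φ
    rw [dims_restrict]
  have key : ∀ (A B : Set ↥V.1), A = B → IsLocallyConstructible B → IsLocallyConstructible A :=
    fun A B h hB => h ▸ hB
  exact key _ _ e main


end Groth.Agent.H9.CompDims
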