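import Mathlib
import Groth.Agent.S9189

set_option autoImplicit false
set_option linter.style.haveILetI false
universe u
open CategoryTheory CategoryTheory.Limits AlgebraicGeometry

namespace Groth.Agent.H9.DescCI

/-- Descending closed immersions along a cofiltered limit of affine schemes (Stacks 01ZP-type).
Corollary of `Groth.Agent.S9189.result`. -/
theorem exists_isClosedImmersion_pullback_fst {I : Type u} [SmallCategory I] [IsCofiltered I]
    (D : I ⥤ Scheme.{u}) [∀ i, IsAffine (D.obj i)] (c : Cone D) (hc : IsLimit c) (i₀ : I)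
    {P : Scheme.{u}} [CompactSpace P] [QuasiSeparatedSpace P] (g : P ⟶ D.obj i₀)
    [LocallyOfFiniteType g] (h : IsClosedImmersion (pullback.fst (c.π.app i₀) g)) :
    ∃ (i : I) (φ : i ⟶ i₀), IsClosedImmersion (pullback.fst (D.map φ) g) := by
  haveI : ∀ (i j : I) (f : i ⟶ j), IsAffineHom (D.map f) := fun i j f => inferInstance
  haveI := h
  have hY : IsPullback (c.π.app i₀) (𝟙 c.pt) (𝟙 (D.obj i₀)) (c.π.app i₀) :=
    IsPullback.id_vert _
  have hX : IsPullback (pullback.snd (c.π.app i₀) g) (pullback.fst (c.π.app i₀) g) g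
      (c.π.app i₀) := (IsPullback.of_hasPullback (c.π.app i₀) g).flip
  obtain ⟨i, φ, Xi, Yi, fi, gi, pY, pX, h1, h2, h3⟩ :=
    Groth.Agent.S9189.result D c hc i₀ g (𝟙 (D.obj i₀)) (pullback.fst (c.π.app i₀) g) (𝟙 c.pt)
      (c.π.app i₀) (pullback.snd (c.π.app i₀) g) hY hX
  refine ⟨i, φ, ?_⟩
  haveI : IsIso gi := h1.isIso_snd_of_isIso
  have h4 : IsPullback pX (fi ≫ gi) (g ≫ 𝟙 _) (D.map φ) := h2.paste_vert h1
  rw [Category.comp_id] at h4
  have h5 : IsPullback (pullback.snd (D.map φ) g) (pullback.fst (D.map φ) g) g (D.map φ) :=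
    (IsPullback.of_hasPullback (D.map φ) g).flip
  let e := h5.isoIsPullback _ _ h4
  have he : pullback.fst (D.map φ) g = e.hom ≫ fi ≫ gi := by
    simp [e]
  rw [he]
  infer_instance

end Groth.Agent.H9.DescCI
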