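import Mathlib
import Groth.Agent.S9186
import Groth.Agent.S9187
import Groth.Agent.S9188
import Groth.Agent.S9189
import Groth.Agent.S9190
import Groth.Agent.S9191
import Groth.Agent.S9192
import Groth.Agent.S9193
import Groth.Agent.S9194
import Groth.Agent.S2075
import Groth.Agent.H24.LimIso
import Groth.Agent.H24.LimDescend2

/-!
# Descending properties of `pullback.fst (c.π.app i₀) g` to a stage (helper9)

For a cofiltered limit `c` of affine schemes `D` and `g : P ⟶ D.obj i₀` with `P` qcqs: if the base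
change `pullback.fst (c.π.app i₀) g` has property `Q` then so does `pullback.fst (D.map φ) g` for
some `φ : i ⟶ i₀`.  All are corollaries of helper24's `S918x` rows.
-/

set_option autoImplicit false
set_option linter.style.haveILetI false
set_option linter.unusedSectionVars false
universe u
open CategoryTheory CategoryTheory.Limits AlgebraicGeometry

namespace Groth.Agent.H9.DescP

/-- Generic repackaging: from the `S918x`-shape conclusion (with `Y₀ = D.obj i₀`, `g₀ = 𝟙`) to the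
`pullback.fst (D.map φ) g` form. -/
theorem exists_pullback_fst_of_descend (Q : MorphismProperty Scheme.{u}) [Q.RespectsIso]
    {I : Type u} [SmallCategory I] (D : I ⥤ Scheme.{u}) (i₀ : I)
    {P : Scheme.{u}} (g : P ⟶ D.obj i₀)
    (hdesc : ∃ (i : I) (φ : i ⟶ i₀) (Xi Yi : Scheme.{u}) (fi : Xi ⟶ Yi) (gi : Yi ⟶ D.obj i)
      (pY : Yi ⟶ D.obj i₀) (pX : Xi ⟶ P), IsPullback pY gi (𝟙 (D.obj i₀)) (D.map φ) ∧
        IsPullback pX fi g pY ∧ Q fi) :
    ∃ (i : I) (φ : i ⟶ i₀), Q (pullback.fst (D.map φ) g) := by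
  obtain ⟨i, φ, Xi, Yi, fi, gi, pY, pX, h1, h2, h3⟩ := hdesc
  refine ⟨i, φ, ?_⟩
  haveI : IsIso gi := h1.isIso_snd_of_isIso
  have h4 : IsPullback pX (fi ≫ gi) (g ≫ 𝟙 _) (D.map φ) := h2.paste_vert h1
  rw [Category.comp_id] at h4
  have h5 : IsPullback (pullback.snd (D.map φ) g) (pullback.fst (D.map φ) g) g (D.map φ) :=
    (IsPullback.of_hasPullback (D.map φ) g).flip
  let e := h5.isoIsPullback _ _ h4
  have he : pullback.fst (D.map φ) g = e.hom ≫ fi ≫ gi := by
    simp [e]
  rw [he]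
  exact (MorphismProperty.cancel_left_of_respectsIso Q e.hom (fi ≫ gi)).mpr
    ((MorphismProperty.cancel_right_of_respectsIso Q fi gi).mpr h3)

variable {I : Type u} [SmallCategory I] [IsCofiltered I]
    (D : I ⥤ Scheme.{u}) [∀ i, IsAffine (D.obj i)] (c : Cone D) (hc : IsLimit c) (i₀ : I)
    {P : Scheme.{u}} [CompactSpace P] [QuasiSeparatedSpace P] (g : P ⟶ D.obj i₀)

include hc

theorem exists_isAffineHom_pullback_fst (h : IsAffineHom (pullback.fst (c.π.app i₀) g)) :
    ∃ (i : I) (φ : i ⟶ i₀), IsAffineHom (pullback.fst (D.map φ) g) := by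
  haveI : ∀ (i j : I) (f : i ⟶ j), IsAffineHom (D.map f) := fun i j f => inferInstance
  haveI := h
  exact exists_pullback_fst_of_descend @IsAffineHom D i₀ g
    (Groth.Agent.S9186.result D c hc i₀ g (𝟙 (D.obj i₀)) (pullback.fst (c.π.app i₀) g) (𝟙 c.pt)
      (c.π.app i₀) (pullback.snd (c.π.app i₀) g) (IsPullback.id_vert _)
      (IsPullback.of_hasPullback (c.π.app i₀) g).flip)

theorem exists_isFinite_pullback_fst [LocallyOfFiniteType g]
    (h : IsFinite (pullback.fst (c.π.app i₀) g)) :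
    ∃ (i : I) (φ : i ⟶ i₀), IsFinite (pullback.fst (D.map φ) g) := by
  haveI : ∀ (i j : I) (f : i ⟶ j), IsAffineHom (D.map f) := fun i j f => inferInstance
  haveI := h
  exact exists_pullback_fst_of_descend @IsFinite D i₀ g
    (Groth.Agent.S9187.result D c hc i₀ g (𝟙 (D.obj i₀)) (pullback.fst (c.π.app i₀) g) (𝟙 c.pt)
      (c.π.app i₀) (pullback.snd (c.π.app i₀) g) (IsPullback.id_vert _)
      (IsPullback.of_hasPullback (c.π.app i₀) g).flip)

theorem exists_formallyUnramified_pullback_fst [LocallyOfFiniteType g]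
    (h : FormallyUnramified (pullback.fst (c.π.app i₀) g)) :
    ∃ (i : I) (φ : i ⟶ i₀), FormallyUnramified (pullback.fst (D.map φ) g) := by
  haveI : ∀ (i j : I) (f : i ⟶ j), IsAffineHom (D.map f) := fun i j f => inferInstance
  haveI := h
  exact exists_pullback_fst_of_descend @FormallyUnramified D i₀ g
    (Groth.Agent.S9188.result D c hc i₀ g (𝟙 (D.obj i₀)) (pullback.fst (c.π.app i₀) g) (𝟙 c.pt)
      (c.π.app i₀) (pullback.snd (c.π.app i₀) g) (IsPullback.id_vert _)
      (IsPullback.of_hasPullback (c.π.app i₀) g).flip)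

theorem exists_isClosedImmersion_pullback_fst [LocallyOfFiniteType g]
    (h : IsClosedImmersion (pullback.fst (c.π.app i₀) g)) :
    ∃ (i : I) (φ : i ⟶ i₀), IsClosedImmersion (pullback.fst (D.map φ) g) := by
  haveI : ∀ (i j : I) (f : i ⟶ j), IsAffineHom (D.map f) := fun i j f => inferInstance
  haveI := h
  exact exists_pullback_fst_of_descend @IsClosedImmersion D i₀ g
    (Groth.Agent.S9189.result D c hc i₀ g (𝟙 (D.obj i₀)) (pullback.fst (c.π.app i₀) g) (𝟙 c.pt)
      (c.π.app i₀) (pullback.snd (c.π.app i₀) g) (IsPullback.id_vert _)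
      (IsPullback.of_hasPullback (c.π.app i₀) g).flip)

theorem exists_isSeparated_pullback_fst (h : IsSeparated (pullback.fst (c.π.app i₀) g)) :
    ∃ (i : I) (φ : i ⟶ i₀), IsSeparated (pullback.fst (D.map φ) g) := by
  haveI : ∀ (i j : I) (f : i ⟶ j), IsAffineHom (D.map f) := fun i j f => inferInstance
  haveI := h
  exact exists_pullback_fst_of_descend @IsSeparated D i₀ g
    (Groth.Agent.S9190.result D c hc i₀ g (𝟙 (D.obj i₀)) (pullback.fst (c.π.app i₀) g) (𝟙 c.pt)
      (c.π.app i₀) (pullback.snd (c.π.app i₀) g) (IsPullback.id_vert _)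
      (IsPullback.of_hasPullback (c.π.app i₀) g).flip)

theorem exists_smooth_pullback_fst [LocallyOfFinitePresentation g]
    (h : Smooth (pullback.fst (c.π.app i₀) g)) :
    ∃ (i : I) (φ : i ⟶ i₀), Smooth (pullback.fst (D.map φ) g) := by
  haveI : ∀ (i j : I) (f : i ⟶ j), IsAffineHom (D.map f) := fun i j f => inferInstance
  haveI := h
  exact exists_pullback_fst_of_descend @Smooth D i₀ g
    (Groth.Agent.S9191.result D c hc i₀ g (𝟙 (D.obj i₀)) (pullback.fst (c.π.app i₀) g) (𝟙 c.pt)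
      (c.π.app i₀) (pullback.snd (c.π.app i₀) g) (IsPullback.id_vert _)
      (IsPullback.of_hasPullback (c.π.app i₀) g).flip)

theorem exists_etale_pullback_fst [LocallyOfFinitePresentation g]
    (h : Etale (pullback.fst (c.π.app i₀) g)) :
    ∃ (i : I) (φ : i ⟶ i₀), Etale (pullback.fst (D.map φ) g) := by
  haveI : ∀ (i j : I) (f : i ⟶ j), IsAffineHom (D.map f) := fun i j f => inferInstance
  haveI := h
  exact exists_pullback_fst_of_descend @Etale D i₀ g
    (Groth.Agent.S9192.result D c hc i₀ g (𝟙 (D.obj i₀)) (pullback.fst (c.π.app i₀) g) (𝟙 c.pt)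
      (c.π.app i₀) (pullback.snd (c.π.app i₀) g) (IsPullback.id_vert _)
      (IsPullback.of_hasPullback (c.π.app i₀) g).flip)

theorem exists_isImmersion_pullback_fst [LocallyOfFiniteType g]
    (h : IsImmersion (pullback.fst (c.π.app i₀) g)) :
    ∃ (i : I) (φ : i ⟶ i₀), IsImmersion (pullback.fst (D.map φ) g) := by
  haveI : ∀ (i j : I) (f : i ⟶ j), IsAffineHom (D.map f) := fun i j f => inferInstance
  haveI := h
  exact exists_pullback_fst_of_descend @IsImmersion D i₀ g
    (Groth.Agent.S9193.result D c hc i₀ g (𝟙 (D.obj i₀)) (pullback.fst (c.π.app i₀) g) (𝟙 c.pt)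
      (c.π.app i₀) (pullback.snd (c.π.app i₀) g) (IsPullback.id_vert _)
      (IsPullback.of_hasPullback (c.π.app i₀) g).flip)

theorem exists_locallyQuasiFinite_pullback_fst [LocallyOfFiniteType g]
    (h : LocallyQuasiFinite (pullback.fst (c.π.app i₀) g)) :
    ∃ (i : I) (φ : i ⟶ i₀), LocallyQuasiFinite (pullback.fst (D.map φ) g) := by
  haveI : ∀ (i j : I) (f : i ⟶ j), IsAffineHom (D.map f) := fun i j f => inferInstance
  haveI := h
  exact exists_pullback_fst_of_descend @LocallyQuasiFinite D i₀ g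
    (Groth.Agent.S9194.result D c hc i₀ g (𝟙 (D.obj i₀)) (pullback.fst (c.π.app i₀) g) (𝟙 c.pt)
      (c.π.app i₀) (pullback.snd (c.π.app i₀) g) (IsPullback.id_vert _)
      (IsPullback.of_hasPullback (c.π.app i₀) g).flip)

theorem exists_flat_pullback_fst [LocallyOfFinitePresentation g]
    (h : Flat (pullback.fst (c.π.app i₀) g)) :
    ∃ (i : I) (φ : i ⟶ i₀), Flat (pullback.fst (D.map φ) g) := by
  haveI : ∀ (i j : I) (f : i ⟶ j), IsAffineHom (D.map f) := fun i j f => inferInstance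
  haveI := h
  exact exists_pullback_fst_of_descend @Flat D i₀ g
    (Groth.Agent.S2075.result D c hc i₀ g (𝟙 (D.obj i₀)) (pullback.fst (c.π.app i₀) g) (𝟙 c.pt)
      (c.π.app i₀) (pullback.snd (c.π.app i₀) g) (IsPullback.id_vert _)
      (IsPullback.of_hasPullback (c.π.app i₀) g).flip)

theorem exists_isIso_pullback_fst [LocallyOfFinitePresentation g]
    (h : IsIso (pullback.fst (c.π.app i₀) g)) :
    ∃ (i : I) (φ : i ⟶ i₀), IsIso (pullback.fst (D.map φ) g) := by
  haveI : ∀ {i j : I} (f : i ⟶ j), IsAffineHom (D.map f) := fun f => inferInstance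
  haveI := h
  haveI : CompactSpace (D.obj i₀) := inferInstance
  haveI : QuasiCompact g := (quasiCompact_iff_compactSpace (f := g)).mpr inferInstance
  obtain ⟨j, hj⟩ := Groth.Agent.H24.exists_isIso_pbRel D c hc i₀ g (𝟙 (D.obj i₀))
    (pullback.fst (c.π.app i₀) g) (𝟙 c.pt) (c.π.app i₀) (pullback.snd (c.π.app i₀) g)
    (IsPullback.id_vert _) (IsPullback.of_hasPullback (c.π.app i₀) g).flip
  exact exists_pullback_fst_of_descend (MorphismProperty.isomorphisms Scheme.{u}) D i₀ g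
    ⟨j.left, j.hom ≫ 𝟙 i₀, _, _, Groth.Agent.H24.pbRel D (𝟙 i₀) g (𝟙 (D.obj i₀)) j,
      pullback.snd (𝟙 (D.obj i₀)) _, pullback.fst (𝟙 (D.obj i₀)) _, pullback.fst (g ≫ 𝟙 _) _,
      IsPullback.of_hasPullback _ _, Groth.Agent.H24.isPullback_pbRel D (𝟙 i₀) g (𝟙 _) j, hj⟩

theorem exists_isOpenImmersion_pullback_fst [LocallyOfFinitePresentation g]
    (h : IsOpenImmersion (pullback.fst (c.π.app i₀) g)) :
    ∃ (i : I) (φ : i ⟶ i₀), IsOpenImmersion (pullback.fst (D.map φ) g) := by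
  haveI : ∀ {i j : I} (f : i ⟶ j), IsAffineHom (D.map f) := fun f => inferInstance
  haveI := h
  haveI : CompactSpace (D.obj i₀) := inferInstance
  haveI : QuasiCompact g := (quasiCompact_iff_compactSpace (f := g)).mpr inferInstance
  obtain ⟨j, hj⟩ := Groth.Agent.H24.exists_isOpenImmersion_pbRel D c hc i₀ g (𝟙 (D.obj i₀))
    (pullback.fst (c.π.app i₀) g) (𝟙 c.pt) (c.π.app i₀) (pullback.snd (c.π.app i₀) g)
    (IsPullback.id_vert _) (IsPullback.of_hasPullback (c.π.app i₀) g).flip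
  exact exists_pullback_fst_of_descend @IsOpenImmersion D i₀ g
    ⟨j.left, j.hom ≫ 𝟙 i₀, _, _, Groth.Agent.H24.pbRel D (𝟙 i₀) g (𝟙 (D.obj i₀)) j,
      pullback.snd (𝟙 (D.obj i₀)) _, pullback.fst (𝟙 (D.obj i₀)) _, pullback.fst (g ≫ 𝟙 _) _,
      IsPullback.of_hasPullback _ _, Groth.Agent.H24.isPullback_pbRel D (𝟙 i₀) g (𝟙 _) j, hj⟩

theorem exists_mono_pullback_fst [LocallyOfFiniteType g]
    (h : Mono (pullback.fst (c.π.app i₀) g)) :
    ∃ (i : I) (φ : i ⟶ i₀), Mono (pullback.fst (D.map φ) g) := by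
  haveI : ∀ {i j : I} (f : i ⟶ j), IsAffineHom (D.map f) := fun f => inferInstance
  haveI := h
  haveI : CompactSpace (D.obj i₀) := inferInstance
  haveI : QuasiCompact g := (quasiCompact_iff_compactSpace (f := g)).mpr inferInstance
  obtain ⟨k, hk⟩ := Groth.Agent.H24.exists_diagEq D c hc i₀ g (𝟙 (D.obj i₀))
    (pullback.fst (c.π.app i₀) g) (𝟙 c.pt) (c.π.app i₀) (pullback.snd (c.π.app i₀) g)
    (IsPullback.id_vert _) (IsPullback.of_hasPullback (c.π.app i₀) g).flip
  have hj := Groth.Agent.H24.mono_pbRel_of_diagEq D i₀ g (𝟙 (D.obj i₀)) k hk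
  exact exists_pullback_fst_of_descend (MorphismProperty.monomorphisms Scheme.{u}) D i₀ g
    ⟨k.left, k.hom ≫ 𝟙 i₀, _, _, Groth.Agent.H24.pbRel D (𝟙 i₀) g (𝟙 (D.obj i₀)) k,
      pullback.snd (𝟙 (D.obj i₀)) _, pullback.fst (𝟙 (D.obj i₀)) _, pullback.fst (g ≫ 𝟙 _) _,
      IsPullback.of_hasPullback _ _, Groth.Agent.H24.isPullback_pbRel D (𝟙 i₀) g (𝟙 _) k, hj⟩

end Groth.Agent.H9.DescP
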