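import Mathlib
import Groth.Prelude.Def_MoreMor
set_option autoImplicit false
set_option linter.style.haveILetI false
universe u
open AlgebraicGeometry CategoryTheory Limits
namespace Groth.Agent.H9.EtaleStalk

theorem etale_stalk_facts {U X : Scheme.{u}} (a : U ⟶ X) [Etale a] (u : U) :
    Ideal.map (a.stalkMap u).hom (IsLocalRing.maximalIdeal ↑(X.presheaf.stalk (a u))) =
      IsLocalRing.maximalIdeal ↑(U.presheaf.stalk u) ∧
    (letI := (a.residueFieldMap u).hom.toAlgebra;
      Module.Finite (X.residueField (a u)) (U.residueField u)) ∧
    (letI := (a.residueFieldMap u).hom.toAlgebra;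
      Field.finInsepDegree (X.residueField (a u)) (U.residueField u) = 1) := by
  refine ⟨?_, ?_, ?_⟩
  · algebraize [(a.stalkMap u).hom]
    haveI : IsLocalHom (algebraMap (X.presheaf.stalk (a u)) (U.presheaf.stalk u)) :=
      inferInstanceAs <| IsLocalHom (a.stalkMap u).hom
    haveI : Algebra.EssFiniteType (X.presheaf.stalk (a u)) (U.presheaf.stalk u) := by
      rw [← RingHom.essFiniteType_algebraMap, RingHom.algebraMap_toAlgebra]
      exact LocallyOfFiniteType.stalkMap a u
    haveI : Algebra.FormallyUnramified (X.presheaf.stalk (a u)) (U.presheaf.stalk u) := by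
      rw [← RingHom.formallyUnramified_algebraMap, RingHom.algebraMap_toAlgebra]
      exact FormallyUnramified.stalkMap a u
    exact Algebra.FormallyUnramified.map_maximalIdeal
  · algebraize [(a.stalkMap u).hom]
    haveI : IsLocalHom (algebraMap (X.presheaf.stalk (a u)) (U.presheaf.stalk u)) :=
      inferInstanceAs <| IsLocalHom (a.stalkMap u).hom
    haveI : Algebra.EssFiniteType (X.presheaf.stalk (a u)) (U.presheaf.stalk u) := by
      rw [← RingHom.essFiniteType_algebraMap, RingHom.algebraMap_toAlgebra]
      exact LocallyOfFiniteType.stalkMap a u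
    haveI : Algebra.FormallyUnramified (X.presheaf.stalk (a u)) (U.presheaf.stalk u) := by
      rw [← RingHom.formallyUnramified_algebraMap, RingHom.algebraMap_toAlgebra]
      exact FormallyUnramified.stalkMap a u
    have h : Module.Finite (IsLocalRing.ResidueField <| X.presheaf.stalk (a u))
        (IsLocalRing.ResidueField <| U.presheaf.stalk u) := inferInstance
    have key : (a.residueFieldMap u).hom.toAlgebra =
        (inferInstance : Algebra (IsLocalRing.ResidueField ↑(X.presheaf.stalk (a u)))
          (IsLocalRing.ResidueField ↑(U.presheaf.stalk u))) := by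
      refine Algebra.algebra_ext _ _ fun x ↦ ?_
      obtain ⟨x, rfl⟩ := IsLocalRing.residue_surjective (R := X.presheaf.stalk (a u)) x
      rfl
    change @Module.Finite (X.residueField (a u)) (U.residueField u) _ _
      ((a.residueFieldMap u).hom.toAlgebra).toModule
    rw [key]
    exact h
  · letI := (a.residueFieldMap u).hom.toAlgebra
    haveI : Algebra.IsSeparable (X.residueField (a u)) (U.residueField u) := inferInstance
    exact Algebra.IsSeparable.finInsepDegree_eq _ _

end Groth.Agent.H9.EtaleStalk
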