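import Groth.Prelude.Def_CInt
import Groth.Agent.H9.FiberStalk
import Groth.Agent.S14104

/-!
# Local rings of fibres through a point (`CInt.fiberStalk`)

* `exists_fiberStalk_equiv f x : O_{X,x} ⧸ m_{f x} O_{X,x} ≃+* CInt.fiberStalk f x`
* `ringKrullDim_fiberStalk_le`: `dim O_{X_s,x} ≤ dim O_{X,x}`
* `depth_fiberStalk_le`: for flat `f` between locally Noetherian schemes,
  `depth O_{X_s,x} ≤ depth O_{X,x}`.
-/

set_option autoImplicit false
universe u

open CategoryTheory CategoryTheory.Limits AlgebraicGeometry TopologicalSpace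

namespace Groth.Agent.H9.FiberCodim

theorem exists_fiberStalk_equiv {X S : Scheme.{u}} (f : X ⟶ S) (x : X) :
    Nonempty ((X.presheaf.stalk x ⧸ Ideal.map (f.stalkMap x).hom
      (IsLocalRing.maximalIdeal (S.presheaf.stalk (f.base x)))) ≃+* CInt.fiberStalk f x) := by
  have key : ∀ (x' : X), (f.fiberι (f.base x)).base (f.asFiber x) = x' →
      Nonempty ((X.presheaf.stalk x' ⧸ Ideal.map (f.stalkMap x').hom
        (IsLocalRing.maximalIdeal (S.presheaf.stalk (f.base x')))) ≃+*
        (f.fiber (f.base x)).presheaf.stalk (f.asFiber x)) := by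
    rintro _ rfl
    exact ⟨Groth.Agent.H9.fiberStalkEquiv f (f.base x) (f.asFiber x)⟩
  exact key x (f.fiberι_asFiber x)

theorem ringKrullDim_fiberStalk_le {X S : Scheme.{u}} (f : X ⟶ S) (x : X) :
    ringKrullDim (CInt.fiberStalk f x) ≤ ringKrullDim (X.presheaf.stalk x) := by
  obtain ⟨e⟩ := exists_fiberStalk_equiv f x
  rw [← ringKrullDim_eq_of_ringEquiv e]
  exact ringKrullDim_quotient_le _

theorem depth_fiberStalk_le {X S : Scheme.{u}} [IsLocallyNoetherian X] [IsLocallyNoetherian S]
    (f : X ⟶ S) [Flat f] (x : X) :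
    LocCoh.depth (CInt.fiberStalk f x) (CInt.fiberStalk f x) ≤
      LocCoh.depth (X.presheaf.stalk x) (X.presheaf.stalk x) := by
  obtain ⟨e⟩ := exists_fiberStalk_equiv f x
  rw [← ENat.forall_natCast_le_iff_le]
  intro d hd
  exact Groth.Agent.S14104.local_key (f.stalkMap x).hom (AlgebraicGeometry.Flat.stalkMap f x) e d hd

end Groth.Agent.H9.FiberCodim
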