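import Mathlib.RingTheory.Flat.Equalizer
import Mathlib.RingTheory.Flat.Tensor
import Mathlib.RingTheory.Flat.Stability
import Mathlib.RingTheory.Flat.Localization
import Mathlib.RingTheory.Localization.BaseChange
import Mathlib.RingTheory.Localization.AtPrime.Basic
import Mathlib.RingTheory.RingHom.Flat

/-!
# Flatness from a nonzerodivisor with flat quotient and flatness away from it

If `t` is a nonzerodivisor of an `A`-algebra `B`, `B/tB` is flat over `A`, and `B_𝔮` is flat over `A`
for every prime `𝔮` of `B` not containing `t`, then `B` is flat over `A`. No finiteness hypotheses.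
-/

set_option autoImplicit false
universe v

open TensorProduct

namespace Groth.Agent.H9

theorem flat_of_nzd_of_flat_quot {A : Type*} {B : Type v} [CommRing A] [CommRing B] [Algebra A B]
    (t : B) (ht : t ∈ nonZeroDivisors B) [Module.Flat A (B ⧸ Ideal.span {t})]
    (hloc : ∀ (𝔮 : Ideal B) [𝔮.IsPrime], t ∉ 𝔮 →
      ∃ (L : Type v) (_ : CommRing L) (_ : Algebra B L) (_ : Algebra A L)
        (_ : IsScalarTower A B L) (_ : IsLocalization.AtPrime L 𝔮), Module.Flat A L) :
    Module.Flat A B := by
  rw [Module.Flat.iff_lTensor_injective]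
  intro I _
  rw [injective_iff_map_eq_zero]
  intro z hz
  -- multiplication by `t` is injective on `B ⊗ I`
  have hmul : ∀ w : B ⊗[A] I, t • w = 0 → w = 0 := by
    have hinj : Function.Injective ((LinearMap.mulLeft A t).rTensor I) := by
      rw [← LinearMap.lTensor_inj_iff_rTensor_inj]
      refine LinearMap.lTensor_injective_of_exact_of_flat (R := A)
        ((Submodule.mkQ (Ideal.span {t})).restrictScalars A) (Submodule.mkQ_surjective _)
        (LinearMap.mulLeft A t) ?_ ?_ I
      · intro a b hab
        have hab' : t * a = t * b := hab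
        have h0 : (a - b) * t = 0 := by rw [mul_comm, mul_sub, hab', sub_self]
        exact sub_eq_zero.1 ((mem_nonZeroDivisors_iff_right.1 ht) _ h0)
      · intro b
        constructor
        · intro hb
          have hb' : b ∈ Ideal.span {t} := (Submodule.Quotient.mk_eq_zero _).1 hb
          obtain ⟨c, rfl⟩ := Ideal.mem_span_singleton'.1 hb'
          exact ⟨c, mul_comm t c⟩
        · rintro ⟨c, rfl⟩
          exact (Submodule.Quotient.mk_eq_zero _).2
            (Ideal.mem_span_singleton'.2 ⟨c, mul_comm c t⟩)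
    have hsmul : ∀ w : B ⊗[A] I, (LinearMap.mulLeft A t).rTensor I w = t • w := by
      intro w
      induction w using TensorProduct.induction_on with
      | zero => simp
      | tmul b i => simp [TensorProduct.smul_tmul']
      | add x y hx hy => rw [map_add, smul_add, hx, hy]
    intro w hw
    apply hinj
    rw [map_zero, hsmul, hw]
  have hpow : ∀ n : ℕ, ∀ w : B ⊗[A] I, t ^ n • w = 0 → w = 0 := by
    intro n
    induction n with
    | zero => intro w hw; simpa using hw
    | succ n ih =>
      intro w hw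
      rw [pow_succ, mul_smul] at hw
      exact hmul w (ih _ hw)
  by_contra hz0
  obtain ⟨𝔞, h𝔞⟩ : ∃ 𝔞 : Ideal B, ∀ b, b ∈ 𝔞 ↔ b • z = 0 :=
    ⟨(Submodule.span B {z}).annihilator, fun b => Submodule.mem_annihilator_span_singleton _ _⟩
  have hdisj : Disjoint (𝔞 : Set B) ((Submonoid.powers t : Submonoid B) : Set B) := by
    rw [Set.disjoint_right]
    rintro _ ⟨n, rfl⟩ hmem
    exact hz0 (hpow n z ((h𝔞 _).1 hmem))
  obtain ⟨𝔮, h𝔮prime, h𝔞𝔮, h𝔮disj⟩ := Ideal.exists_le_prime_disjoint 𝔞 (Submonoid.powers t) hdisj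
  have ht𝔮 : t ∉ 𝔮 := fun h => Set.disjoint_left.1 h𝔮disj h (Submonoid.mem_powers t)
  obtain ⟨L, _, _, _, _, _, hL⟩ := hloc 𝔮 ht𝔮
  have hz' : (TensorProduct.AlgebraTensorModule.rTensor A I (Algebra.linearMap B L)) z = 0 := by
    have hinjL : Function.Injective (I.subtype.lTensor L) :=
      Module.Flat.lTensor_preserves_injective_linearMap _ Subtype.val_injective
    apply hinjL
    rw [map_zero]
    have e1 : (I.subtype.lTensor L) (((Algebra.linearMap B L).restrictScalars A).rTensor I z) =
        ((Algebra.linearMap B L).restrictScalars A).rTensor A (I.subtype.lTensor B z) := by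
      rw [← LinearMap.comp_apply, ← LinearMap.comp_apply, LinearMap.lTensor_comp_rTensor,
        LinearMap.rTensor_comp_lTensor]
    have e2 : (TensorProduct.AlgebraTensorModule.rTensor A I (Algebra.linearMap B L)) z =
        ((Algebra.linearMap B L).restrictScalars A).rTensor I z := rfl
    rw [e2, e1, hz, map_zero]
  obtain ⟨⟨s, hs⟩, hsz⟩ := (IsLocalizedModule.eq_zero_iff 𝔮.primeCompl
    (TensorProduct.AlgebraTensorModule.rTensor A I (Algebra.linearMap B L))).1 hz'
  exact hs (h𝔞𝔮 ((h𝔞 s).2 hsz))

/-- Ring-hom version of `flat_of_nzd_of_flat_quot`. -/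
theorem ringHom_flat_of_nzd_of_flat_quot {A : Type*} {B : Type v} [CommRing A] [CommRing B]
    (φ : A →+* B) (t : B) (ht : t ∈ nonZeroDivisors B)
    (hq : ((Ideal.Quotient.mk (Ideal.span {t})).comp φ).Flat)
    (hloc : ∀ (𝔮 : Ideal B) [𝔮.IsPrime], t ∉ 𝔮 →
      ∃ (L : Type v) (_ : CommRing L) (ψ : B →+* L),
        (letI := ψ.toAlgebra; IsLocalization.AtPrime L 𝔮) ∧ (ψ.comp φ).Flat) :
    φ.Flat := by
  algebraize [φ]
  have e : ∀ I : Ideal B, (Ideal.Quotient.mk I).comp φ = algebraMap A (B ⧸ I) := fun I => rfl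
  rw [e, RingHom.flat_algebraMap_iff] at hq
  change Module.Flat A B
  refine flat_of_nzd_of_flat_quot t ht (fun 𝔮 _ h𝔮 => ?_)
  obtain ⟨L, _, ψ, hψ, hflat⟩ := hloc 𝔮 h𝔮
  letI : Algebra B L := ψ.toAlgebra
  letI : Algebra A L := (ψ.comp φ).toAlgebra
  haveI : IsScalarTower A B L := IsScalarTower.of_algebraMap_eq' rfl
  exact ⟨L, inferInstance, inferInstance, inferInstance, inferInstance, hψ, hflat⟩

end Groth.Agent.H9
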