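import Groth.Prelude.Def_DualLC
import Mathlib.RingTheory.Length

set_option autoImplicit false
universe u

namespace Groth.Agent.H9

open Function

variable {A : Type u} [CommRing A] {ι : Type*} [Fintype ι] [DecidableEq ι]

/-- Independence in the sense of Lech for a family indexed by a finite type. -/
def Indep (f : ι → A) : Prop :=
  ∀ a : ι → A, ∑ i, a i * f i = 0 → ∀ i, a i ∈ Ideal.span (Set.range f)

omit [DecidableEq ι] in
theorem indep_fin_iff {r : ℕ} (f : Fin r → A) : Indep f ↔ Dual2.Independent f := Iff.rfl

theorem sum_mul_update (a f : ι → A) (j : ι) (v : A) :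
    ∑ i, a i * (update f j v) i = ∑ i, a i * f i + a j * (v - f j) := by
  rw [← sub_eq_iff_eq_add', ← Finset.sum_sub_distrib]
  have : ∀ i, a i * update f j v i - a i * f i = if i = j then a j * (v - f j) else 0 := by
    intro i
    by_cases h : i = j
    · subst h; simp [mul_sub]
    · simp [h]
  simp_rw [this]
  simp

theorem span_update_mul_le (f : ι → A) (j : ι) (g : A) :
    Ideal.span (Set.range (update f j (f j * g))) ≤ Ideal.span (Set.range f) := by
  rw [Ideal.span_le]
  rintro _ ⟨i, rfl⟩
  by_cases h : i = j
  · subst h
    simp only [update_self]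
    exact Ideal.mul_mem_right _ _ (Ideal.subset_span ⟨i, rfl⟩)
  · simp only [update_of_ne h]
    exact Ideal.subset_span ⟨i, rfl⟩

/-- If `f` with `f j` replaced by `f j * g` is independent then so is `f`. -/
theorem Indep.of_update_mul {f : ι → A} {j : ι} {g : A}
    (h : Indep (update f j (f j * g))) : Indep f := by
  intro a ha
  have hle := span_update_mul_le f j g
  -- first: a j ∈ J'
  have h1 : a j ∈ Ideal.span (Set.range (update f j (f j * g))) := by
    have := h (update (fun i => g * a i) j (a j)) ?_ j
    · simpa using this
    · have e : ∀ i, update (fun i => g * a i) j (a j) i * update f j (f j * g) i = g * (a i * f i) := by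
        intro i
        by_cases hi : i = j
        · subst hi; simp; ring
        · simp [hi]; ring
      simp_rw [e]
      rw [← Finset.mul_sum, ha, mul_zero]
  obtain ⟨c, hc⟩ := (Ideal.mem_span_range_iff_exists_fun).1 h1
  -- hc : ∑ i, c i * update f j (f j * g) i = a j
  rw [sum_mul_update] at hc
  have key : ∀ i, update (fun i => a i + c i * f j) j (c j * f j) i ∈
      Ideal.span (Set.range (update f j (f j * g))) := by
    apply h
    rw [sum_mul_update]
    simp only [update_self]
    have e : ∀ i, update (fun i => a i + c i * f j) j (c j * f j) i * f i =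
        a i * f i + f j * (c i * f i) - (if i = j then a j * f j else 0) := by
      intro i
      by_cases hi : i = j
      · subst hi; simp; ring
      · simp [hi]; ring
    simp_rw [e]
    rw [Finset.sum_sub_distrib, Finset.sum_add_distrib, ha, ← Finset.mul_sum]
    simp only [Finset.sum_ite_eq', Finset.mem_univ, if_true, zero_add]
    rw [← hc]
    ring
  intro i
  by_cases hi : i = j
  · subst hi; exact hle h1
  · have := hle (key i)
    simp only [update_of_ne hi] at this
    have h2 : c i * f j ∈ Ideal.span (Set.range f) :=
      Ideal.mul_mem_left _ _ (Ideal.subset_span ⟨j, rfl⟩)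
    simpa using Ideal.sub_mem _ this h2

theorem span_update_mul_le' (f : ι → A) (j : ι) (g : A) :
    Ideal.span (Set.range (update f j (f j * g))) ≤ Ideal.span (Set.range (update f j g)) := by
  rw [Ideal.span_le]
  rintro _ ⟨i, rfl⟩
  by_cases h : i = j
  · subst h
    simp only [update_self]
    refine Ideal.mul_mem_left _ _ (Ideal.subset_span ⟨i, ?_⟩)
    simp
  · simp only [update_of_ne h]
    exact Ideal.subset_span ⟨i, by simp [h]⟩

theorem mul_mem_span_update_mul (f : ι → A) (j : ι) (g : A) {x : A}
    (hx : x ∈ Ideal.span (Set.range (update f j g))) :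
    f j * x ∈ Ideal.span (Set.range (update f j (f j * g))) := by
  have : Ideal.span (Set.range (update f j g)) ≤
      Submodule.comap (LinearMap.lsmul A A (f j)) (Ideal.span (Set.range (update f j (f j * g)))) := by
    rw [Ideal.span, Submodule.span_le]
    rintro _ ⟨i, rfl⟩
    simp only [Submodule.comap_coe, Set.mem_preimage, LinearMap.lsmul_apply, smul_eq_mul,
      SetLike.mem_coe]
    by_cases h : i = j
    · subst h
      simp only [update_self]
      exact Ideal.subset_span ⟨i, by simp⟩
    · simp only [update_of_ne h]
      exact Ideal.mul_mem_left _ _ (Ideal.subset_span ⟨i, by simp [h]⟩)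
  simpa using this hx

theorem Indep.mem_of_sum_eq_zero {f : ι → A} {j : ι} {g : A}
    (h : Indep (update f j (f j * g))) {a : ι → A} (ha : ∑ i, a i * f i = 0) :
    a j ∈ Ideal.span (Set.range (update f j (f j * g))) := by
  have := h (update (fun i => g * a i) j (a j)) ?_ j
  · simpa using this
  · have e : ∀ i, update (fun i => g * a i) j (a j) i * update f j (f j * g) i = g * (a i * f i) := by
      intro i
      by_cases hi : i = j
      · subst hi; simp; ring
      · simp [hi]; ring
    simp_rw [e]
    rw [← Finset.mul_sum, ha, mul_zero]

theorem Indep.mem_of_mul_mem {f : ι → A} {j : ι} {g : A}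
    (h : Indep (update f j (f j * g))) {x : A}
    (hx : f j * x ∈ Ideal.span (Set.range (update f j (f j * g)))) :
    x ∈ Ideal.span (Set.range (update f j g)) := by
  obtain ⟨c, hc⟩ := (Ideal.mem_span_range_iff_exists_fun).1 hx
  rw [sum_mul_update] at hc
  have h0 : ∑ i, (update c j (c j * g - x)) i * f i = 0 := by
    have e : ∀ i, (update c j (c j * g - x)) i * f i =
        c i * f i + (if i = j then (c j * g - x - c j) * f j else 0) := by
      intro i
      by_cases hi : i = j
      · subst hi; simp; ring
      · simp [hi]
    simp_rw [e]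
    rw [Finset.sum_add_distrib]
    simp only [Finset.sum_ite_eq', Finset.mem_univ, if_true]
    have : ∑ i, c i * f i = f j * x - c j * (f j * g - f j) := by rw [← hc]; ring
    rw [this]; ring
  have h1 := h.mem_of_sum_eq_zero h0
  simp only [update_self] at h1
  have h2 := span_update_mul_le' f j g h1
  have h3 : c j * g ∈ Ideal.span (Set.range (update f j g)) :=
    Ideal.mul_mem_left _ _ (Ideal.subset_span ⟨j, by simp⟩)
  have := Ideal.sub_mem _ h3 h2
  simpa using this

/-- Length additivity for Lech-independent families. -/
theorem Indep.length_quotient {f : ι → A} {j : ι} {g : A}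
    (h : Indep (update f j (f j * g))) :
    Module.length A (A ⧸ Ideal.span (Set.range (update f j (f j * g)))) =
      Module.length A (A ⧸ Ideal.span (Set.range f)) +
        Module.length A (A ⧸ Ideal.span (Set.range (update f j g))) := by
  set J' := Ideal.span (Set.range (update f j (f j * g))) with hJ'
  set J := Ideal.span (Set.range f) with hJ
  set J'' := Ideal.span (Set.range (update f j g)) with hJ''
  let φ : (A ⧸ J'') →ₗ[A] (A ⧸ J') :=
    Submodule.mapQ J'' J' (LinearMap.lsmul A A (f j)) (by
      intro x hx
      simpa using mul_mem_span_update_mul f j g hx)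
  let ψ : (A ⧸ J') →ₗ[A] (A ⧸ J) :=
    Submodule.mapQ J' J LinearMap.id (by
      intro x hx
      simpa using span_update_mul_le f j g hx)
  have hφ : Function.Injective φ := by
    rw [← LinearMap.ker_eq_bot, LinearMap.ker_eq_bot']
    intro y hy
    obtain ⟨x, rfl⟩ := Submodule.Quotient.mk_surjective _ y
    have : f j * x ∈ J' := by
      have := (Submodule.Quotient.mk_eq_zero J').1 hy
      simpa using this
    exact (Submodule.Quotient.mk_eq_zero J'').2 (h.mem_of_mul_mem this)
  have hψ : Function.Surjective ψ := by
    intro y
    obtain ⟨x, rfl⟩ := Submodule.Quotient.mk_surjective _ y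
    exact ⟨Submodule.Quotient.mk x, rfl⟩
  have hex : Function.Exact φ ψ := by
    intro y
    constructor
    · intro hy
      obtain ⟨x, rfl⟩ := Submodule.Quotient.mk_surjective _ y
      have hxJ : x ∈ J := by
        have := (Submodule.Quotient.mk_eq_zero J).1 hy
        simpa using this
      obtain ⟨c, hc⟩ := (Ideal.mem_span_range_iff_exists_fun).1 hxJ
      refine ⟨Submodule.Quotient.mk (c j), ?_⟩
      show Submodule.Quotient.mk (f j • c j) = Submodule.Quotient.mk x
      rw [Submodule.Quotient.eq]
      have e : f j • c j - x = - ∑ i, (update c j 0) i * (update f j (f j * g)) i := by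
        rw [sum_mul_update, ← hc]
        have e2 : ∀ i, (update c j 0) i * f i = c i * f i - (if i = j then c j * f j else 0) := by
          intro i
          by_cases hi : i = j
          · subst hi; simp
          · simp [hi]
        simp_rw [e2]
        rw [Finset.sum_sub_distrib]
        simp only [Finset.sum_ite_eq', Finset.mem_univ, if_true, update_self, smul_eq_mul]
        ring
      rw [e]
      exact Ideal.neg_mem_iff _ |>.2 (Ideal.sum_mem _ fun i _ =>
        Ideal.mul_mem_left _ _ (Ideal.subset_span ⟨i, rfl⟩))
    · rintro ⟨z, rfl⟩
      obtain ⟨x, rfl⟩ := Submodule.Quotient.mk_surjective _ z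
      show Submodule.Quotient.mk (f j • x) = (0 : A ⧸ J)
      rw [Submodule.Quotient.mk_eq_zero]
      exact Ideal.mul_mem_right _ _ (Ideal.subset_span ⟨j, rfl⟩)
  rw [Module.length_eq_add_of_exact φ ψ hφ hψ hex, add_comm]

end Groth.Agent.H9
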