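import Groth.Agent.H9.Independent
import Mathlib.RingTheory.SimpleModule.Basic

set_option autoImplicit false
universe u

namespace Groth.Agent.H9

open Function

variable {A : Type u} [CommRing A] {ι : Type*} [Fintype ι] [DecidableEq ι]

theorem Indep.of_update_mul' {f : ι → A} {j : ι} {g : A}
    (h : Indep (update f j (f j * g))) : Indep (update f j g) := by
  have : update (update f j g) j ((update f j g) j * f j) = update f j (f j * g) := by
    simp [mul_comm]
  exact Indep.of_update_mul (j := j) (g := f j) (this ▸ h)

theorem length_quotient_pow_of_indep [IsLocalRing A] (x : ι → A)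
    (hx : Ideal.span (Set.range x) = IsLocalRing.maximalIdeal A) (e : ι → ℕ) (he : ∀ i, 0 < e i)
    (hind : Indep (fun i => x i ^ e i)) :
    Module.length A (A ⧸ Ideal.span (Set.range (fun i => x i ^ e i))) = ∏ i, (e i : ℕ∞) := by
  generalize hn : ∑ i, e i = n
  induction n using Nat.strong_induction_on generalizing e with
  | _ n ih =>
  by_cases hall : ∀ i, e i = 1
  · have h1 : (fun i => x i ^ e i) = x := by
      funext i; simp [hall]
    rw [h1, hx]
    have : IsSimpleModule A (A ⧸ IsLocalRing.maximalIdeal A) :=
      isSimpleModule_iff_isCoatom.mpr (Ideal.isMaximal_def.1 inferInstance)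
    rw [Module.length_eq_one]
    simp [hall]
  · push Not at hall
    obtain ⟨j, hj⟩ := hall
    have hj2 : 2 ≤ e j := by have := he j; omega
    set e' : ι → ℕ := update e j (e j - 1) with he'
    set e'' : ι → ℕ := update e j 1 with he''
    set f : ι → A := fun i => x i ^ e' i with hf
    have hfe : update f j (f j * x j) = fun i => x i ^ e i := by
      funext i
      by_cases hi : i = j
      · subst hi
        simp only [update_self, hf, he']
        rw [← pow_succ]
        congr 1
        omega
      · simp [hi, hf, he']
    have hfe'' : update f j (x j) = fun i => x i ^ e'' i := by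
      funext i
      by_cases hi : i = j
      · subst hi
        simp [he'']
      · simp [hi, hf, he', he'']
    have hI : Indep (update f j (f j * x j)) := by rw [hfe]; exact hind
    have hI1 : Indep f := hI.of_update_mul
    have hI2 : Indep (fun i => x i ^ e'' i) := by rw [← hfe'']; exact hI.of_update_mul'
    have hlen := hI.length_quotient
    rw [hfe, hfe''] at hlen
    have hpos' : ∀ i, 0 < e' i := by
      intro i
      by_cases hi : i = j
      · subst hi; simp [he']; omega
      · simp [he', hi, he i]
    have hpos'' : ∀ i, 0 < e'' i := by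
      intro i
      by_cases hi : i = j
      · subst hi; simp [he'']
      · simp [he'', hi, he i]
    have hsum : ∑ i, e i = e j + ∑ i ∈ Finset.univ \ {j}, e i := by
      have := Finset.sum_update_of_mem (Finset.mem_univ j) e (e j)
      rwa [update_eq_self] at this
    have hsum' : ∑ i, e' i = (e j - 1) + ∑ i ∈ Finset.univ \ {j}, e i :=
      Finset.sum_update_of_mem (Finset.mem_univ j) e (e j - 1)
    have hsum'' : ∑ i, e'' i = 1 + ∑ i ∈ Finset.univ \ {j}, e i :=
      Finset.sum_update_of_mem (Finset.mem_univ j) e 1
    have ih1 := ih (∑ i, e' i) (by omega) e' hpos' hI1 rfl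
    have ih2 := ih (∑ i, e'' i) (by omega) e'' hpos'' hI2 rfl
    rw [hlen, ih1, ih2]
    have hprod : ∏ i, e i = e j * ∏ i ∈ Finset.univ \ {j}, e i := by
      have := Finset.prod_update_of_mem (Finset.mem_univ j) e (e j)
      rwa [update_eq_self] at this
    have hprod' : ∏ i, e' i = (e j - 1) * ∏ i ∈ Finset.univ \ {j}, e i :=
      Finset.prod_update_of_mem (Finset.mem_univ j) e (e j - 1)
    have hprod'' : ∏ i, e'' i = 1 * ∏ i ∈ Finset.univ \ {j}, e i :=
      Finset.prod_update_of_mem (Finset.mem_univ j) e 1
    rw [← Nat.cast_prod, ← Nat.cast_prod, ← Nat.cast_prod, ← Nat.cast_add]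
    congr 1
    rw [hprod, hprod', hprod'', ← add_mul]
    congr 1
    omega

end Groth.Agent.H9
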