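import Mathlib
import Groth.Agent.H69.DirColim
import Groth.Agent.H15.NilPair.Base
import Groth.Agent.H15.NilPair.Sys
import Groth.Agent.H15.IntPair.Sys
set_option autoImplicit false
universe u
open CategoryTheory MvPolynomial Limits
open Groth.Agent.H69 Groth.Agent.H15.IntPair
open Groth.Agent.H15.NilPair (PS IT Cq mkq mkq_surjective mkq_eq_zero mkq_eq_zero_iff fp tr tr_mkq
  tr_refl tr_trans toE toE_mkq toE_tr gen_top X_mem_PS PS_mono dirNat)
open scoped Classical

namespace Groth.Agent.H9.IntPair_SB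

section gen
variable {A V : Type u} [CommRing A]

theorem coe_aeval {S : Finset V} (v : V) (hv : v ∈ S) (p : Polynomial A) :
    ((Polynomial.aeval (⟨X v, X_mem_PS hv⟩ : PS A S) p : PS A S) : MvPolynomial V A) =
      Polynomial.aeval (X v : MvPolynomial V A) p := by
  have := Polynomial.aeval_algHom_apply (PS A S).val (⟨X v, X_mem_PS hv⟩ : PS A S) p
  exact this.symm

theorem isIntegralElem_of_mem {S : Finset V} {T : Finset (MvPolynomial V A)} (v : V)
    (hv : v ∈ S) (p : Polynomial A) (hp : p.Monic)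
    (h : Polynomial.aeval (X v : MvPolynomial V A) p ∈ T) :
    (algebraMap A (Cq S T)).IsIntegralElem (mkq S T ⟨X v, X_mem_PS hv⟩) := by
  refine ⟨p, hp, ?_⟩
  rw [← Polynomial.aeval_def, Polynomial.aeval_algHom_apply]
  apply mkq_eq_zero
  rw [coe_aeval v hv]
  exact h

theorem mem_bot_of_mem {S : Finset V} {T : Finset (MvPolynomial V A)} (v : V) (hv : v ∈ S)
    (a : A) (h : (X v - C a : MvPolynomial V A) ∈ T) :
    mkq S T ⟨X v, X_mem_PS hv⟩ ∈ (⊥ : Subalgebra A (Cq S T)) := by
  have e : mkq S T ⟨X v, X_mem_PS hv⟩ = mkq S T (algebraMap A (PS A S) a) :=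
    Groth.Agent.H15.NilPair.mkq_eq _ _ (by simpa using h)
  rw [e, AlgHom.commutes]
  exact Subalgebra.algebraMap_mem _ a

theorem nil_mkq_of_pow_mem {S : Finset V} {T : Finset (MvPolynomial V A)} (g : MvPolynomial V A)
    (hg : g ∈ PS A S) (n : ℕ) (h : g ^ (n + 1) ∈ T) (x : PS A S)
    (hx : (x : MvPolynomial V A) = g) : IsNilpotent (mkq S T x) := by
  have hx' : x = (⟨g, hg⟩ : PS A S) := Subtype.ext hx
  rw [hx']
  refine ⟨n + 1, ?_⟩
  rw [← map_pow]
  apply mkq_eq_zero
  rw [SubmonoidClass.coe_pow]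
  exact h

theorem C_mem_PS (S : Finset V) (a : A) : (C a : MvPolynomial V A) ∈ PS A S :=
  (PS A S).algebraMap_mem a

end gen

variable {A B C : Type u} [CommRing A] [CommRing B] [CommRing C] [Algebra A B] [Algebra A C]
  [Algebra B C] [IsScalarTower A B C]

theorem evB_X (b : B) : evB A B C (X (Sum.inl b)) = b := by
  simp [evB]

theorem evC_X (b : B) : evC A B C (X (Sum.inl b)) = algebraMap B C b := by
  simp [evC]

theorem evB_C (a : A) : evB A B C (MvPolynomial.C a) = algebraMap A B a := by
  simp [evB]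

theorem evC_C (a : A) : evC A B C (MvPolynomial.C a) = algebraMap A C a := by
  simp [evC]

theorem valid_of (b : B) (p : Polynomial A) (hp : p.Monic)
    (TB TC : Finset (MvPolynomial (B ⊕ C) A))
    (h1 : ∀ t ∈ TB, t ∈ PS A (({b} : Finset B).disjSum (∅ : Finset C)) ∧ evB A B C t = 0)
    (h2 : ∀ t ∈ TC, t ∈ PS A (({b} : Finset B).disjSum (∅ : Finset C)) ∧ evC A B C t = 0)
    (h3 : Polynomial.aeval (X (Sum.inl b) : MvPolynomial (B ⊕ C) A) p ∈ TB)
    (h5 : Function.Surjective (algebraMap A B) →
      ∃ a : A, (X (Sum.inl b) - MvPolynomial.C a : MvPolynomial (B ⊕ C) A) ∈ TB)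
    (h7 : Function.Surjective (algebraMap A C) →
      ∃ a : A, (X (Sum.inl b) - MvPolynomial.C a : MvPolynomial (B ⊕ C) A) ∈ TC ∪ TB)
    (h8 : Function.Surjective (algebraMap B C) → IsNilpotent (RingHom.ker (algebraMap B C)) →
      ∀ x : PS A (({b} : Finset B).disjSum (∅ : Finset C)),
        (x : MvPolynomial (B ⊕ C) A) ∈ TC →
        IsNilpotent (mkq (({b} : Finset B).disjSum (∅ : Finset C)) TB x)) :
    Valid (⟨{b}, ∅, TB, TC⟩ : Raw A B C) := by
  refine ⟨h1, h2, ?_, ?_, ?_, ?_, ?_, h8⟩
  · intro b' hb'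
    have hbb : b' = b := Finset.mem_singleton.1 hb'
    subst hbb
    exact isIntegralElem_of_mem (Sum.inl b') (Raw.inl_mem_WB hb') p hp h3
  · intro c hc
    exact absurd hc (Finset.notMem_empty c)
  · intro hs b' hb'
    have hbb : b' = b := Finset.mem_singleton.1 hb'
    subst hbb
    obtain ⟨a, ha⟩ := h5 hs
    exact mem_bot_of_mem (Sum.inl b') (Raw.inl_mem_WB hb') a ha
  · intro _
    rfl
  · intro hs b' hb'
    have hbb : b' = b := Finset.mem_singleton.1 hb'
    subst hbb
    obtain ⟨a, ha⟩ := h7 hs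
    exact mem_bot_of_mem (T := (⟨{b'}, ∅, TB, TC⟩ : Raw A B C).TCC) (Sum.inl b')
      (Raw.inl_mem_WC hb') a ha

/-- (SB) -/
theorem surj_B [Algebra.IsIntegral A B] : ∀ b : B, ∃ (j : J A B C) (x : FB j), toB j x = b := by
  intro b
  obtain ⟨p, hp, hpb⟩ := Algebra.IsIntegral.isIntegral (R := A) b
  have hpb' : Polynomial.aeval b p = 0 := by rw [Polynomial.aeval_def]; exact hpb
  set W : Finset (B ⊕ C) := ({b} : Finset B).disjSum (∅ : Finset C) with hW
  have hbW : (Sum.inl b : B ⊕ C) ∈ W := Finset.inl_mem_disjSum.mpr (Finset.mem_singleton_self b)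
  set Xb : MvPolynomial (B ⊕ C) A := X (Sum.inl b) with hXb
  have hXbW : Xb ∈ PS A W := X_mem_PS hbW
  set r : MvPolynomial (B ⊕ C) A := Polynomial.aeval Xb p with hr
  have hrW : r ∈ PS A W := by
    rw [hr, hXb, ← coe_aeval (S := W) (Sum.inl b) hbW p]
    exact Subtype.property _
  have hrB : evB A B C r = 0 := by
    rw [hr, ← Polynomial.aeval_algHom_apply, hXb, evB_X]
    exact hpb'
  -- the conclusion from a valid index
  have fin : ∀ (TB TC : Finset (MvPolynomial (B ⊕ C) A))
      (hv : Valid (⟨{b}, ∅, TB, TC⟩ : Raw A B C)),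
      ∃ (j : J A B C) (x : FB j), toB j x = b := by
    intro TB TC hv
    refine ⟨⟨⟨{b}, ∅, TB, TC⟩, hv⟩, mkq _ _ ⟨Xb, hXbW⟩, ?_⟩
    simp only [toB, toE_mkq]
    exact evB_X b
  by_cases hAB : Function.Surjective (algebraMap A B)
  · obtain ⟨a, ha⟩ := hAB b
    refine fin {r, Xb - MvPolynomial.C a} ∅ (valid_of b p hp _ _ ?_ ?_ ?_ ?_ ?_ ?_)
    · intro t ht
      rcases Finset.mem_insert.1 ht with rfl | ht
      · exact ⟨hrW, hrB⟩
      · rw [Finset.mem_singleton.1 ht]
        refine ⟨Subalgebra.sub_mem _ hXbW (C_mem_PS W a), ?_⟩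
        rw [map_sub, hXb, evB_X, evB_C, ha, sub_self]
    · intro t ht
      exact absurd ht (Finset.notMem_empty t)
    · exact Finset.mem_insert_self _ _
    · intro _
      exact ⟨a, Finset.mem_insert_of_mem (Finset.mem_singleton_self _)⟩
    · intro _
      exact ⟨a, Finset.mem_union_right _ (Finset.mem_insert_of_mem (Finset.mem_singleton_self _))⟩
    · intro _ _ x hx
      exact absurd hx (Finset.notMem_empty _)
  · by_cases hAC : Function.Surjective (algebraMap A C)
    · obtain ⟨a', ha'⟩ := hAC (algebraMap B C b)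
      set r' : MvPolynomial (B ⊕ C) A := Xb - MvPolynomial.C a' with hr'
      have hr'W : r' ∈ PS A W := Subalgebra.sub_mem _ hXbW (C_mem_PS W a')
      have hr'C : evC A B C r' = 0 := by
        rw [hr', map_sub, hXb, evC_X, evC_C, ha', sub_self]
      by_cases mode : Function.Surjective (algebraMap B C) ∧
          IsNilpotent (RingHom.ker (algebraMap B C))
      · obtain ⟨N, hN⟩ := mode.2
        have he : b - algebraMap A B a' ∈ RingHom.ker (algebraMap B C) := by
          rw [RingHom.mem_ker, map_sub, ← IsScalarTower.algebraMap_apply, ha', sub_self]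
        have heN : (b - algebraMap A B a') ^ (N + 1) = 0 := by
          have h1 : (b - algebraMap A B a') ^ N ∈ RingHom.ker (algebraMap B C) ^ N :=
            Ideal.pow_mem_pow he N
          rw [hN] at h1
          have h2 : (b - algebraMap A B a') ^ N = 0 := h1
          rw [pow_succ, h2, zero_mul]
        refine fin {r, r' ^ (N + 1)} {r'} (valid_of b p hp _ _ ?_ ?_ ?_ ?_ ?_ ?_)
        · intro t ht
          rcases Finset.mem_insert.1 ht with rfl | ht
          · exact ⟨hrW, hrB⟩
          · rw [Finset.mem_singleton.1 ht]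
            refine ⟨Subalgebra.pow_mem _ hr'W _, ?_⟩
            rw [map_pow, hr', map_sub, hXb, evB_X, evB_C]
            exact heN
        · intro t ht
          rw [Finset.mem_singleton.1 ht]
          exact ⟨hr'W, hr'C⟩
        · exact Finset.mem_insert_self _ _
        · intro h; exact absurd h hAB
        · intro _
          exact ⟨a', Finset.mem_union_left _ (Finset.mem_singleton_self _)⟩
        · intro _ _ x hx
          exact nil_mkq_of_pow_mem r' hr'W N
            (Finset.mem_insert_of_mem (Finset.mem_singleton_self _)) x (Finset.mem_singleton.1 hx)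
      · refine fin {r} {r'} (valid_of b p hp _ _ ?_ ?_ ?_ ?_ ?_ ?_)
        · intro t ht
          rw [Finset.mem_singleton.1 ht]
          exact ⟨hrW, hrB⟩
        · intro t ht
          rw [Finset.mem_singleton.1 ht]
          exact ⟨hr'W, hr'C⟩
        · exact Finset.mem_singleton_self _
        · intro h; exact absurd h hAB
        · intro _
          exact ⟨a', Finset.mem_union_left _ (Finset.mem_singleton_self _)⟩
        · intro hs hn
          exact absurd ⟨hs, hn⟩ mode
    · refine fin {r} ∅ (valid_of b p hp _ _ ?_ ?_ ?_ ?_ ?_ ?_)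
      · intro t ht
        rw [Finset.mem_singleton.1 ht]
        exact ⟨hrW, hrB⟩
      · intro t ht
        exact absurd ht (Finset.notMem_empty t)
      · exact Finset.mem_singleton_self _
      · intro h; exact absurd h hAB
      · intro h; exact absurd h hAC
      · intro _ _ x hx
        exact absurd hx (Finset.notMem_empty _)

end Groth.Agent.H9.IntPair_SB
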