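import Mathlib
import Groth.Prelude.Def_DDual2
set_option autoImplicit false
universe w₁ w₂ v₁ v₂ u₁ u₂ u
open CategoryTheory Limits
attribute [local instance] HasDerivedCategory.standard

namespace Groth.Agent.H9.Inv

/-- (CORE) -/
theorem CORE (A : Type u) [CommRing A] [IsNoetherianRing A]
    (T T' : Dual.D A ⥤ Dual.D A) [T.CommShift ℤ] [T.Additive] [T.Linear A]
    (e₁ : T ⋙ T' ≅ 𝟭 (Dual.D A)) (e₂ : T' ⋙ T ≅ 𝟭 (Dual.D A))
    (hsingle : ∀ M : ModuleCat.{u} A, ∃ N : ModuleCat.{u} A,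
      Nonempty (T'.obj ((DerivedCategory.singleFunctor (ModuleCat.{u} A) 0).obj M) ≅
        (DerivedCategory.singleFunctor (ModuleCat.{u} A) 0).obj N))
    (hfin : ∀ (K : Dual.D A) (i : ℤ), Module.Finite A (Dual.HD A K i) →
      Module.Finite A (Dual.HD A (T.obj K) i))
    (ω : Dual.D A) (hω : Dual.IsDualizing A ω) : Dual.IsDualizing A (T.obj ω) := by
  have hTf : T.Faithful := Functor.Faithful.of_comp_iso e₁
  have hT'f : T'.Faithful := Functor.Faithful.of_comp_iso e₂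
  have hTfull : T.Full := Functor.Full.of_comp_faithful_iso e₁
  refine ⟨inferInstance, ?_, fun i => hfin ω i (hω.finite_cohomology i), ?_, ?_⟩
  · obtain ⟨a, b, h⟩ := hω.finite_injective_dimension
    refine ⟨a, b, fun M _ _ i hi => ?_⟩
    obtain ⟨N, ⟨eN⟩⟩ := hsingle (ModuleCat.of A M)
    have hsub : Subsingleton ((DerivedCategory.singleFunctor (ModuleCat.{u} A) 0).obj N ⟶
        ω⟦i⟧) := h N i hi
    -- the iso T'((Tω)⟦i⟧) ≅ ω⟦i⟧
    let c : T.obj (ω⟦i⟧) ≅ (T.obj ω)⟦i⟧ := (T.commShiftIso i).app ω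
    let d : T'.obj ((T.obj ω)⟦i⟧) ≅ ω⟦i⟧ := T'.mapIso c.symm ≪≫ e₁.app (ω⟦i⟧)
    constructor
    intro f g
    apply T'.map_injective
    have h1 : eN.inv ≫ T'.map f ≫ d.hom = eN.inv ≫ T'.map g ≫ d.hom := Subsingleton.elim _ _
    have h2 := (cancel_epi eN.inv).1 h1
    exact (cancel_mono d.hom).1 h2
  · have h1 : (fun a : A => a • 𝟙 (T.obj ω)) = (fun f : ω ⟶ ω => T.map f) ∘
        (fun a : A => a • 𝟙 ω) := by
      funext a
      simp [Functor.map_smul]
    rw [h1]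
    refine Function.Bijective.comp ⟨T.map_injective, T.map_surjective⟩ hω.toEnd_bijective
  · intro i hi
    have hsub := hω.ext_self_subsingleton i hi
    let c : T.obj (ω⟦i⟧) ≅ (T.obj ω)⟦i⟧ := (T.commShiftIso i).app ω
    constructor
    intro f g
    obtain ⟨f', hf'⟩ := T.map_surjective (f ≫ c.inv)
    obtain ⟨g', hg'⟩ := T.map_surjective (g ≫ c.inv)
    have : f' = g' := Subsingleton.elim _ _
    have h2 : f ≫ c.inv = g ≫ c.inv := by rw [← hf', ← hg', this]
    exact (cancel_mono c.inv).1 h2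

end Groth.Agent.H9.Inv
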