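import Mathlib
set_option autoImplicit false
open CategoryTheory CategoryTheory.Limits AlgebraicGeometry
universe u

namespace Groth.Agent.H9.KumFS

/-- (CHARTA) -/
theorem exists_openImmersion_affineSpace {S : Scheme.{u}} (σ : Type u) (U : S.Opens)
    (hU : IsAffineOpen U) :
    ∃ θ : Spec (CommRingCat.of (MvPolynomial σ Γ(S, U))) ⟶ AffineSpace σ S, IsOpenImmersion θ ∧
      θ ≫ (AffineSpace σ S ↘ S) = Spec.map (CommRingCat.ofHom MvPolynomial.C) ≫ hU.fromSpec ∧
      ∀ j, (Scheme.ΓSpecIso _).hom.hom (θ.appTop.hom (AffineSpace.coord S j)) =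
        MvPolynomial.X j := by
  have hopen : IsOpenImmersion (AffineSpace.map σ hU.fromSpec) :=
    MorphismProperty.of_isPullback (P := @IsOpenImmersion)
      (AffineSpace.isPullback_map (n := σ) hU.fromSpec).flip inferInstance
  refine ⟨(AffineSpace.SpecIso σ Γ(S, U)).inv ≫ AffineSpace.map σ hU.fromSpec, inferInstance,
    ?_, ?_⟩
  · rw [Category.assoc, AffineSpace.map_over, AffineSpace.SpecIso_inv_over_assoc]
  · intro j
    have h1 : ((AffineSpace.SpecIso σ Γ(S, U)).inv ≫ AffineSpace.map σ hU.fromSpec).appTop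
        (AffineSpace.coord S j) =
        (Scheme.ΓSpecIso (.of (MvPolynomial σ Γ(S, U)))).inv (MvPolynomial.X j) := by
      rw [Scheme.Hom.comp_appTop, CommRingCat.comp_apply, AffineSpace.map_appTop_coord,
        AffineSpace.SpecIso_inv_appTop_coord]
    change (Scheme.ΓSpecIso _).hom
      (((AffineSpace.SpecIso σ Γ(S, U)).inv ≫ AffineSpace.map σ hU.fromSpec).appTop
        (AffineSpace.coord S j)) = _
    rw [h1, ← CommRingCat.comp_apply, Iso.inv_hom_id]
    rfl

end Groth.Agent.H9.KumFS
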