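import Mathlib
import Groth.Agent.H9.KumFS_CHARTA
set_option autoImplicit false
open CategoryTheory CategoryTheory.Limits AlgebraicGeometry
universe u

namespace Groth.Agent.H9.KumFS

/-- (CHART) -/
theorem exists_chart {X S : Scheme.{u}} (f : X ⟶ S) (W : X.Opens) (d : ℕ)
    (v : ULift.{u} (Fin d) → Γ(W, ⊤))
    (het : Etale (AffineSpace.homOfVector (W.ι ≫ f) v)) (x : X) (hx : x ∈ W) :
    ∃ (U : S.Opens) (_ : IsAffineOpen U) (W₀ : X.Opens) (_ : IsAffineOpen W₀) (hW₀W : W₀ ≤ W)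
      (hW₀U : W₀ ≤ f ⁻¹ᵁ U), x ∈ W₀ ∧
      (MvPolynomial.eval₂Hom (f.appLE U W₀ hW₀U).hom
        (fun j => (X.presheaf.map (homOfLE hW₀W).op).hom (W.topIso.hom.hom (v j)))).Etale := by
  obtain ⟨_, ⟨U, hU, rfl⟩, hfxU, -⟩ :=
    (S.isBasis_affineOpens).exists_subset_of_mem_open (Set.mem_univ (f x)) isOpen_univ
  have hU' : IsAffineOpen U := hU
  obtain ⟨_, ⟨W₀, hW₀, rfl⟩, hxW₀, hsub⟩ :=
    (X.isBasis_affineOpens).exists_subset_of_mem_open
      (show x ∈ ((W ⊓ f ⁻¹ᵁ U : X.Opens) : Set X) from ⟨hx, hfxU⟩) (W ⊓ f ⁻¹ᵁ U).2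
  have hW₀' : IsAffineOpen W₀ := hW₀
  have hW₀W : W₀ ≤ W := fun y hy => (hsub hy).1
  have hW₀U : W₀ ≤ f ⁻¹ᵁ U := fun y hy => (hsub hy).2
  refine ⟨U, hU', W₀, hW₀', hW₀W, hW₀U, hxW₀, ?_⟩
  set ρ : MvPolynomial (ULift.{u} (Fin d)) Γ(S, U) →+* Γ(X, W₀) :=
    MvPolynomial.eval₂Hom (f.appLE U W₀ hW₀U).hom
      (fun j => (X.presheaf.map (homOfLE hW₀W).op).hom (W.topIso.hom.hom (v j))) with hρ
  obtain ⟨θ, hθ, hθover, hθcoord⟩ := exists_openImmersion_affineSpace (ULift.{u} (Fin d)) U hU'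
  -- the chart equation
  have hjθ : (hW₀'.isoSpec.hom ≫ Spec.map (CommRingCat.ofHom ρ)) ≫ θ =
      X.homOfLE hW₀W ≫ AffineSpace.homOfVector (W.ι ≫ f) v := by
    apply AffineSpace.hom_ext
    · rw [Category.assoc, Category.assoc, hθover, Category.assoc, AffineSpace.homOfVector_over,
        ← Spec.map_comp_assoc]
      have hC : CommRingCat.ofHom (MvPolynomial.C (σ := ULift.{u} (Fin d))) ≫ CommRingCat.ofHom ρ =
          f.appLE U W₀ hW₀U := by
        ext a
        simp [hρ]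
      rw [hC, IsAffineOpen.SpecMap_appLE_fromSpec f hU' hW₀' hW₀U,
        IsAffineOpen.isoSpec_hom_fromSpec_assoc, Scheme.homOfLE_ι_assoc]
    · intro i
      have h1 : θ.appTop (AffineSpace.coord S i) =
          (Scheme.ΓSpecIso (.of (MvPolynomial (ULift.{u} (Fin d)) Γ(S, U)))).inv (MvPolynomial.X i) := by
        have := hθcoord i
        apply_fun (Scheme.ΓSpecIso (.of (MvPolynomial (ULift.{u} (Fin d)) Γ(S, U)))).inv at this
        rw [← this]
        change _ = ((Scheme.ΓSpecIso _).hom ≫ (Scheme.ΓSpecIso _).inv) _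
        rw [Iso.hom_inv_id]
        rfl
      rw [Scheme.Hom.comp_appTop, Scheme.Hom.comp_appTop, Scheme.Hom.comp_appTop,
        CommRingCat.comp_apply, CommRingCat.comp_apply, CommRingCat.comp_apply, h1,
        AffineSpace.homOfVector_appTop_coord]
      have h2 : (Spec.map (CommRingCat.ofHom ρ)).appTop
          ((Scheme.ΓSpecIso (.of (MvPolynomial (ULift.{u} (Fin d)) Γ(S, U)))).inv (MvPolynomial.X i)) =
          (Scheme.ΓSpecIso Γ(X, W₀)).inv (ρ (MvPolynomial.X i)) := by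
        rw [← CommRingCat.comp_apply, ← Scheme.ΓSpecIso_inv_naturality, CommRingCat.comp_apply]
        rfl
      rw [h2, IsAffineOpen.isoSpec_hom_appTop, CommRingCat.comp_apply,
        ← CommRingCat.comp_apply (Scheme.ΓSpecIso Γ(X, W₀)).inv, Iso.inv_hom_id]
      have h3 : ρ (MvPolynomial.X i) =
          (X.presheaf.map (homOfLE hW₀W).op) (W.topIso.hom (v i)) := by
        simp [hρ]
      rw [h3, Scheme.homOfLE_appTop]
      simp only [Scheme.Opens.topIso, CommRingCat.id_apply]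
      rw [← CommRingCat.comp_apply, ← CommRingCat.comp_apply]
      simp only [Functor.mapIso_hom, Functor.mapIso_inv]
      refine ConcreteCategory.congr_hom ?_ (v i)
      erw [← Functor.map_comp, ← Functor.map_comp]
      rfl
  -- etale cancellation
  have := het
  have het2 : Etale (X.homOfLE hW₀W ≫ AffineSpace.homOfVector (W.ι ≫ f) v) := inferInstance
  rw [← hjθ] at het2
  have het3 : Etale (hW₀'.isoSpec.hom ≫ Spec.map (CommRingCat.ofHom ρ)) :=
    MorphismProperty.of_postcomp (W := @Etale) (W' := @IsOpenImmersion) _ θ hθ het2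
  have het4 : Etale (Spec.map (CommRingCat.ofHom ρ)) :=
    (MorphismProperty.cancel_left_of_respectsIso (P := @Etale) hW₀'.isoSpec.hom _).1 het3
  exact (HasRingHomProperty.Spec_iff (P := @Etale)).1 het4

end Groth.Agent.H9.KumFS
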