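import Mathlib
set_option autoImplicit false
open CategoryTheory CategoryTheory.Limits AlgebraicGeometry Opposite
universe u

namespace Groth.Agent.H9.NCTop

/-- If `v` lies in the closure of `D(f)`, then the germ of `f` at `v` is nonzero. -/
theorem germ_ne_zero_of_mem_closure {V : Scheme.{u}} {V0 : V.Opens} (v : V) (hv : v ∈ V0)
    (f : Γ(V, V0)) (hcl : v ∈ closure ((V.basicOpen f : V.Opens) : Set V)) :
    V.presheaf.germ V0 v hv f ≠ 0 := by
  intro h0
  have h0' : V.presheaf.germ V0 v hv f = V.presheaf.germ V0 v hv 0 := by rw [h0, map_zero]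
  obtain ⟨N, hvN, iU, iV, e⟩ := TopCat.Presheaf.germ_eq V.presheaf v hv hv f 0 h0'
  rw [map_zero] at e
  have hb : N ⊓ V.basicOpen f = ⊥ := by
    rw [← Scheme.basicOpen_res V f iU.op, e, Scheme.basicOpen_zero]
  obtain ⟨y, hyN, hyf⟩ := mem_closure_iff.1 hcl N N.2 hvN
  have : y ∈ (N ⊓ V.basicOpen f : V.Opens) := ⟨hyN, hyf⟩
  rw [hb] at this
  exact this

/-- A compact open inside an affine open whose closure contains `v` contains a basic open
whose closure contains `v`. -/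
theorem exists_basicOpen_mem_closure {V : Scheme.{u}} {V0 : V.Opens} (hV0 : IsAffineOpen V0)
    (v : V) (E : V.Opens) (hE : IsCompact (E : Set V)) (hle : E ≤ V0)
    (h : v ∈ closure (E : Set V)) :
    ∃ f : Γ(V, V0), V.basicOpen f ≤ E ∧ v ∈ closure ((V.basicOpen f : V.Opens) : Set V) := by
  classical
  have h1 : ∀ x : E, ∃ f : Γ(V, V0), V.basicOpen f ≤ E ∧ (x : V) ∈ V.basicOpen f :=
    fun x => hV0.exists_basicOpen_le x (hle x.2)
  choose f hfE hxf using h1
  obtain ⟨t, ht⟩ := hE.elim_finite_subcover (fun x : E => ((V.basicOpen (f x) : V.Opens) : Set V))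
    (fun x => (V.basicOpen (f x)).2) (fun y hy => Set.mem_iUnion.2 ⟨⟨y, hy⟩, hxf ⟨y, hy⟩⟩)
  have h2 : v ∈ closure (⋃ x ∈ t, ((V.basicOpen (f x) : V.Opens) : Set V)) :=
    closure_mono ht h
  rw [Finset.closure_biUnion] at h2
  obtain ⟨x, hx⟩ := Set.mem_iUnion.1 h2
  obtain ⟨_, hx'⟩ := Set.mem_iUnion.1 hx
  exact ⟨f x, hfE x, hx'⟩

/-- Two compact opens in an affine open, both having `v` in their closure, meet, provided
the stalk at `v` is a domain. -/
theorem inter_nonempty_of_mem_closure {V : Scheme.{u}} {V0 : V.Opens} (hV0 : IsAffineOpen V0)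
    (v : V) (hv : v ∈ V0) [IsDomain (V.presheaf.stalk v)] (E E' : V.Opens)
    (hE : IsCompact (E : Set V)) (hE' : IsCompact (E' : Set V))
    (hle : E ≤ V0) (hle' : E' ≤ V0) (h : v ∈ closure (E : Set V))
    (h' : v ∈ closure (E' : Set V)) :
    ((E : Set V) ∩ (E' : Set V)).Nonempty := by
  obtain ⟨f, hfE, hf⟩ := exists_basicOpen_mem_closure hV0 v E hE hle h
  obtain ⟨f', hfE', hf'⟩ := exists_basicOpen_mem_closure hV0 v E' hE' hle' h'
  have g1 := germ_ne_zero_of_mem_closure v hv f hf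
  have g2 := germ_ne_zero_of_mem_closure v hv f' hf'
  have g3 : V.presheaf.germ V0 v hv (f * f') ≠ 0 := by
    rw [map_mul]; exact mul_ne_zero g1 g2
  have hne : V.basicOpen (f * f') ≠ ⊥ := by
    intro hbot
    have hnil : IsNilpotent (f * f') :=
      (Scheme.isNilpotent_iff_basicOpen_eq_bot_of_isCompact hV0.isCompact (f * f')).2 hbot
    have hnil' : IsNilpotent (V.presheaf.germ V0 v hv (f * f')) := hnil.map _
    exact g3 hnil'.eq_zero
  rw [Scheme.basicOpen_mul] at hne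
  obtain ⟨y, hy⟩ : ((V.basicOpen f ⊓ V.basicOpen f' : V.Opens) : Set V).Nonempty := by
    rw [Set.nonempty_iff_ne_empty]
    intro hempty
    apply hne
    ext1
    simpa using hempty
  exact ⟨y, hfE hy.1, hfE' hy.2⟩

/-- (TOP) -/
theorem exists_nbhd_const {V W : Scheme.{u}} (p : W ⟶ V) [IsOpenImmersion p] [QuasiCompact p]
    (hd : Dense (Set.range p.base)) (hdom : ∀ y : V, IsDomain (V.presheaf.stalk y))
    {S : Type*} (ax : W → S) (hax : IsLocallyConstant ax) (v : V) :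
    ∃ (O : V.Opens) (a : S), v ∈ O ∧ ∀ w : W, p.base w ∈ O → ax w = a := by
  classical
  have := hdom v
  obtain ⟨_, ⟨V0, hV0, rfl⟩, hvV0, -⟩ :=
    (V.isBasis_affineOpens).exists_subset_of_mem_open (Set.mem_univ v) isOpen_univ
  have hV0' : IsAffineOpen V0 := hV0
  have hW0 : IsCompact (p.base ⁻¹' (V0 : Set V)) :=
    QuasiCompact.isCompact_preimage (f := p) _ V0.2 hV0'.isCompact
  have hinj : Function.Injective p.base := p.isOpenEmbedding.injective
  -- the pieces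
  let E : S → Set V := fun a => p.base '' (p.base ⁻¹' (V0 : Set V) ∩ {w | ax w = a})
  have hEopen : ∀ a, IsOpen (E a) := fun a =>
    p.isOpenEmbedding.isOpenMap _ ((V0.2.preimage p.continuous).inter (hax.isOpen_fiber a))
  have hEcpt : ∀ a, IsCompact (E a) := fun a =>
    (hW0.inter_right (hax.isClosed_fiber a)).image p.continuous
  have hEle : ∀ a, E a ⊆ (V0 : Set V) := by
    rintro a _ ⟨w, ⟨hw, -⟩, rfl⟩
    exact hw
  have hEdisj : ∀ a b, (E a ∩ E b).Nonempty → a = b := by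
    rintro a b ⟨_, ⟨w, ⟨-, hwa⟩, rfl⟩, ⟨w', ⟨-, hwb⟩, hww'⟩⟩
    have : w' = w := hinj hww'
    subst this
    exact hwa.symm.trans hwb
  -- finitely many values
  obtain ⟨t, ht⟩ := hW0.elim_finite_subcover (fun a : S => {w | ax w = a})
    (fun a => hax.isOpen_fiber a) (fun w _ => Set.mem_iUnion.2 ⟨ax w, rfl⟩)
  have hcover : (V0 : Set V) ∩ Set.range p.base ⊆ ⋃ a ∈ t, E a := by
    rintro _ ⟨hy, ⟨w, rfl⟩⟩
    have hw : w ∈ p.base ⁻¹' (V0 : Set V) := hy
    obtain ⟨a, ha⟩ := Set.mem_iUnion.1 (ht hw)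
    obtain ⟨hat, hwa⟩ := Set.mem_iUnion.1 ha
    exact Set.mem_iUnion.2 ⟨a, Set.mem_iUnion.2 ⟨hat, ⟨w, ⟨hw, hwa⟩, rfl⟩⟩⟩
  have hvcl : v ∈ closure ((V0 : Set V) ∩ Set.range p.base) :=
    V0.2.inter_closure ⟨hvV0, hd v⟩
  have hvcl2 : v ∈ closure (⋃ a ∈ t, E a) := closure_mono hcover hvcl
  rw [Finset.closure_biUnion] at hvcl2
  obtain ⟨a, ha⟩ := Set.mem_iUnion.1 hvcl2
  obtain ⟨hat, hva⟩ := Set.mem_iUnion.1 ha
  -- uniqueness
  have huniq : ∀ b, v ∈ closure (E b) → b = a := by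
    intro b hvb
    have := inter_nonempty_of_mem_closure hV0' v hvV0 ⟨E a, hEopen a⟩ ⟨E b, hEopen b⟩
      (hEcpt a) (hEcpt b) (hEle a) (hEle b) hva hvb
    exact (hEdisj a b this).symm
  -- the neighbourhood
  have hOopen : IsOpen ((V0 : Set V) ∩ ⋂ b ∈ t.erase a, (closure (E b))ᶜ) :=
    V0.2.inter (isOpen_biInter_finset (fun b _ => isClosed_closure.isOpen_compl))
  refine ⟨⟨_, hOopen⟩, a, ⟨hvV0, ?_⟩, ?_⟩
  · refine Set.mem_iInter₂.2 (fun b hb hvb => ?_)
    exact (Finset.mem_erase.1 hb).1 (huniq b hvb)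
  · rintro w ⟨hwV0, hw2⟩
    have hw : w ∈ p.base ⁻¹' (V0 : Set V) := hwV0
    obtain ⟨b, hb⟩ := Set.mem_iUnion.1 (ht hw)
    obtain ⟨hbt, hwb⟩ := Set.mem_iUnion.1 hb
    have hwb' : ax w = b := hwb
    by_contra hne
    have hba : b ≠ a := fun h => hne (hwb'.trans h)
    have hmem : b ∈ t.erase a := Finset.mem_erase.2 ⟨hba, hbt⟩
    have := Set.mem_iInter₂.1 hw2 b hmem
    exact this (subset_closure ⟨w, ⟨hw, hwb⟩, rfl⟩)

end Groth.Agent.H9.NCTop
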