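import Mathlib
import Groth.Prelude.Def_FlatCA
set_option autoImplicit false
universe u
open CategoryTheory AlgebraicGeometry

namespace Groth.Agent.H9.NilLim

/-- (P4) every compact subset of a scheme is contained in a compact open. -/
theorem exists_compact_open (T : Scheme.{u}) (K : Set T) (hK : IsCompact K) :
    ∃ U : T.Opens, IsCompact (U : Set T) ∧ K ⊆ (U : Set T) := by
  classical
  -- for each point of K choose an affine open neighbourhood
  have h1 : ∀ x : T, ∃ V : T.Opens, IsAffineOpen V ∧ x ∈ V := by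
    intro x
    obtain ⟨V, hV, hxV, -⟩ :=
      (T.isBasis_affineOpens).exists_subset_of_mem_open (Set.mem_univ x) isOpen_univ
    obtain ⟨V', hV', rfl⟩ := hV
    exact ⟨V', hV', hxV⟩
  choose V hV hxV using h1
  obtain ⟨t, ht⟩ := hK.elim_finite_subcover (fun x : T => ((V x : T.Opens) : Set T))
    (fun x => (V x).2) (fun x _ => Set.mem_iUnion.2 ⟨x, hxV x⟩)
  refine ⟨⨆ x ∈ t, V x, ?_, ?_⟩
  · have : (( (⨆ x ∈ t, V x : T.Opens)) : Set T) = ⋃ x ∈ t, ((V x : T.Opens) : Set T) := by
      simp
    rw [this]
    exact t.isCompact_biUnion (fun x _ => (hV x).isCompact)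
  · intro y hy
    have := ht hy
    simpa using this

end Groth.Agent.H9.NilLim
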