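import Mathlib
import Groth.Prelude.Def_QCohCat
import Groth.Prelude.Def_Coh
import Groth.Agent.H22.QCohLimits
import Groth.Agent.H11.FPExt_Q4
import Groth.Agent.H8.CohKerCoker
set_option autoImplicit false
set_option linter.style.haveILetI false
universe u
open CategoryTheory CategoryTheory.Limits AlgebraicGeometry TopologicalSpace Opposite

namespace Groth.Agent.H9.NoethObj

/-- (N2a) -/
theorem exists_sup {Y : Scheme.{u}} (M : Y.Modules) [M.IsQuasicoherent] {N₁ N₂ : Y.Modules}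
    (i₁ : N₁ ⟶ M) (i₂ : N₂ ⟶ M) [Mono i₁] [Mono i₂] (h₁ : Coh.IsCoh N₁) (h₂ : Coh.IsCoh N₂) :
    ∃ (N : Y.Modules) (i : N ⟶ M) (j₁ : N₁ ⟶ N) (j₂ : N₂ ⟶ N),
      Mono i ∧ Coh.IsCoh N ∧ j₁ ≫ i = i₁ ∧ j₂ ≫ i = i₂ := by
  haveI : N₁.IsQuasicoherent := h₁.1
  haveI : N₂.IsQuasicoherent := h₂.1
  haveI hb : (N₁ ⊞ N₂).IsQuasicoherent :=
    Groth.Agent.H22.QCohLimits.isQuasicoherent_biprod N₁ N₂
  have hqf : Groth.Agent.H11.FPExt_Q4.QF (N₁ ⊞ N₂) :=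
    Groth.Agent.H11.FPExt_Q4.qf_biprod N₁ N₂
      ((Groth.Agent.H11.FPExt_Q4.qf_iff N₁).2 ⟨h₁.1, h₁.2⟩)
      ((Groth.Agent.H11.FPExt_Q4.qf_iff N₂).2 ⟨h₂.1, h₂.2⟩)
  haveI hft : SheafOfModules.IsFiniteType (R := Y.ringCatSheaf) (N₁ ⊞ N₂) :=
    ((Groth.Agent.H11.FPExt_Q4.qf_iff _).1 hqf).2
  obtain ⟨d, hd⟩ : ∃ d : N₁ ⊞ N₂ ⟶ M, d = biprod.desc i₁ i₂ := ⟨_, rfl⟩
  haveI : (cokernel d).IsQuasicoherent := Groth.Agent.H8.isQuasicoherent_cokernel d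
  haveI hq : (Abelian.image d).IsQuasicoherent :=
    Groth.Agent.H22.QCohLimits.isQuasicoherent_kernel (cokernel.π d)
  haveI hepi : Epi (Abelian.factorThruImage d) := inferInstance
  have hftN : SheafOfModules.IsFiniteType (R := Y.ringCatSheaf) (Abelian.image d) :=
    @Groth.Agent.H8.isFiniteType_of_epi _ _ _ (Abelian.factorThruImage d) hepi hft
  refine ⟨Abelian.image d, Abelian.image.ι d, biprod.inl ≫ Abelian.factorThruImage d,
    biprod.inr ≫ Abelian.factorThruImage d, inferInstance, ⟨hq, hftN⟩, ?_, ?_⟩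
  · rw [Category.assoc, Abelian.image.fac, hd, biprod.inl_desc]
  · rw [Category.assoc, Abelian.image.fac, hd, biprod.inr_desc]

end Groth.Agent.H9.NoethObj
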