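import Groth.Agent.S3447
import Groth.Agent.H25.DimLocal
import Groth.Agent.H9.FiberStalk

/-!
# Dimension of quotients along local homomorphisms

For a local homomorphism `ψ : A → B` of Noetherian local rings and a proper ideal `I` of `A`:
* `ringKrullDim_quot_le_of_flat`: if `ψ` is flat then `dim A/I ≤ dim B/IB`;
* `ringKrullDim_quot_map_le`: if `dim B/m_A B ≤ 0` then `dim B/IB ≤ dim A/I`.
Scheme side:
* `exists_point_ringKrullDim_stalk_eq_zero`: a nonempty scheme has a point with zero-dimensional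
  local ring;
* `exists_point_fiber_dim_zero`: a point in the image of `g` has a preimage at which the local ring
  of the fibre has dimension zero.
-/

set_option autoImplicit false
set_option linter.style.haveILetI false
universe u

open CategoryTheory CategoryTheory.Limits AlgebraicGeometry TopologicalSpace IsLocalRing

namespace Groth.Agent.H9.QuotDim

section Algebra

variable {A B : Type u} [CommRing A] [CommRing B] [IsLocalRing A] [IsLocalRing B]

theorem isLocalRing_quot (I : Ideal A) (hI : I ≤ maximalIdeal A) : IsLocalRing (A ⧸ I) := by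
  haveI : Nontrivial (A ⧸ I) := Ideal.Quotient.nontrivial_iff.mpr
    (ne_top_of_le_ne_top (maximalIdeal.isMaximal A).ne_top hI)
  exact IsLocalRing.of_surjective' (Ideal.Quotient.mk I) Ideal.Quotient.mk_surjective

theorem map_le_maximalIdeal (ψ : A →+* B) [IsLocalHom ψ] (I : Ideal A) (hI : I ≤ maximalIdeal A) :
    I.map ψ ≤ maximalIdeal B :=
  (Ideal.map_mono hI).trans (Ideal.map_le_iff_le_comap.mpr (maximalIdeal_comap ψ).ge)

theorem isLocalHom_quotientMap (ψ : A →+* B) [IsLocalHom ψ] (I : Ideal A)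
    (hI : I ≤ maximalIdeal A) :
    IsLocalHom (Ideal.quotientMap (I.map ψ) ψ Ideal.le_comap_map) := by
  haveI := isLocalRing_quot I hI
  haveI := isLocalRing_quot (I.map ψ) (map_le_maximalIdeal ψ I hI)
  constructor
  intro x hx
  obtain ⟨a, rfl⟩ := Ideal.Quotient.mk_surjective x
  rw [Ideal.quotientMap_mk] at hx
  have h1 : IsUnit (ψ a) := by
    by_contra hnu
    have hmem : ψ a ∈ maximalIdeal B := (mem_maximalIdeal _).mpr hnu
    have : (Ideal.Quotient.mk (I.map ψ)) (ψ a) ∈ maximalIdeal (B ⧸ I.map ψ) := by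
      rw [← IsLocalRing.map_maximalIdeal_of_surjective _ Ideal.Quotient.mk_surjective]
      exact Ideal.mem_map_of_mem _ hmem
    exact (mem_maximalIdeal _).mp this hx
  exact (isUnit_of_map_unit ψ a h1).map _

variable [IsNoetherianRing A] [IsNoetherianRing B]

/-- Flat local homomorphisms do not decrease the dimension of quotients. -/
theorem ringKrullDim_quot_le_of_flat (ψ : A →+* B) [IsLocalHom ψ] (hψ : ψ.Flat) (I : Ideal A)
    (hI : I ≤ maximalIdeal A) : ringKrullDim (A ⧸ I) ≤ ringKrullDim (B ⧸ I.map ψ) := by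
  haveI := isLocalRing_quot I hI
  haveI := isLocalRing_quot (I.map ψ) (map_le_maximalIdeal ψ I hI)
  haveI := isLocalHom_quotientMap ψ I hI
  refine Groth.Agent.H25.DimLocal.ringKrullDim_le_of_flat
    (Ideal.quotientMap (I.map ψ) ψ Ideal.le_comap_map) ?_
  algebraize [ψ]
  have hflat : Module.Flat (A ⧸ I) (B ⧸ I.map (algebraMap A B)) :=
    Module.Flat.of_linearEquiv
      (Algebra.TensorProduct.quotIdealMapEquivQuotTensor B I).toLinearEquiv
  have heq : Ideal.quotientMap (I.map ψ) ψ Ideal.le_comap_map =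
      algebraMap (A ⧸ I) (B ⧸ I.map (algebraMap A B)) := by
    ext a
    rfl
  rw [heq]
  exact (RingHom.flat_algebraMap_iff (R := A ⧸ I) (S := B ⧸ I.map (algebraMap A B))).mpr hflat

/-- If the fibre ring `B/m_A B` is zero-dimensional then `dim B/IB ≤ dim A/I`. -/
theorem ringKrullDim_quot_map_le (ψ : A →+* B) [IsLocalHom ψ] (I : Ideal A)
    (hI : I ≤ maximalIdeal A)
    (h0 : ringKrullDim (B ⧸ (maximalIdeal A).map ψ) ≤ 0) :
    ringKrullDim (B ⧸ I.map ψ) ≤ ringKrullDim (A ⧸ I) := by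
  haveI := isLocalRing_quot I hI
  haveI := isLocalRing_quot (I.map ψ) (map_le_maximalIdeal ψ I hI)
  haveI := isLocalHom_quotientMap ψ I hI
  have h1 := Groth.Agent.S3447.dim_le (Ideal.quotientMap (I.map ψ) ψ Ideal.le_comap_map)
  have hm : (maximalIdeal (A ⧸ I)).map (Ideal.quotientMap (I.map ψ) ψ Ideal.le_comap_map) =
      ((maximalIdeal A).map ψ).map (Ideal.Quotient.mk (I.map ψ)) := by
    rw [← IsLocalRing.map_maximalIdeal_of_surjective (Ideal.Quotient.mk I)
      Ideal.Quotient.mk_surjective, Ideal.map_map, Ideal.map_map]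
    congr 1
  have hsup : I.map ψ ⊔ (maximalIdeal A).map ψ = (maximalIdeal A).map ψ :=
    sup_eq_right.mpr (Ideal.map_mono hI)
  have e : ((B ⧸ I.map ψ) ⧸
      (maximalIdeal (A ⧸ I)).map (Ideal.quotientMap (I.map ψ) ψ Ideal.le_comap_map)) ≃+*
      (B ⧸ (maximalIdeal A).map ψ) :=
    (Ideal.quotEquivOfEq hm).trans
      ((DoubleQuot.quotQuotEquivQuotSup (I.map ψ) ((maximalIdeal A).map ψ)).trans
        (Ideal.quotEquivOfEq hsup))
  rw [ringKrullDim_eq_of_ringEquiv e] at h1
  calc ringKrullDim (B ⧸ I.map ψ) ≤ ringKrullDim (A ⧸ I) + ringKrullDim (B ⧸ (maximalIdeal A).map ψ) := h1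
    _ ≤ ringKrullDim (A ⧸ I) + 0 := by gcongr
    _ = ringKrullDim (A ⧸ I) := add_zero _

end Algebra

section Scheme

/-- A nonempty scheme has a point whose local ring is zero-dimensional. -/
theorem exists_point_ringKrullDim_stalk_eq_zero (Z : Scheme.{u}) [Nonempty Z] :
    ∃ z : Z, ringKrullDim (Z.presheaf.stalk z) = 0 := by
  obtain ⟨z₀⟩ := ‹Nonempty Z›
  obtain ⟨U, hU, hz₀, -⟩ := exists_isAffineOpen_mem_and_subset (x := z₀) (U := (⊤ : Z.Opens)) trivial
  haveI : Nontrivial Γ(Z, U) := by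
    have : Nonempty (U : Set Z) := ⟨⟨z₀, hz₀⟩⟩
    have : Nonempty U.toScheme := ⟨⟨z₀, hz₀⟩⟩
    exact (inferInstance : Nontrivial Γ(Z, U))
  obtain ⟨⟨p, hp⟩⟩ := Ideal.nonempty_minimalPrimes (I := (⊥ : Ideal Γ(Z, U))) bot_ne_top
  haveI : p.IsPrime := hp.1.1
  let Q : PrimeSpectrum Γ(Z, U) := ⟨p, inferInstance⟩
  have hQU : hU.fromSpec Q ∈ U := by
    have : hU.fromSpec Q ∈ Set.range hU.fromSpec := Set.mem_range_self Q
    rwa [hU.range_fromSpec] at this
  refine ⟨hU.fromSpec Q, ?_⟩
  letI algZ : Algebra Γ(Z, U) (Z.presheaf.stalk (hU.fromSpec Q)) :=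
    TopCat.Presheaf.algebra_section_stalk Z.presheaf ⟨hU.fromSpec Q, hQU⟩
  haveI hloc : IsLocalization.AtPrime (Z.presheaf.stalk (hU.fromSpec Q)) Q.asIdeal :=
    hU.isLocalization_stalk' Q hQU
  rw [IsLocalization.AtPrime.ringKrullDim_eq_height Q.asIdeal
    (Z.presheaf.stalk (hU.fromSpec Q))]
  have : Q.asIdeal.height = 0 := Ideal.height_eq_zero_iff.mpr hp
  rw [this]
  rfl

/-- A point in the image of `g` has a preimage at which the fibre of `g` is zero-dimensional. -/
theorem exists_point_fiber_dim_zero {X' X : Scheme.{u}} (g : X' ⟶ X) (y : X)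
    (hy : y ∈ Set.range g.base) :
    ∃ y' : X', g.base y' = y ∧
      ringKrullDim (X'.presheaf.stalk y' ⧸ Ideal.map (g.stalkMap y').hom
        (maximalIdeal (X.presheaf.stalk (g.base y')))) = 0 := by
  haveI : Nonempty (g.fiber y) := by
    obtain ⟨x₀, hx₀⟩ := hy
    have : x₀ ∈ Set.range (g.fiberι y) := by
      rw [Scheme.Hom.range_fiberι]
      exact hx₀
    obtain ⟨z, -⟩ := this
    exact ⟨z⟩
  obtain ⟨z, hz⟩ := exists_point_ringKrullDim_stalk_eq_zero (g.fiber y)
  refine ⟨(g.fiberι y).base z, ?_, ?_⟩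
  · have : (g.fiberι y).base z ∈ Set.range (g.fiberι y) := ⟨z, rfl⟩
    rw [Scheme.Hom.range_fiberι] at this
    exact this
  · rw [ringKrullDim_eq_of_ringEquiv (Groth.Agent.H9.fiberStalkEquiv g y z)]
    exact hz

end Scheme

end Groth.Agent.H9.QuotDim
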