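import Groth.Agent.H9.RegSpread
import Groth.Agent.H9.RegImm
import Mathlib.RingTheory.Nakayama
import Mathlib.RingTheory.LocalRing.RingHom.Basic
import Mathlib.RingTheory.Ideal.Quotient.Operations

/-!
# Regular sequences in Noetherian local rings: two out of three

For ideals `J ≤ K` of a Noetherian local ring `A`: if `K` is generated by a regular sequence and
`K/J` is generated by a regular sequence of `A/J`, then `J` is generated by a regular sequence.
-/

set_option autoImplicit false
universe u

open RingTheory.Sequence IsLocalRing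

namespace Groth.Agent.H9

theorem isWeaklyRegular_append_singleton_iff {A : Type*} [CommRing A] (L : List A) (r : A) :
    IsWeaklyRegular A (L ++ [r]) ↔
      IsWeaklyRegular A L ∧ ∀ b, r * b ∈ Ideal.ofList L → b ∈ Ideal.ofList L := by
  rw [isWeaklyRegular_ring_iff, isWeaklyRegular_ring_iff]
  constructor
  · intro h
    refine ⟨fun i hi a ha => ?_, fun b hb => ?_⟩
    · have hi2 : i < (L ++ [r]).length := by simp; omega
      have h' := h i hi2 a
      rw [List.getElem_append_left hi, List.take_append_of_le_length hi.le] at h'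
      exact h' ha
    · have hi2 : L.length < (L ++ [r]).length := by simp
      have h' := h L.length hi2 b
      simp only [List.getElem_concat_length, List.take_left'] at h'
      exact h' hb
  · rintro ⟨h1, h2⟩ i hi a ha
    have hi' : i < L.length + 1 := by simpa using hi
    rcases Nat.lt_succ_iff_lt_or_eq.mp hi' with hlt | heq
    · rw [List.getElem_append_left hlt, List.take_append_of_le_length hlt.le] at ha
      rw [List.take_append_of_le_length hlt.le]
      exact h1 i hlt a ha
    · subst heq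
      simp only [List.getElem_concat_length, List.take_left'] at ha ⊢
      exact h2 a ha

/-- Regular sequences and surjections whose kernel is generated by an initial segment. -/
theorem isWeaklyRegular_append_iff_of_surjective {A B : Type*} [CommRing A] [CommRing B]
    (φ : A →+* B) (hφ : Function.Surjective φ) (rs ts : List A)
    (hker : RingHom.ker φ = Ideal.ofList rs) :
    IsWeaklyRegular A (rs ++ ts) ↔ IsWeaklyRegular A rs ∧ IsWeaklyRegular B (ts.map φ) := by
  rw [isWeaklyRegular_append_iff]
  refine and_congr_right fun _ => ?_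
  algebraize [φ]
  have h1 : IsWeaklyRegular B (ts.map φ) ↔ IsWeaklyRegular B ts :=
    isWeaklyRegular_map_algebraMap_iff B B ts
  rw [h1]
  have hEq : (Ideal.ofList rs • ⊤ : Submodule A A) =
      LinearMap.ker (Algebra.linearMap A B) := by
    rw [smul_eq_mul, Ideal.mul_top, ← hker]
    ext a
    rw [RingHom.mem_ker, LinearMap.mem_ker]
    rfl
  exact ((Submodule.quotEquivOfEq _ _ hEq).trans
    ((Algebra.linearMap A B).quotKerEquivOfSurjective hφ)).isWeaklyRegular_congr ts

theorem isWeaklyRegular_cons_iff_quotient {A : Type*} [CommRing A] (y : A) (ts : List A) :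
    IsWeaklyRegular A (y :: ts) ↔ IsWeaklyRegular A [y] ∧
      IsWeaklyRegular (A ⧸ Ideal.span {y}) (ts.map (Ideal.Quotient.mk (Ideal.span {y}))) := by
  have := isWeaklyRegular_append_iff_of_surjective (Ideal.Quotient.mk (Ideal.span {y}))
    Ideal.Quotient.mk_surjective [y] ts (by rw [Ideal.mk_ker, Ideal.ofList_singleton])
  simpa using this

theorem exists_split_unit {A : Type*} [CommRing A] [IsLocalRing A] :
    ∀ (ks : List A) (y : A), y ∈ Ideal.ofList ks → y ∉ maximalIdeal A * Ideal.ofList ks →
      ∃ (l₁ l₂ : List A) (k a : A), ks = l₁ ++ k :: l₂ ∧ IsUnit a ∧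
        y - a * k ∈ Ideal.ofList (l₁ ++ l₂) := by
  intro ks
  induction ks with
  | nil =>
    intro y hy hy'
    rw [Ideal.ofList_nil, Ideal.mem_bot] at hy
    exact absurd (hy ▸ zero_mem _) hy'
  | cons k ks₀ ih =>
    intro y hy hy'
    rw [Ideal.ofList_cons, Ideal.mem_span_singleton_sup] at hy
    obtain ⟨a, y₀, hy₀, rfl⟩ := hy
    by_cases ha : IsUnit a
    · exact ⟨[], ks₀, k, a, rfl, ha, by simpa using hy₀⟩
    · have ham : a ∈ maximalIdeal A := (mem_maximalIdeal a).2 ha
      have hy₀' : y₀ ∉ maximalIdeal A * Ideal.ofList ks₀ := by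
        intro h
        apply hy'
        refine Ideal.add_mem _ ?_ ?_
        · exact Ideal.mul_mem_mul ham (Ideal.subset_span (by simp))
        · exact (Ideal.mul_mono_right (by rw [Ideal.ofList_cons]; exact le_sup_right)) h
      obtain ⟨l₁, l₂, k', a', hks, ha', hmem⟩ := ih y₀ hy₀ hy₀'
      refine ⟨k :: l₁, l₂, k', a', by rw [hks]; rfl, ha', ?_⟩
      rw [List.cons_append, Ideal.ofList_cons]
      have : a * k + y₀ - a' * k' = a * k + (y₀ - a' * k') := by ring
      rw [this]
      exact Ideal.add_mem _ (Ideal.mul_mem_left _ _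
        (Ideal.mem_sup_left (Ideal.mem_span_singleton_self k))) (Ideal.mem_sup_right hmem)

/-- In a Noetherian local ring, an element of an ideal generated by a regular sequence which is not
in `𝔪` times the ideal can be taken as the first element of a generating regular sequence. -/
theorem exists_cons_isRegular {A : Type*} [CommRing A] [IsLocalRing A] [IsNoetherianRing A]
    (ks : List A) (hks : IsRegular A ks) (y : A) (hy : y ∈ Ideal.ofList ks)
    (hy' : y ∉ maximalIdeal A * Ideal.ofList ks) :
    ∃ ks' : List A, IsRegular A (y :: ks') ∧ Ideal.ofList (y :: ks') = Ideal.ofList ks := by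
  obtain ⟨l₁, l₂, k, a, rfl, ha, hmem⟩ := exists_split_unit ks y hy hy'
  have hperm : (l₁ ++ k :: l₂).Perm ((l₁ ++ l₂) ++ [k]) :=
    List.perm_middle.trans (List.perm_append_singleton k (l₁ ++ l₂)).symm
  have h1 : IsRegular A ((l₁ ++ l₂) ++ [k]) := IsLocalRing.isRegular_of_perm hks hperm
  have h1w := (isWeaklyRegular_append_singleton_iff _ _).1 h1.toIsWeaklyRegular
  have hK : Ideal.ofList (l₁ ++ k :: l₂) = Ideal.ofList (l₁ ++ l₂) ⊔ Ideal.span {k} := by
    rw [Ideal.ofList_append, Ideal.ofList_cons, Ideal.ofList_append]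
    ac_rfl
  have hspan : Ideal.ofList (l₁ ++ l₂) ⊔ Ideal.span {y} =
      Ideal.ofList (l₁ ++ l₂) ⊔ Ideal.span {k} := by
    apply le_antisymm
    · refine sup_le le_sup_left ?_
      rw [Ideal.span_singleton_le_iff_mem]
      have : y = a * k + (y - a * k) := by ring
      rw [this]
      exact Ideal.add_mem _ (Ideal.mem_sup_right (Ideal.mul_mem_left _ _
        (Ideal.mem_span_singleton_self k))) (Ideal.mem_sup_left hmem)
    · refine sup_le le_sup_left ?_
      rw [Ideal.span_singleton_le_iff_mem]
      obtain ⟨u, rfl⟩ := ha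
      have hu : (↑u⁻¹ : A) * ↑u = 1 := Units.inv_mul u
      have : k = ↑u⁻¹ * y - ↑u⁻¹ * (y - ↑u * k) := by
        linear_combination (-k) * hu
      rw [this]
      exact Ideal.sub_mem _ (Ideal.mem_sup_right (Ideal.mul_mem_left _ _
        (Ideal.mem_span_singleton_self y))) (Ideal.mem_sup_left (Ideal.mul_mem_left _ _ hmem))
  have h2w : IsWeaklyRegular A ((l₁ ++ l₂) ++ [y]) := by
    rw [isWeaklyRegular_append_singleton_iff]
    refine ⟨h1w.1, fun b hb => ?_⟩
    have h3 : k * (a * b) ∈ Ideal.ofList (l₁ ++ l₂) := by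
      have : k * (a * b) = y * b - (y - a * k) * b := by ring
      rw [this]
      exact Ideal.sub_mem _ hb (Ideal.mul_mem_right _ _ hmem)
    have h4 := h1w.2 (a * b) h3
    exact (Ideal.unit_mul_mem_iff_mem _ ha).1 h4
  have h2top : Ideal.ofList ((l₁ ++ l₂) ++ [y]) ≠ ⊤ := by
    rw [Ideal.ofList_append, Ideal.ofList_singleton, hspan, ← hK]
    exact ((isRegular_ring_iff _).1 hks).2
  have h2 : IsRegular A ((l₁ ++ l₂) ++ [y]) := (isRegular_ring_iff _).2 ⟨h2w, h2top⟩
  refine ⟨l₁ ++ l₂, IsLocalRing.isRegular_of_perm h2 (List.perm_append_singleton y (l₁ ++ l₂)), ?_⟩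
  rw [Ideal.ofList_cons, sup_comm, hspan, ← hK]

/-- The first element of a regular sequence in a Noetherian local ring is a minimal generator of
the ideal of the sequence. -/
theorem notMem_of_isRegular_cons {B : Type*} [CommRing B] [IsLocalRing B] [IsNoetherianRing B]
    (y : B) (ys : List B) (h : IsRegular B (y :: ys)) :
    y ∉ maximalIdeal B * Ideal.ofList (y :: ys) := by
  intro hy
  rw [Ideal.ofList_cons, Ideal.mul_sup] at hy
  obtain ⟨c, hc, i', hi', hsum⟩ := Submodule.mem_sup.1 hy
  obtain ⟨a, ha, rfl⟩ := Ideal.mem_mul_span_singleton.1 hc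
  have hi'' : i' ∈ Ideal.ofList ys := Ideal.mul_le_right hi'
  have hu : IsUnit (1 - a) := isUnit_one_sub_self_of_mem_nonunits a ((mem_maximalIdeal a).1 ha)
  have hy1 : (1 - a) * y ∈ Ideal.ofList ys := by
    have : (1 - a) * y = i' := by linear_combination (-1 : B) * hsum
    rw [this]; exact hi''
  have hyI : y ∈ Ideal.ofList ys := (Ideal.unit_mul_mem_iff_mem _ hu).1 hy1
  have hperm : IsRegular B (ys ++ [y]) :=
    IsLocalRing.isRegular_of_perm h (List.perm_append_singleton y ys).symm
  have h2 := ((isWeaklyRegular_append_singleton_iff _ _).1 hperm.toIsWeaklyRegular).2 1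
    (by rwa [mul_one])
  have htop : Ideal.ofList ys = ⊤ := (Ideal.eq_top_iff_one _).2 h2
  apply ((isRegular_ring_iff _).1 h).2
  rw [Ideal.ofList_cons, htop, sup_top_eq]

theorem map_mk_ne_top {A : Type*} [CommRing A] {J K : Ideal A} (hJK : J ≤ K) (hK : K ≠ ⊤) :
    K.map (Ideal.Quotient.mk J) ≠ ⊤ := by
  intro h
  have h2 := congrArg (Ideal.comap (Ideal.Quotient.mk J)) h
  rw [Ideal.comap_map_of_surjective _ Ideal.Quotient.mk_surjective, ← RingHom.ker_eq_comap_bot,
    Ideal.mk_ker, Ideal.comap_top, sup_eq_left.mpr hJK] at h2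
  exact hK h2

theorem comap_map_mk {A : Type*} [CommRing A] (J K : Ideal A) :
    (K.map (Ideal.Quotient.mk J)).comap (Ideal.Quotient.mk J) = K ⊔ J := by
  rw [Ideal.comap_map_of_surjective _ Ideal.Quotient.mk_surjective, ← RingHom.ker_eq_comap_bot,
    Ideal.mk_ker]

/-- Lift a list of elements of `J.map π` along a surjection `π` to a list of elements of `J`. -/
theorem exists_lift_list {A B : Type*} [CommRing A] [CommRing B] (π : A →+* B)
    (hπ : Function.Surjective π) (J : Ideal A) :
    ∀ l : List B, (∀ b ∈ l, b ∈ J.map π) → ∃ l' : List A, l'.map π = l ∧ ∀ a ∈ l', a ∈ J := by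
  intro l
  induction l with
  | nil => exact fun _ => ⟨[], rfl, by simp⟩
  | cons b l ih =>
    intro h
    obtain ⟨l', hl', hJ⟩ := ih (fun b' hb' => h b' (List.mem_cons_of_mem _ hb'))
    obtain ⟨a, haJ, hab⟩ := (Ideal.mem_map_iff_of_surjective π hπ).1 (h b List.mem_cons_self)
    refine ⟨a :: l', by rw [List.map_cons, hab, hl'], ?_⟩
    intro a' ha'
    rcases List.mem_cons.1 ha' with rfl | h'
    · exact haJ
    · exact hJ a' h'

/-- Two out of three for regular ideals in a Noetherian local ring: if `K` and `K/J` are generated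
by regular sequences, so is `J`. -/
theorem exists_isWeaklyRegular_of_quotient :
    ∀ (m : ℕ) (A : Type u) [CommRing A] [IsLocalRing A] [IsNoetherianRing A] (J K : Ideal A)
      (ks : List A) (ys : List (A ⧸ J)), ys.length = m → J ≤ K → IsRegular A ks →
      Ideal.ofList ks = K → IsRegular (A ⧸ J) ys →
      Ideal.ofList ys = K.map (Ideal.Quotient.mk J) →
      ∃ js : List A, IsWeaklyRegular A js ∧ Ideal.ofList js = J := by
  intro m
  induction m with
  | zero =>
    intro A _ _ _ J K ks ys hlen hJK hks hksK _ hysK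
    have : ys = [] := List.length_eq_zero_iff.mp hlen
    subst this
    rw [Ideal.ofList_nil, eq_comm, Ideal.map_eq_bot_iff_le_ker, Ideal.mk_ker] at hysK
    have hJ : J = K := le_antisymm hJK hysK
    exact ⟨ks, hks.toIsWeaklyRegular, hksK.trans hJ.symm⟩
  | succ m ih =>
    intro A _ _ _ J K ks ys hlen hJK hks hksK hys hysK
    obtain ⟨yb, ys', rfl⟩ : ∃ yb ys', ys = yb :: ys' := by
      cases ys with
      | nil => simp at hlen
      | cons a l => exact ⟨a, l, rfl⟩
    have hlen' : ys'.length = m := by simpa using hlen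
    have hKtop : K ≠ ⊤ := hksK ▸ ((isRegular_ring_iff _).1 hks).2
    have hKm : K ≤ maximalIdeal A := le_maximalIdeal hKtop
    have hJtop : J ≠ ⊤ := fun h => hKtop (top_le_iff.mp (h ▸ hJK))
    haveI : Nontrivial (A ⧸ J) := Ideal.Quotient.nontrivial_iff.mpr hJtop
    haveI : IsLocalRing (A ⧸ J) :=
      IsLocalRing.of_surjective' (Ideal.Quotient.mk J) Ideal.Quotient.mk_surjective
    haveI : IsLocalHom (Ideal.Quotient.mk J) :=
      IsLocalHom.of_surjective _ Ideal.Quotient.mk_surjective
    -- choose a lift `y ∈ K` of `yb`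
    have hybK : yb ∈ K.map (Ideal.Quotient.mk J) := by
      rw [← hysK]; exact Ideal.subset_span (by simp)
    obtain ⟨y, hyK, hyyb⟩ :=
      (Ideal.mem_map_iff_of_surjective _ Ideal.Quotient.mk_surjective).1 hybK
    -- `y` is a minimal generator of `K`
    have hmm : (maximalIdeal A).map (Ideal.Quotient.mk J) ≤ maximalIdeal (A ⧸ J) := by
      rw [Ideal.map_le_iff_le_comap]
      intro x hx
      rw [Ideal.mem_comap, mem_maximalIdeal, mem_nonunits_iff, isUnit_map_iff]
      exact (mem_maximalIdeal x).1 hx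
    have hy' : y ∉ maximalIdeal A * Ideal.ofList ks := by
      intro h
      rw [hksK] at h
      have h1 := Ideal.mem_map_of_mem (Ideal.Quotient.mk J) h
      rw [Ideal.map_mul, hyyb, ← hysK] at h1
      exact notMem_of_isRegular_cons yb ys' hys (Ideal.mul_mono_left hmm h1)
    obtain ⟨ks', hks', hks'K⟩ := exists_cons_isRegular ks hks y (hksK ▸ hyK) hy'
    rw [hksK] at hks'K
    -- pass to `A₁ = A / (y)`
    have hym : y ∈ maximalIdeal A := hKm hyK
    have hytop : Ideal.span {y} ≠ ⊤ := by
      rw [Ideal.ne_top_iff_one, Ideal.mem_span_singleton]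
      intro h
      exact (mem_maximalIdeal y).1 hym (isUnit_of_dvd_one h)
    haveI : Nontrivial (A ⧸ Ideal.span {y}) := Ideal.Quotient.nontrivial_iff.mpr hytop
    haveI : IsLocalRing (A ⧸ Ideal.span {y}) :=
      IsLocalRing.of_surjective' (Ideal.Quotient.mk _) Ideal.Quotient.mk_surjective
    have hyK' : Ideal.span {y} ≤ K := (Ideal.span_singleton_le_iff_mem _).mpr hyK
    have hcons := (isWeaklyRegular_cons_iff_quotient y ks').1 hks'.toIsWeaklyRegular
    have hK₁ : K.map (Ideal.Quotient.mk (Ideal.span {y})) =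
        Ideal.ofList (ks'.map (Ideal.Quotient.mk (Ideal.span {y}))) := by
      rw [← hks'K, Ideal.ofList_cons, Ideal.map_sup, Ideal.map_quotient_self, bot_sup_eq,
        Ideal.map_ofList]
    have hK₁top : K.map (Ideal.Quotient.mk (Ideal.span {y})) ≠ ⊤ := map_mk_ne_top hyK' hKtop
    have hks₁ : IsRegular (A ⧸ Ideal.span {y})
        (ks'.map (Ideal.Quotient.mk (Ideal.span {y}))) :=
      (isRegular_ring_iff _).2 ⟨hcons.2, hK₁ ▸ hK₁top⟩
    -- the induced map on quotients
    have hJJ₁ : J ≤ (J.map (Ideal.Quotient.mk (Ideal.span {y}))).comap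
        (Ideal.Quotient.mk (Ideal.span {y})) := Ideal.le_comap_map
    set ψ : A ⧸ J →+* (A ⧸ Ideal.span {y}) ⧸ J.map (Ideal.Quotient.mk (Ideal.span {y})) :=
      Ideal.quotientMap _ (Ideal.Quotient.mk (Ideal.span {y})) hJJ₁ with hψ
    have hψsurj : Function.Surjective ψ :=
      Ideal.quotientMap_surjective Ideal.Quotient.mk_surjective
    have hψmk : ∀ a : A, ψ (Ideal.Quotient.mk J a) =
        Ideal.Quotient.mk _ (Ideal.Quotient.mk (Ideal.span {y}) a) := fun a =>
      Ideal.quotientMap_mk
    have hψker : RingHom.ker ψ = Ideal.ofList [yb] := by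
      rw [Ideal.ofList_singleton]
      apply Ideal.comap_injective_of_surjective (Ideal.Quotient.mk J) Ideal.Quotient.mk_surjective
      have h1 : (Ideal.span {yb}).comap (Ideal.Quotient.mk J) = Ideal.span {y} ⊔ J := by
        rw [← hyyb, ← Set.image_singleton, ← Ideal.map_span, comap_map_mk]
      rw [h1]
      ext a
      rw [Ideal.mem_comap, RingHom.mem_ker, hψmk, Ideal.Quotient.eq_zero_iff_mem]
      change a ∈ (J.map (Ideal.Quotient.mk (Ideal.span {y}))).comap
        (Ideal.Quotient.mk (Ideal.span {y})) ↔ _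
      rw [comap_map_mk, sup_comm]
    have hys₁w : IsWeaklyRegular _ (ys'.map ψ) :=
      ((isWeaklyRegular_append_iff_of_surjective ψ hψsurj [yb] ys' hψker).1
        hys.toIsWeaklyRegular).2
    have hmapcomp : ∀ I : Ideal A, (I.map (Ideal.Quotient.mk J)).map ψ =
        (I.map (Ideal.Quotient.mk (Ideal.span {y}))).map (Ideal.Quotient.mk _) := by
      intro I
      rw [Ideal.map_map, Ideal.map_map]
      congr 1
    have hys₁K : Ideal.ofList (ys'.map ψ) =
        (K.map (Ideal.Quotient.mk (Ideal.span {y}))).map (Ideal.Quotient.mk _) := by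
      rw [← hmapcomp, ← hysK, Ideal.ofList_cons, Ideal.map_sup, Ideal.map_ofList]
      have : (Ideal.span {yb}).map ψ = ⊥ := by
        rw [Ideal.map_eq_bot_iff_le_ker, hψker, Ideal.ofList_singleton]
      rw [this, bot_sup_eq]
    have hJ₁K₁ : J.map (Ideal.Quotient.mk (Ideal.span {y})) ≤
        K.map (Ideal.Quotient.mk (Ideal.span {y})) := Ideal.map_mono hJK
    have hys₁ : IsRegular _ (ys'.map ψ) :=
      (isRegular_ring_iff _).2 ⟨hys₁w, hys₁K ▸ map_mk_ne_top hJ₁K₁ hK₁top⟩
    obtain ⟨js₁, hjs₁, hjs₁J⟩ := ih (A ⧸ Ideal.span {y})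
      (J.map (Ideal.Quotient.mk (Ideal.span {y}))) (K.map (Ideal.Quotient.mk (Ideal.span {y})))
      (ks'.map (Ideal.Quotient.mk (Ideal.span {y}))) (ys'.map ψ) (by simpa using hlen') hJ₁K₁
      hks₁ hK₁.symm hys₁ hys₁K
    -- pull back
    obtain ⟨js, hjsmap, hjsJ⟩ := exists_lift_list (Ideal.Quotient.mk (Ideal.span {y}))
      Ideal.Quotient.mk_surjective J js₁ (fun b hb => hjs₁J ▸ Ideal.subset_span hb)
    have hyjs : IsWeaklyRegular A (y :: js) :=
      (isWeaklyRegular_cons_iff_quotient y js).2 ⟨hcons.1, hjsmap ▸ hjs₁⟩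
    have hJ'J : Ideal.ofList js ≤ J := Ideal.span_le.2 (fun a ha => hjsJ a ha)
    have hyjstop : Ideal.ofList (y :: js) ≠ ⊤ := by
      intro h
      apply hKtop
      rw [eq_top_iff, ← h, Ideal.ofList_cons]
      exact sup_le hyK' (hJ'J.trans hJK)
    have hyjsreg : IsRegular A (y :: js) := (isRegular_ring_iff _).2 ⟨hyjs, hyjstop⟩
    have hjsy : IsRegular A (js ++ [y]) :=
      IsLocalRing.isRegular_of_perm hyjsreg (List.perm_append_singleton y js).symm
    have hjs : IsWeaklyRegular A js :=
      ((isWeaklyRegular_append_singleton_iff _ _).1 hjsy.toIsWeaklyRegular).1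
    refine ⟨js, hjs, le_antisymm hJ'J ?_⟩
    -- `J ≤ (js) + (y)` and then Nakayama
    have hsup : J ≤ Ideal.ofList js ⊔ Ideal.span {y} := by
      have h1 : J.map (Ideal.Quotient.mk (Ideal.span {y})) =
          (Ideal.ofList js).map (Ideal.Quotient.mk (Ideal.span {y})) := by
        rw [Ideal.map_ofList, hjsmap, hjs₁J]
      have h2 := congrArg (Ideal.comap (Ideal.Quotient.mk (Ideal.span {y}))) h1
      rw [comap_map_mk, comap_map_mk] at h2
      exact le_sup_left.trans (h2.le)
    have hybreg : ∀ b : A ⧸ J, yb * b = 0 → b = 0 := by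
      have h0 := (isWeaklyRegular_ring_iff _).1 hys.toIsWeaklyRegular 0 (by simp)
      intro b hb
      have := h0 b (by simpa using hb)
      simpa using this
    have hNak : J ≤ Ideal.ofList js ⊔ maximalIdeal A • J := by
      intro j hj
      obtain ⟨j', hj', c, hc, rfl⟩ := Submodule.mem_sup.1 (hsup hj)
      obtain ⟨a, rfl⟩ := Ideal.mem_span_singleton'.1 hc
      have hay : a * y ∈ J := by
        have : a * y = (j' + a * y) - j' := by ring
        rw [this]
        exact Ideal.sub_mem _ hj (hJ'J hj')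
      have haJ : a ∈ J := by
        rw [← Ideal.Quotient.eq_zero_iff_mem]
        apply hybreg
        rw [← hyyb, ← map_mul, Ideal.Quotient.eq_zero_iff_mem, mul_comm]
        exact hay
      refine Submodule.add_mem_sup hj' ?_
      rw [mul_comm]
      exact Submodule.smul_mem_smul hym haJ
    exact Submodule.le_of_le_smul_of_le_jacobson_bot (IsNoetherian.noetherian J)
      (by rw [jacobson_eq_maximalIdeal ⊥ bot_ne_top]) hNak

end Groth.Agent.H9
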