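import Mathlib

/-!
# Reduction to affine opens (helper9, piece (A) for helper58 / S6063)
-/

set_option autoImplicit false
set_option linter.style.haveILetI false
universe u
open CategoryTheory CategoryTheory.Limits AlgebraicGeometry TensorProduct Opposite

namespace Groth.Agent.H9.SD_A

theorem eq_zero_of_affine {X : Scheme.{u}} {ι : Type u} (Z : ι → Scheme.{u}) (v : ∀ i, Z i ⟶ X)
    (h : ∀ (V : X.Opens), IsAffineOpen V → ∀ t : Γ(X, V), (∀ i, (v i).app V t = 0) → t = 0) :
    ∀ (V : X.Opens) (t : Γ(X, V)), (∀ i, (v i).app V t = 0) → t = 0 := by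
  intro V t ht
  -- the affine opens inside `V`
  let 𝒰 : {U : X.Opens // IsAffineOpen U ∧ U ≤ V} → X.Opens := fun U => U.1
  have hcov : V ≤ iSup 𝒰 := by
    intro x hx
    obtain ⟨U, hU, hxU, hUV⟩ := exists_isAffineOpen_mem_and_subset (x := x) (U := V) hx
    exact TopologicalSpace.Opens.mem_iSup.mpr ⟨⟨U, hU, hUV⟩, hxU⟩
  refine TopCat.Sheaf.eq_of_locally_eq' X.sheaf 𝒰 V (fun U => homOfLE U.2.2) hcov t 0 ?_
  intro U
  rw [map_zero]
  apply h U.1 U.2.1
  intro i
  have nat := (v i).naturality (homOfLE U.2.2).op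
  have := congr($(nat) t)
  simp only [CommRingCat.comp_apply] at this
  erw [this, ht i, map_zero]

end Groth.Agent.H9.SD_A
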