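import Mathlib

/-!
# Schematic density mod a nilpotent ideal: the commutative algebra core (helper9, piece (ALG) for
helper58 / S6063)
-/

set_option autoImplicit false
set_option linter.style.haveILetI false
universe u
open CategoryTheory CategoryTheory.Limits AlgebraicGeometry TensorProduct

namespace Groth.Agent.H9.SD_ALG

section Aux

variable {A : Type u} [CommRing A] (J : Ideal A) (k : ℕ)

/-- `1 ⊗ z = 0` in `(A/J) ⊗ J^k` iff `z ∈ J^(k+1)`. -/
lemma one_tmul_eq_zero_iff (z : ↥(J ^ k)) :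
    (1 : A ⧸ J) ⊗ₜ[A] z = 0 ↔ (z : A) ∈ J ^ (k + 1) := by
  rw [← (TensorProduct.quotTensorEquivQuotSMul ↥(J ^ k) J).map_eq_zero_iff,
    TensorProduct.quotTensorEquivQuotSMul_mk_one_tmul, Submodule.Quotient.mk_eq_zero,
    Submodule.mem_smul_top_iff, smul_eq_mul, ← pow_succ']

lemma one_tmul_surjective (t : (A ⧸ J) ⊗[A] ↥(J ^ k)) :
    ∃ z : ↥(J ^ k), (1 : A ⧸ J) ⊗ₜ[A] z = t := by
  obtain ⟨z, hz⟩ := Submodule.Quotient.mk_surjective _
    (TensorProduct.quotTensorEquivQuotSMul ↥(J ^ k) J t)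
  refine ⟨z, ?_⟩
  apply (TensorProduct.quotTensorEquivQuotSMul ↥(J ^ k) J).injective
  rw [TensorProduct.quotTensorEquivQuotSMul_mk_one_tmul, hz]

lemma smul_one_tmul (a : A) (z : ↥(J ^ k)) :
    (Ideal.Quotient.mk J a) • ((1 : A ⧸ J) ⊗ₜ[A] z) = (1 : A ⧸ J) ⊗ₜ[A] (a • z) := by
  rw [TensorProduct.smul_tmul', smul_eq_mul, mul_one, TensorProduct.tmul_smul,
    TensorProduct.smul_tmul', Algebra.smul_def, mul_one]
  rfl

/-- Generation: `J^k B` is generated by the lifts of a basis modulo `J^(k+1) B`. -/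
lemma gen {B : Type u} [CommRing B] (φ : A →+* B) {ι : Type*}
    (β : Module.Basis ι (A ⧸ J) ((A ⧸ J) ⊗[A] ↥(J ^ k)))
    (e : ι → ↥(J ^ k)) (he : ∀ i, (1 : A ⧸ J) ⊗ₜ[A] e i = β i) :
    (J ^ k).map φ ≤ Ideal.span (Set.range fun i => φ (e i : A)) ⊔ (J ^ (k + 1)).map φ := by
  classical
  rw [Ideal.map_le_iff_le_comap]
  intro x hx
  let z : ↥(J ^ k) := ⟨x, hx⟩
  let t : (A ⧸ J) ⊗[A] ↥(J ^ k) := (1 : A ⧸ J) ⊗ₜ[A] z
  choose a ha using fun i => Ideal.Quotient.mk_surjective (β.repr t i)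
  let z' : ↥(J ^ k) := z - ∑ i ∈ (β.repr t).support, a i • e i
  have hz' : (1 : A ⧸ J) ⊗ₜ[A] z' = 0 := by
    have h1 : (1 : A ⧸ J) ⊗ₜ[A] (∑ i ∈ (β.repr t).support, a i • e i) = t := by
      rw [TensorProduct.tmul_sum]
      conv_rhs => rw [← β.linearCombination_repr t, Finsupp.linearCombination_apply,
        Finsupp.sum]
      refine Finset.sum_congr rfl fun i _ => ?_
      rw [← smul_one_tmul, he, ha]
    show (1 : A ⧸ J) ⊗ₜ[A] (z - ∑ i ∈ (β.repr t).support, a i • e i) = 0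
    rw [TensorProduct.tmul_sub, h1, sub_self]
  have h2 := (one_tmul_eq_zero_iff J k z').mp hz'
  have hx' : x = ∑ i ∈ (β.repr t).support, a i * (e i : A) + (z' : A) := by
    simp [z', z]
  show φ x ∈ Ideal.span (Set.range fun i => φ (e i : A)) ⊔ (J ^ (k + 1)).map φ
  rw [hx', map_add, map_sum]
  refine Ideal.add_mem _ (Ideal.sum_mem _ fun i _ => ?_) ?_
  · rw [map_mul]
    exact Ideal.mem_sup_left (Ideal.mul_mem_left _ _ (Ideal.subset_span ⟨i, rfl⟩))
  · exact Ideal.mem_sup_right (Ideal.mem_map_of_mem _ h2)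

/-- Independence in a flat algebra. -/
lemma ind (C : Type u) [CommRing C] [Algebra A C] [Module.Flat A C] {ι : Type*}
    (β : Module.Basis ι (A ⧸ J) ((A ⧸ J) ⊗[A] ↥(J ^ k))) (e : ι → ↥(J ^ k))
    (he : ∀ i, (1 : A ⧸ J) ⊗ₜ[A] e i = β i) (s : Finset ι) (c : ι → C)
    (h : ∑ i ∈ s, algebraMap A C (e i : A) * c i ∈ (J ^ (k + 1)).map (algebraMap A C)) :
    ∀ i ∈ s, c i ∈ J.map (algebraMap A C) := by
  classical
  let μ : ↥(J ^ k) ⊗[A] C →ₗ[A] C :=
    (TensorProduct.lid A C).toLinearMap ∘ₗ (J ^ k).subtype.rTensor C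
  have hμ : Function.Injective μ :=
    (TensorProduct.lid A C).injective.comp
      (Module.Flat.rTensor_preserves_injective_linearMap _ Subtype.val_injective)
  have hμ_tmul : ∀ (x : ↥(J ^ k)) (c' : C), μ (x ⊗ₜ[A] c') = algebraMap A C (x : A) * c' := by
    intro x c'
    simp [μ, Algebra.smul_def]
  -- a representation of the right hand side
  have hrep : ∃ t : Finset A, (↑t ⊆ ((J ^ (k + 1) : Ideal A) : Set A)) ∧ ∃ f : t → C,
      ∑ j, f j • algebraMap A C (j : A) = ∑ i ∈ s, algebraMap A C (e i : A) * c i := by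
    have h' : ∑ i ∈ s, algebraMap A C (e i : A) * c i ∈
        Submodule.span C ((algebraMap A C) '' ((J ^ (k + 1) : Ideal A) : Set A)) := h
    exact (Submodule.mem_span_image_iff_exists_fun C).mp h'
  obtain ⟨t, ht, f, hf⟩ := hrep
  have hle : J ^ (k + 1) ≤ J ^ k := Ideal.pow_le_pow_right (Nat.le_succ k)
  let y : t → ↥(J ^ k) := fun j => ⟨(j : A), hle (ht j.2)⟩
  let w : ↥(J ^ k) ⊗[A] C := ∑ i ∈ s, e i ⊗ₜ[A] c i
  let w' : ↥(J ^ k) ⊗[A] C := ∑ j, y j ⊗ₜ[A] f j
  have hw : w = w' := by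
    apply hμ
    simp only [w, w', map_sum, hμ_tmul]
    rw [← hf]
    refine Finset.sum_congr rfl fun j _ => ?_
    simp [y, mul_comm]
  intro i hi
  let π : ↥(J ^ k) →ₗ[A] (A ⧸ J) :=
    ((β.coord i).restrictScalars A) ∘ₗ (TensorProduct.mk A (A ⧸ J) ↥(J ^ k) 1)
  have hπe : ∀ i', π (e i') = if i' = i then 1 else 0 := by
    intro i'
    simp only [π, LinearMap.comp_apply, TensorProduct.mk_apply, LinearMap.restrictScalars_apply,
      he, Module.Basis.coord_apply, Module.Basis.repr_self, Finsupp.single_apply]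
  have hπy : ∀ j, π (y j) = 0 := by
    intro j
    have : (1 : A ⧸ J) ⊗ₜ[A] y j = 0 := (one_tmul_eq_zero_iff J k (y j)).mpr (ht j.2)
    simp only [π, LinearMap.comp_apply, TensorProduct.mk_apply, this, map_zero]
  have h1 : π.rTensor C w = (1 : A ⧸ J) ⊗ₜ[A] c i := by
    simp only [w, map_sum, LinearMap.rTensor_tmul, hπe]
    rw [Finset.sum_eq_single i]
    · simp
    · intro i' _ hne
      simp [hne]
    · intro hni
      exact absurd hi hni
  have h2 : π.rTensor C w' = 0 := by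
    simp only [w', map_sum, LinearMap.rTensor_tmul, hπy, TensorProduct.zero_tmul,
      Finset.sum_const_zero]
  have h3 : (1 : A ⧸ J) ⊗ₜ[A] c i = 0 := by rw [← h1, hw, h2]
  have h4 := (TensorProduct.quotTensorEquivQuotSMul C J).map_eq_zero_iff.mpr h3
  rw [TensorProduct.quotTensorEquivQuotSMul_mk_one_tmul, Submodule.Quotient.mk_eq_zero,
    Ideal.smul_top_eq_map] at h4
  exact h4

end Aux

theorem alg_dense (A : Type u) [CommRing A] (J : Ideal A) (hJ : IsNilpotent J)
    (hfree : ∀ k : ℕ, Module.Free (A ⧸ J) ((A ⧸ J) ⊗[A] ↥(J ^ k)))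
    (B : Type u) [CommRing B] (φ : A →+* B)
    {α : Type u} (C : α → Type u) [∀ a, CommRing (C a)] (ψ : ∀ a, A →+* C a)
    (hflat : ∀ a, (ψ a).Flat)
    (g : ∀ a, B →+* C a) (hg : ∀ a, (g a).comp φ = ψ a)
    (hred : ∀ b : B, (∀ a, g a b ∈ J.map (ψ a)) → b ∈ J.map φ)
    (b : B) (hb : ∀ a, g a b = 0) : b = 0 := by
  classical
  obtain ⟨N, hN⟩ := hJ
  have key : ∀ k, b ∈ (J ^ k).map φ := by
    intro k
    induction k with
    | zero => simp [Ideal.one_eq_top, Ideal.map_top]
    | succ k ih =>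
      haveI := hfree k
      let β := Module.Free.chooseBasis (A ⧸ J) ((A ⧸ J) ⊗[A] ↥(J ^ k))
      choose e he using fun i => one_tmul_surjective J k (β i)
      have h1 := gen J k φ β e he ih
      obtain ⟨b₁, hb₁, b', hb', hbb⟩ := Submodule.mem_sup.mp h1
      obtain ⟨c, hc⟩ := Finsupp.mem_ideal_span_range_iff_exists_finsupp.mp hb₁
      -- `hc : c.sum (fun i a => a * φ (e i)) = b₁`
      have hcJ : ∀ i ∈ c.support, c i ∈ J.map φ := by
        intro i hi
        apply hred
        intro a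
        letI := (ψ a).toAlgebra
        haveI : Module.Flat A (C a) := hflat a
        have hψ : ∀ x : A, algebraMap A (C a) x = g a (φ x) := fun x => by
          rw [RingHom.algebraMap_toAlgebra, ← hg a]; rfl
        have hmem : ∑ i ∈ c.support, algebraMap A (C a) (e i : A) * g a (c i) ∈
            (J ^ (k + 1)).map (algebraMap A (C a)) := by
          have e1 : ∑ i ∈ c.support, algebraMap A (C a) (e i : A) * g a (c i) = g a b₁ := by
            rw [← hc, Finsupp.sum, map_sum]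
            refine Finset.sum_congr rfl fun i _ => ?_
            rw [map_mul, hψ, mul_comm]
          have e2 : g a b₁ = - g a b' := by
            have := hb a
            rw [← hbb, map_add] at this
            exact eq_neg_of_add_eq_zero_left this
          rw [e1, e2]
          apply Ideal.neg_mem_iff _ |>.mpr
          have : g a b' ∈ Ideal.map (g a) ((J ^ (k + 1)).map φ) := Ideal.mem_map_of_mem _ hb'
          rw [Ideal.map_map, hg a] at this
          exact this
        exact ind J k (C a) β e he c.support (fun i => g a (c i)) hmem i hi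
      rw [← hbb]
      refine Ideal.add_mem _ ?_ hb'
      rw [← hc, Finsupp.sum]
      refine Ideal.sum_mem _ fun i hi => ?_
      rw [pow_succ', Ideal.map_mul]
      exact Ideal.mul_mem_mul (hcJ i hi) (Ideal.mem_map_of_mem _ (e i).2)
  have := key N
  rw [hN] at this
  simpa [Ideal.zero_eq_bot, Ideal.map_bot] using this

end Groth.Agent.H9.SD_ALG
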