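import Mathlib

/-!
# Sections mapping into `J·O` die on the base change to `A/J` (helper9, piece (C1) for helper58 /
S6063)
-/

set_option autoImplicit false
set_option linter.style.haveILetI false
universe u
open CategoryTheory CategoryTheory.Limits AlgebraicGeometry TensorProduct Opposite

namespace Groth.Agent.H9.SD_C1

lemma appLE_congr_hom {T X : Scheme.{u}} {f g : T ⟶ X} (h : f = g) (U : X.Opens) (W : T.Opens)
    (e : W ≤ f ⁻¹ᵁ U) : f.appLE U W e = g.appLE U W (h ▸ e) := by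
  subst h; rfl

/-- Sheaf-theoretic reduction. -/
lemma aux {PZ P X Z : Scheme.{u}} (m : PZ ⟶ P) (fst : P ⟶ X) (fstZ : PZ ⟶ Z) (v : Z ⟶ X)
    (hm : m ≫ fst = fstZ ≫ v) (V : X.Opens) (b : Γ(X, V))
    (hloc : ∀ (W : Z.Opens), IsAffineOpen W → ∀ hWV : W ≤ v ⁻¹ᵁ V,
      fstZ.app W (v.appLE V W hWV b) = 0) :
    m.app (fst ⁻¹ᵁ V) (fst.app V b) = 0 := by
  have hpt : ∀ x : PZ, fst (m x) = v (fstZ x) := fun x => by
    rw [← Scheme.Hom.comp_apply, hm, Scheme.Hom.comp_apply]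
  let O : PZ.Opens := m ⁻¹ᵁ (fst ⁻¹ᵁ V)
  let 𝒰 : {W : Z.Opens // IsAffineOpen W ∧ W ≤ v ⁻¹ᵁ V} → PZ.Opens := fun W => fstZ ⁻¹ᵁ W.1
  have hle : ∀ W, 𝒰 W ≤ O := by
    intro W x hx
    show fst (m x) ∈ V
    rw [hpt]
    exact W.2.2 hx
  have hcov : O ≤ iSup 𝒰 := by
    intro x hx
    have hx' : v (fstZ x) ∈ V := by
      rw [← hpt]; exact hx
    obtain ⟨W, hW, hxW, hWV⟩ := exists_isAffineOpen_mem_and_subset (x := fstZ x)
      (U := v ⁻¹ᵁ V) hx'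
    exact TopologicalSpace.Opens.mem_iSup.mpr ⟨⟨W, hW, hWV⟩, hxW⟩
  refine TopCat.Sheaf.eq_of_locally_eq' PZ.sheaf 𝒰 O (fun W => homOfLE (hle W)) hcov _ 0 ?_
  intro W
  show PZ.presheaf.map (homOfLE (hle W)).op (m.app (fst ⁻¹ᵁ V) (fst.app V b)) =
    PZ.presheaf.map (homOfLE (hle W)).op 0
  rw [map_zero]
  have e1 : fst.app V ≫ m.app (fst ⁻¹ᵁ V) ≫ PZ.presheaf.map (homOfLE (hle W)).op =
      v.appLE V W.1 W.2.2 ≫ fstZ.app W.1 := by
    have e0 : m.app (fst ⁻¹ᵁ V) ≫ PZ.presheaf.map (homOfLE (hle W)).op =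
        m.appLE (fst ⁻¹ᵁ V) (𝒰 W) (hle W) := rfl
    rw [e0, ← Scheme.Hom.comp_appLE, appLE_congr_hom hm, fstZ.app_eq_appLE,
      Scheme.Hom.appLE_comp_appLE]
  have e2 := congr($(e1) b)
  simp only [CommRingCat.comp_apply] at e2
  erw [e2]
  exact hloc W.1 W.2.1 W.2.2

/-- Functions from `J` die on any scheme over `Spec (A/J)`. -/
lemma kill (A : CommRingCat.{u}) (J : Ideal ↑A) {T : Scheme.{u}} (f : T ⟶ Spec A)
    (r : T ⟶ Spec (CommRingCat.of (↑A ⧸ J)))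
    (hf : f = r ≫ Spec.map (CommRingCat.ofHom (Ideal.Quotient.mk J))) (O : T.Opens) (j : ↑A)
    (hj : j ∈ J) :
    ((Scheme.ΓSpecIso A).inv ≫ f.appLE ⊤ O le_top).hom j = 0 := by
  subst hf
  have h1 : (Scheme.ΓSpecIso A).inv ≫ (r ≫ Spec.map (CommRingCat.ofHom
      (Ideal.Quotient.mk J))).appLE ⊤ O le_top =
      CommRingCat.ofHom (Ideal.Quotient.mk J) ≫ (Scheme.ΓSpecIso _).inv ≫
        r.appLE ⊤ O le_top := by
    rw [Scheme.Hom.comp_appLE, ← Category.assoc, ← Category.assoc]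
    congr 1
    exact (Scheme.ΓSpecIso_inv_naturality (CommRingCat.ofHom (Ideal.Quotient.mk J))).symm
  rw [h1]
  simp only [CommRingCat.hom_comp, CommRingCat.hom_ofHom, RingHom.coe_comp, Function.comp_apply]
  rw [Ideal.Quotient.eq_zero_iff_mem.mpr hj, map_zero, map_zero]

theorem map_app_fst_eq_zero {X : Scheme.{u}} (A : CommRingCat.{u}) (p : X ⟶ Spec A) (J : Ideal ↑A)
    {Z : Scheme.{u}} (v : Z ⟶ X) (V : X.Opens) (b : Γ(X, V))
    (hb : ∀ (W : Z.Opens) (_ : IsAffineOpen W) (hWV : W ≤ v ⁻¹ᵁ V),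
      (v.appLE V W hWV).hom b ∈
        J.map ((Scheme.ΓSpecIso A).inv ≫ (v ≫ p).appLE ⊤ W le_top).hom) :
    (pullback.map (v ≫ p) (Spec.map (CommRingCat.ofHom (Ideal.Quotient.mk J))) p
        (Spec.map (CommRingCat.ofHom (Ideal.Quotient.mk J))) v (𝟙 _) (𝟙 _)
        (Category.comp_id _) ((Category.comp_id _).trans (Category.id_comp _).symm)).app
      (pullback.fst p (Spec.map (CommRingCat.ofHom (Ideal.Quotient.mk J))) ⁻¹ᵁ V)
      ((pullback.fst p (Spec.map (CommRingCat.ofHom (Ideal.Quotient.mk J)))).app V b) = 0 := by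
  set q := Spec.map (CommRingCat.ofHom (Ideal.Quotient.mk J)) with hq
  refine aux _ (pullback.fst p q) (pullback.fst (v ≫ p) q) v (by rw [pullback.map]; exact pullback.lift_fst _ _ _) V b ?_
  intro W hW hWV
  have hmem := hb W hW hWV
  -- `fstZ.app W` kills `J.map ψ_W`
  have hkill : J.map ((Scheme.ΓSpecIso A).inv ≫ (v ≫ p).appLE ⊤ W le_top).hom ≤
      RingHom.ker ((pullback.fst (v ≫ p) q).app W).hom := by
    rw [Ideal.map_le_iff_le_comap]
    intro j hj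
    show ((pullback.fst (v ≫ p) q).app W).hom
      (((Scheme.ΓSpecIso A).inv ≫ (v ≫ p).appLE ⊤ W le_top).hom j) = 0
    have h2 := kill A J (pullback.fst (v ≫ p) q ≫ (v ≫ p)) (pullback.snd (v ≫ p) q)
      pullback.condition (pullback.fst (v ≫ p) q ⁻¹ᵁ W) j hj
    have h3 : (Scheme.ΓSpecIso A).inv ≫ (pullback.fst (v ≫ p) q ≫ (v ≫ p)).appLE ⊤
        (pullback.fst (v ≫ p) q ⁻¹ᵁ W) le_top =
        ((Scheme.ΓSpecIso A).inv ≫ (v ≫ p).appLE ⊤ W le_top) ≫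
          (pullback.fst (v ≫ p) q).app W := by
      rw [Category.assoc, (pullback.fst (v ≫ p) q).app_eq_appLE, Scheme.Hom.appLE_comp_appLE]
    rw [h3] at h2
    exact h2
  exact hkill hmem

end Groth.Agent.H9.SD_C1
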