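import Mathlib

/-!
# Sections with Cartier ideal: the fibre is a DVR at the section (helper9), algebra part.
-/

set_option autoImplicit false
set_option linter.style.haveILetI false
set_option linter.unusedSectionVars false
universe u
open IsLocalRing

namespace Groth.Agent.H9.SectionDVR

/-- A noetherian local ring whose maximal ideal is generated by a nonzerodivisor is a DVR. -/
theorem isDVR_of_maximalIdeal_eq_span_nzd {C : Type u} [CommRing C] [IsLocalRing C]
    [IsNoetherianRing C] (u : C) (hu : u ∈ nonZeroDivisors C)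
    (hm : maximalIdeal C = Ideal.span {u}) :
    ∃ _ : IsDomain C, IsDiscreteValuationRing C := by
  have hpow_ne : ∀ k : ℕ, u ^ k ≠ 0 := fun k =>
    nonZeroDivisors.ne_zero (pow_mem hu k)
  have hmk : ∀ k : ℕ, maximalIdeal C ^ k = Ideal.span {u ^ k} := fun k => by
    rw [hm, Ideal.span_singleton_pow]
  -- every nonzero element is a unit times a power of `u`
  have hfac : ∀ x : C, x ≠ 0 → ∃ (n : ℕ) (v : C), IsUnit v ∧ x = u ^ n * v := by
    intro x hx
    have hK : (⨅ n : ℕ, maximalIdeal C ^ n) = ⊥ :=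
      Ideal.iInf_pow_eq_bot_of_isLocalRing _ (maximalIdeal.isMaximal C).ne_top
    have hex : ∃ n : ℕ, x ∉ maximalIdeal C ^ n := by
      by_contra hcon
      push Not at hcon
      have : x ∈ (⨅ n : ℕ, maximalIdeal C ^ n) := (Ideal.mem_iInf).mpr hcon
      rw [hK] at this
      exact hx (Ideal.mem_bot.mp this)
    classical
    let n := Nat.find hex
    have hn : x ∉ maximalIdeal C ^ n := Nat.find_spec hex
    have hn0 : n ≠ 0 := by
      intro h0
      rw [h0, pow_zero] at hn
      rw [Ideal.one_eq_top] at hn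
      exact hn Submodule.mem_top
    obtain ⟨k, hk⟩ := Nat.exists_eq_succ_of_ne_zero hn0
    have hk' : x ∈ maximalIdeal C ^ k := by
      by_contra hcon
      have := Nat.find_min' hex hcon
      omega
    rw [hmk, Ideal.mem_span_singleton'] at hk'
    obtain ⟨v, hv⟩ := hk'
    refine ⟨k, v, ?_, by rw [← hv, mul_comm]⟩
    by_contra hnu
    have hvm : v ∈ maximalIdeal C := hnu
    rw [hm, Ideal.mem_span_singleton'] at hvm
    obtain ⟨w, hw⟩ := hvm
    apply hn
    rw [hk, hmk, Ideal.mem_span_singleton']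
    exact ⟨w, by rw [← hv, ← hw, pow_succ]; ring⟩
  have hdom : IsDomain C := by
    have : NoZeroDivisors C := ⟨by
      intro x y hxy
      by_contra hcon
      push Not at hcon
      obtain ⟨n, v, hv, rfl⟩ := hfac x hcon.1
      obtain ⟨m, w, hw, rfl⟩ := hfac y hcon.2
      have h1 : u ^ (n + m) * (v * w) = 0 := by rw [← hxy, pow_add]; ring
      have h2 := (hv.mul hw).mul_left_eq_zero.mp h1
      exact hpow_ne _ h2⟩
    exact NoZeroDivisors.to_isDomain C
  refine ⟨hdom, ?_⟩
  have hnf : ¬ IsField C := by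
    rw [IsLocalRing.isField_iff_maximalIdeal_eq, hm, Ideal.span_singleton_eq_bot]
    simpa using hpow_ne 1
  have h4 : (maximalIdeal C).IsPrincipal := ⟨u, hm⟩
  exact ((IsDiscreteValuationRing.TFAE C hnf).out 0 4).mpr h4

section
variable {A₀ A B : Type u} [CommRing A₀] [CommRing A] [CommRing B]
  [IsLocalRing A₀] [IsLocalRing B]
  (φ : A₀ →+* B) [IsLocalHom φ] (σ : B →+* A) (hbij : Function.Bijective (σ.comp φ))
  (t : B) (ht : t ∈ nonZeroDivisors B) (hker : RingHom.ker σ = Ideal.span {t})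

include hbij hker in
/-- every element of `B` is `φ a + t c`. -/
theorem exists_decomp (b : B) : ∃ (a : A₀) (c : B), b = φ a + t * c ∧ σ b = σ (φ a) := by
  obtain ⟨a, ha⟩ := hbij.2 (σ b)
  have h : b - φ a ∈ RingHom.ker σ := by
    rw [RingHom.mem_ker, map_sub, sub_eq_zero]
    exact ha.symm
  rw [hker, Ideal.mem_span_singleton'] at h
  obtain ⟨c, hc⟩ := h
  exact ⟨a, c, by rw [mul_comm, hc]; ring, ha.symm⟩

include hbij ht hker in
/-- `t` is a nonzerodivisor modulo `m_{A₀} B`. -/
theorem mem_of_mul_mem (b : B) (hb : t * b ∈ (maximalIdeal A₀).map φ) :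
    b ∈ (maximalIdeal A₀).map φ := by
  classical
  have hσt : σ t = 0 := by
    rw [← RingHom.mem_ker, hker]; exact Ideal.mem_span_singleton_self t
  -- general claim: every element `z` of `m B` is `φ a + t * c` with `a ∈ m`, `c ∈ m B`
  have key : ∀ z ∈ (maximalIdeal A₀).map φ, ∃ a ∈ maximalIdeal A₀,
      ∃ c ∈ (maximalIdeal A₀).map φ, z = φ a + t * c := by
    intro z hz
    refine Submodule.span_induction ?_ ?_ ?_ ?_ hz
    · rintro _ ⟨a, ha, rfl⟩
      exact ⟨a, ha, 0, Ideal.zero_mem _, by simp⟩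
    · exact ⟨0, Ideal.zero_mem _, 0, Ideal.zero_mem _, by simp⟩
    · rintro z₁ z₂ - - ⟨a₁, ha₁, c₁, hc₁, rfl⟩ ⟨a₂, ha₂, c₂, hc₂, rfl⟩
      exact ⟨a₁ + a₂, Ideal.add_mem _ ha₁ ha₂, c₁ + c₂, Ideal.add_mem _ hc₁ hc₂, by
        rw [map_add]; ring⟩
    · rintro r z - ⟨a, ha, c, hc, rfl⟩
      obtain ⟨a', c', hr, -⟩ := exists_decomp φ σ hbij t hker r
      refine ⟨a' * a, Ideal.mul_mem_left _ _ ha, c' * φ a + r * c, ?_, ?_⟩
      · exact Ideal.add_mem _ (Ideal.mul_mem_left _ _ (Ideal.mem_map_of_mem _ ha))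
          (Ideal.mul_mem_left _ _ hc)
      · rw [smul_eq_mul, map_mul]
        have h1 : r * φ a = (φ a' + t * c') * φ a := by rw [← hr]
        linear_combination h1
  obtain ⟨a, ha, c, hc, h⟩ := key _ hb
  have h0 : σ (φ a) = 0 := by
    have := congrArg σ h
    rw [map_mul, hσt, zero_mul, map_add, map_mul, hσt, zero_mul, add_zero] at this
    exact this.symm
  have ha0 : a = 0 := hbij.1 (by simpa using h0)
  rw [ha0, map_zero, zero_add] at h
  have h2 : b = c := by
    have := (mem_nonZeroDivisors_iff.mp ht).1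
    have h3 : t * (b - c) = 0 := by rw [mul_sub, h, sub_self]
    exact sub_eq_zero.mp (this _ h3)
  rw [h2]; exact hc

include hbij hker in
theorem t_mem_maximalIdeal : t ∈ maximalIdeal B := by
  intro hu
  have h1 : RingHom.ker σ = ⊤ := by
    rw [hker]; exact Ideal.span_singleton_eq_top.mpr hu
  have h2 : σ (φ 1) = σ (φ 0) := by
    have : ∀ b, σ b = 0 := fun b => by rw [← RingHom.mem_ker, h1]; trivial
    rw [this, this]
  exact one_ne_zero (hbij.1 h2)

include hbij hker in
theorem maximalIdeal_le_sup : maximalIdeal B ≤ (maximalIdeal A₀).map φ ⊔ Ideal.span {t} := by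
  intro b hb
  obtain ⟨a, c, hbc, -⟩ := exists_decomp φ σ hbij t hker b
  have ha : a ∈ maximalIdeal A₀ := by
    intro hu
    have h1 : IsUnit (φ a) := hu.map φ
    have h2 : φ a = b - t * c := by rw [hbc]; ring
    have h3 : φ a ∈ maximalIdeal B := by
      rw [h2]
      exact Ideal.sub_mem _ hb (Ideal.mul_mem_right _ _ (t_mem_maximalIdeal φ σ hbij t hker))
    exact h3 h1
  rw [hbc]
  exact Ideal.add_mem _ (Ideal.mem_sup_left (Ideal.mem_map_of_mem _ ha))
    (Ideal.mem_sup_right (Ideal.mul_mem_right _ _ (Ideal.mem_span_singleton_self t)))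

include hbij ht hker in
theorem isDVR_quotient [IsNoetherianRing (B ⧸ (maximalIdeal A₀).map φ)] :
    ∃ (_ : IsLocalRing (B ⧸ (maximalIdeal A₀).map φ)) (_ : IsDomain (B ⧸ (maximalIdeal A₀).map φ)),
      IsDiscreteValuationRing (B ⧸ (maximalIdeal A₀).map φ) := by
  have hne : (maximalIdeal A₀).map φ ≠ ⊤ := (IsLocalRing.map_maximalIdeal_lt_top φ).ne
  haveI : Nontrivial (B ⧸ (maximalIdeal A₀).map φ) := Ideal.Quotient.nontrivial_iff.mpr hne
  haveI hloc : IsLocalRing (B ⧸ (maximalIdeal A₀).map φ) :=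
    IsLocalRing.of_surjective' (Ideal.Quotient.mk _) Ideal.Quotient.mk_surjective
  have hu : Ideal.Quotient.mk ((maximalIdeal A₀).map φ) t ∈
      nonZeroDivisors (B ⧸ (maximalIdeal A₀).map φ) := by
    rw [mem_nonZeroDivisors_iff_right]
    intro x hx
    obtain ⟨b, rfl⟩ := Ideal.Quotient.mk_surjective x
    rw [← map_mul, Ideal.Quotient.eq_zero_iff_mem, mul_comm] at hx
    exact Ideal.Quotient.eq_zero_iff_mem.mpr (mem_of_mul_mem φ σ hbij t ht hker b hx)
  have hm : maximalIdeal (B ⧸ (maximalIdeal A₀).map φ) =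
      Ideal.span {Ideal.Quotient.mk ((maximalIdeal A₀).map φ) t} := by
    have h1 := IsLocalRing.map_maximalIdeal_of_surjective
      (Ideal.Quotient.mk ((maximalIdeal A₀).map φ)) Ideal.Quotient.mk_surjective
    rw [← h1]
    apply le_antisymm
    · refine (Ideal.map_mono (maximalIdeal_le_sup φ σ hbij t hker)).trans ?_
      rw [Ideal.map_sup, Ideal.map_span, Set.image_singleton, Ideal.map_quotient_self, bot_sup_eq]
    · rw [Ideal.span_le, Set.singleton_subset_iff]
      exact Ideal.mem_map_of_mem _ (t_mem_maximalIdeal φ σ hbij t hker)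
  obtain ⟨hd, hdvr⟩ := isDVR_of_maximalIdeal_eq_span_nzd _ hu hm
  exact ⟨hloc, hd, hdvr⟩
end

end Groth.Agent.H9.SectionDVR
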