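import Groth.Agent.H15.Depth
import Groth.Agent.H15.DepthSpread
import Mathlib.RingTheory.KrullDimension.NonZeroDivisors

/-!
# Depth and Serre's condition for the quotient of a Noetherian local ring by a nonzerodivisor
-/

set_option autoImplicit false
universe u

open Groth.Agent.H15.Depth Groth.Agent.H15.DepthSpread
open scoped Pointwise

namespace Groth.Agent.H9

theorem withBot_le_of_add_one_le_add_one (a : WithBot ℕ∞) (b : ℕ∞)
    (h : a + 1 ≤ ((b + 1 : ℕ∞) : WithBot ℕ∞)) : a ≤ (b : WithBot ℕ∞) := by
  induction a using WithBot.recBotCoe with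
  | bot => exact bot_le
  | coe a' =>
    have h' : ((a' + 1 : ℕ∞) : WithBot ℕ∞) ≤ ((b + 1 : ℕ∞) : WithBot ℕ∞) := by exact_mod_cast h
    rw [WithBot.coe_le_coe] at h'
    rw [WithBot.coe_le_coe]
    induction b using ENat.recTopCoe with
    | top => exact le_top
    | coe m =>
      induction a' using ENat.recTopCoe with
      | top =>
        rw [top_add, top_le_iff] at h'
        exact absurd h' (by exact_mod_cast ENat.coe_ne_top (m + 1))
      | coe n =>
        have h2 : n + 1 ≤ m + 1 := by exact_mod_cast h'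
        have h3 : n ≤ m := by omega
        exact_mod_cast h3

/-- Depth does not decrease on passing from a local ring to a local quotient ring (as base ring). -/
theorem idealDepth_le_of_surjective {A B : Type u} [CommRing A] [CommRing B] [IsLocalRing A]
    [IsLocalRing B] [Algebra A B] [IsLocalHom (algebraMap A B)]
    (N : Type u) [AddCommGroup N] [Module A N] [Module B N] [IsScalarTower A B N] :
    LocCoh.idealDepth (IsLocalRing.maximalIdeal A) N ≤
      LocCoh.idealDepth (IsLocalRing.maximalIdeal B) N := by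
  have hmap : ∀ a ∈ IsLocalRing.maximalIdeal A, algebraMap A B a ∈ IsLocalRing.maximalIdeal B := by
    intro a ha
    rw [IsLocalRing.mem_maximalIdeal, mem_nonunits_iff] at ha ⊢
    exact fun h => ha (isUnit_of_map_unit (algebraMap A B) a h)
  by_cases hB : IsLocalRing.maximalIdeal B • (⊤ : Submodule B N) = ⊤
  · rw [idealDepth_eq_top_of_smul_top_eq_top hB]
    exact le_top
  have hA : IsLocalRing.maximalIdeal A • (⊤ : Submodule A N) ≠ ⊤ := by
    intro hA
    apply hB
    rw [eq_top_iff]
    intro n _
    have hn : n ∈ IsLocalRing.maximalIdeal A • (⊤ : Submodule A N) := by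
      rw [hA]; exact Submodule.mem_top
    refine Submodule.smul_induction_on hn (fun a ha m _ => ?_) (fun x y hx hy => add_mem hx hy)
    rw [← algebraMap_smul B a m]
    exact Submodule.smul_mem_smul (hmap a ha) Submodule.mem_top
  unfold LocCoh.idealDepth
  rw [if_neg hA, if_neg hB]
  refine iSup₂_le (fun rs hrs => ?_)
  refine le_iSup₂_of_le (rs.map (algebraMap A B))
    ⟨(RingTheory.Sequence.isWeaklyRegular_map_algebraMap_iff B N rs).2 hrs.1, ?_⟩ (by simp)
  intro r hr
  obtain ⟨a, ha, rfl⟩ := List.mem_map.1 hr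
  exact hmap a (hrs.2 a ha)

theorem depth_le_depth_quotient_add_one {A B : Type u} [CommRing A] [CommRing B] [IsLocalRing A]
    [IsLocalRing B] [IsNoetherianRing A] [Algebra A B] [IsLocalHom (algebraMap A B)]
    (hψ : Function.Surjective (algebraMap A B)) (t : A) (ht : t ∈ nonZeroDivisors A)
    (htm : t ∈ IsLocalRing.maximalIdeal A)
    (hker : RingHom.ker (algebraMap A B) = Ideal.span {t}) :
    LocCoh.depth A A ≤ LocCoh.depth B B + 1 := by
  unfold LocCoh.depth
  have hIM : IsLocalRing.maximalIdeal A • (⊤ : Submodule A A) ≠ ⊤ := by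
    rw [Ideal.smul_top_eq_map, Algebra.algebraMap_self, Ideal.map_id]
    intro h
    exact (IsLocalRing.maximalIdeal.isMaximal A).ne_top (by simpa using h)
  have hreg : IsSMulRegular A t := by
    intro a b hab
    have hab' : t * a = t * b := hab
    have h0 : (a - b) * t = 0 := by rw [mul_comm, mul_sub, hab', sub_self]
    exact sub_eq_zero.1 ((mem_nonZeroDivisors_iff_right.1 ht) _ h0)
  have h1 := idealDepth_quotSMulTop_add_one hIM htm hreg
  have hsub : (t • (⊤ : Submodule A A)) = LinearMap.ker (Algebra.linearMap A B) := by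
    ext a
    rw [Groth.Agent.H15.DepthOne.mem_smul_top_iff, LinearMap.mem_ker, Algebra.linearMap_apply,
      ← RingHom.mem_ker, hker, Ideal.mem_span_singleton']
    constructor
    · rintro ⟨c, rfl⟩; exact ⟨c, mul_comm c t⟩
    · rintro ⟨c, rfl⟩; exact ⟨c, mul_comm t c⟩
  let e : QuotSMulTop t A ≃ₗ[A] B :=
    (Submodule.quotEquivOfEq _ _ hsub).trans
      ((Algebra.linearMap A B).quotKerEquivOfSurjective hψ)
  have h2 : LocCoh.idealDepth (IsLocalRing.maximalIdeal A) (QuotSMulTop t A) =
      LocCoh.idealDepth (IsLocalRing.maximalIdeal A) B := idealDepth_congr e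
  have h3 : LocCoh.idealDepth (IsLocalRing.maximalIdeal A) B ≤
      LocCoh.idealDepth (IsLocalRing.maximalIdeal B) B := idealDepth_le_of_surjective B
  rw [← h1, h2]
  gcongr

/-- Serre's condition `(S_k)` for a Noetherian local ring gives `(S_{k-1})` for its quotient by a
nonzerodivisor of the maximal ideal (at the closed point). -/
theorem sk_quotient {A B : Type u} [CommRing A] [CommRing B] [IsLocalRing A]
    [IsLocalRing B] [IsNoetherianRing A] [Algebra A B] [IsLocalHom (algebraMap A B)]
    (hψ : Function.Surjective (algebraMap A B)) (t : A) (ht : t ∈ nonZeroDivisors A)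
    (htm : t ∈ IsLocalRing.maximalIdeal A)
    (hker : RingHom.ker (algebraMap A B) = Ideal.span {t}) (k : ℕ)
    (h : min (k : WithBot ℕ∞) (ringKrullDim A) ≤ ((LocCoh.depth A A : ℕ∞) : WithBot ℕ∞)) :
    min ((k - 1 : ℕ) : WithBot ℕ∞) (ringKrullDim B) ≤
      ((LocCoh.depth B B : ℕ∞) : WithBot ℕ∞) := by
  have hdepth := depth_le_depth_quotient_add_one hψ t ht htm hker
  have hdim : ringKrullDim B + 1 ≤ ringKrullDim A := by
    have e1 : (A ⧸ Ideal.span {t}) ≃+* B :=
      (Ideal.quotEquivOfEq hker.symm).trans (RingHom.quotientKerEquivOfSurjective hψ)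
    rw [← ringKrullDim_eq_of_ringEquiv e1]
    exact ringKrullDim_quotient_succ_le_of_nonZeroDivisor ht
  have h' : min (k : WithBot ℕ∞) (ringKrullDim A) ≤
      ((LocCoh.depth B B + 1 : ℕ∞) : WithBot ℕ∞) := h.trans (WithBot.coe_le_coe.2 hdepth)
  rcases Nat.eq_zero_or_pos k with hk | hk
  · subst hk
    refine (min_le_left _ _).trans ?_
    have : ((0 - 1 : ℕ) : WithBot ℕ∞) = ((0 : ℕ∞) : WithBot ℕ∞) := by norm_num
    rw [this, WithBot.coe_le_coe]
    exact zero_le
  · obtain ⟨k', rfl⟩ : ∃ k', k = k' + 1 := ⟨k - 1, by omega⟩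
    simp only [Nat.add_sub_cancel]
    rcases min_le_iff.1 h' with h1 | h1
    · exact (min_le_left _ _).trans
        (withBot_le_of_add_one_le_add_one _ _ (by exact_mod_cast h1))
    · exact (min_le_right _ _).trans
        (withBot_le_of_add_one_le_add_one _ _ (hdim.trans h1))

end Groth.Agent.H9
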